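import Cfsg.Prelude.Def_Balance
import Cfsg.Agent.Lib.Cores.Basic

/-!
# Cores of centralizers and of other subgroups, seen inside the whole group

Owner: helper33. Namespace `Cfsg.Agent.Lib.Balance`.
* `coreIn p H`: the subgroup `O_{p'}(H)` of the ambient group; `le_coreIn` is the universal property.
* `centralizerPPrimeCore` and `signalizerDelta`: elementary API.
* `core_centralizer_inf_le`: `O_{p'}(C x) ⊓ C y ≤ O_{p'}(C x ⊓ C y)`.
* `isBalanced_iff_isKBalanced`.
-/

set_option autoImplicit false
set_option linter.style.haveILetI false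
open Cfsg

namespace Cfsg.Agent.Lib.Balance

variable {G : Type*} [Group G] {G' : Type*} [Group G'] {p : ℕ}

/-- `O_{p'}(H)` as a subgroup of the ambient group. -/
def coreIn (p : ℕ) (H : Subgroup G) : Subgroup G := (pPrimeCore p ↥H).map H.subtype

theorem coreIn_le (H : Subgroup G) : coreIn p H ≤ H := Subgroup.map_subtype_le _

theorem le_normalizer_coreIn (H : Subgroup G) :
    H ≤ Subgroup.normalizer (coreIn p H : Set G) := by
  intro h hh
  rw [Subgroup.mem_normalizer_iff]
  intro x
  constructor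
  · rintro ⟨y, hy, rfl⟩
    exact ⟨⟨h, hh⟩ * y * ⟨h, hh⟩⁻¹,
      (pPrimeCore_normal p ↥H).conj_mem y hy ⟨h, hh⟩, rfl⟩
  · rintro ⟨y, hy, he⟩
    refine ⟨⟨h, hh⟩⁻¹ * y * ⟨h, hh⟩, ?_, ?_⟩
    · simpa using (pPrimeCore_normal p ↥H).conj_mem y hy ⟨h, hh⟩⁻¹
    · have he' : (y : G) = h * x * h⁻¹ := he
      simp only [map_mul, map_inv, Subgroup.coe_subtype, he']
      group

theorem card_coreIn (H : Subgroup G) :
    Nat.card ↥(coreIn p H) = Nat.card ↥(pPrimeCore p ↥H) :=
  Nat.card_congr ((pPrimeCore p ↥H).equivMapOfInjective _ H.subtype_injective).symm.toEquiv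

theorem coreIn_coprime [Finite G] (H : Subgroup G) : (Nat.card ↥(coreIn p H)).Coprime p := by
  rw [card_coreIn]
  exact Cores.pPrimeCore_coprime p

theorem not_dvd_card_coreIn [Finite G] [hp : Fact p.Prime] (H : Subgroup G) :
    ¬ p ∣ Nat.card ↥(coreIn p H) :=
  hp.out.coprime_iff_not_dvd.1 (coreIn_coprime H).symm

/-- A subgroup of `H` of order prime to `p` and normalized by `H` lies in `O_{p'}(H)`. -/
theorem le_coreIn {H N : Subgroup G} (hNH : N ≤ H) (hn : H ≤ Subgroup.normalizer (N : Set G))
    (hc : (Nat.card ↥N).Coprime p) : N ≤ coreIn p H := by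
  haveI : (N.subgroupOf H).Normal := (Subgroup.normal_subgroupOf_iff_le_normalizer hNH).2 hn
  have h1 : (Nat.card ↥(N.subgroupOf H)).Coprime p := by
    rwa [Nat.card_congr (Subgroup.subgroupOfEquivOfLe hNH).toEquiv]
  intro x hx
  exact ⟨⟨x, hNH hx⟩, Cores.le_pPrimeCore h1 hx, rfl⟩

theorem le_coreIn_of_not_dvd [hp : Fact p.Prime] {H N : Subgroup G} (hNH : N ≤ H)
    (hn : H ≤ Subgroup.normalizer (N : Set G)) (hc : ¬ p ∣ Nat.card ↥N) : N ≤ coreIn p H :=
  le_coreIn hNH hn (hp.out.coprime_iff_not_dvd.2 hc).symm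

theorem coreIn_top (p : ℕ) : coreIn p (⊤ : Subgroup G) = pPrimeCore p G :=
  Cores.map_pPrimeCore_equiv (p := p) (Subgroup.topEquiv (G := G))

/-- `O_{p'}(K) ∩ H ≤ O_{p'}(H)` for `H ≤ K`. -/
theorem coreIn_inf_le [Finite G] {H K : Subgroup G} (hHK : H ≤ K) :
    coreIn p K ⊓ H ≤ coreIn p H :=
  le_coreIn inf_le_right
    (fun h hh => by
      have h1 := le_normalizer_coreIn (p := p) K (hHK hh)
      rw [Subgroup.mem_normalizer_iff] at h1 ⊢
      intro x
      rw [Subgroup.mem_inf, Subgroup.mem_inf, ← h1 x,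
        H.mul_mem_cancel_right (H.inv_mem hh), H.mul_mem_cancel_left hh])
    ((coreIn_coprime K).coprime_dvd_left (Subgroup.card_dvd_of_le inf_le_left))

/-- A normal subgroup `H` of `K` has `O_{p'}(H) ≤ O_{p'}(K)`. -/
theorem coreIn_le_coreIn [Finite G] {H K : Subgroup G} (hHK : H ≤ K)
    (hn : K ≤ Subgroup.normalizer (H : Set G)) : coreIn p H ≤ coreIn p K := by
  haveI : (H.subgroupOf K).Normal := (Subgroup.normal_subgroupOf_iff_le_normalizer hHK).2 hn
  haveI := Cores.normal_map_subtype (H.subgroupOf K) (pPrimeCore p ↥(H.subgroupOf K))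
  have h1 : (pPrimeCore p ↥(H.subgroupOf K)).map (H.subgroupOf K).subtype ≤ pPrimeCore p ↥K :=
    Cores.le_pPrimeCore ((Cores.pPrimeCore_coprime p).coprime_dvd_left (Subgroup.card_map_dvd _ _))
  refine le_trans (le_of_eq ?_) (Subgroup.map_mono h1)
  rw [coreIn, ← Cores.map_pPrimeCore_equiv (Subgroup.subgroupOfEquivOfLe hHK), Subgroup.map_map,
    Subgroup.map_map]
  rfl

theorem map_coreIn (e : G ≃* G') (H : Subgroup G) :
    (coreIn p H).map e.toMonoidHom = coreIn p (H.map e.toMonoidHom) := by
  show _ = coreIn p (H.map (e : G →* G'))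
  rw [coreIn, coreIn, ← Cores.map_pPrimeCore_equiv (p := p) (e.subgroupMap H), Subgroup.map_map,
    Subgroup.map_map]
  rfl

/-! ### `centralizerPPrimeCore` -/

theorem centralizerPPrimeCore_eq (x : G) :
    centralizerPPrimeCore p x = coreIn p (Subgroup.centralizer ({x} : Set G)) := rfl

theorem centralizerPPrimeCore_le (x : G) :
    centralizerPPrimeCore p x ≤ Subgroup.centralizer ({x} : Set G) := coreIn_le _

theorem not_dvd_card_centralizerPPrimeCore [Finite G] [Fact p.Prime] (x : G) :
    ¬ p ∣ Nat.card ↥(centralizerPPrimeCore p x) := not_dvd_card_coreIn _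

theorem map_centralizer_singleton (e : G ≃* G') (x : G) :
    (Subgroup.centralizer ({x} : Set G)).map e.toMonoidHom = Subgroup.centralizer ({e x} : Set G') := by
  ext y
  rw [Subgroup.mem_centralizer_singleton_iff, Subgroup.mem_map]
  constructor
  · rintro ⟨z, hz, rfl⟩
    rw [Subgroup.mem_centralizer_singleton_iff] at hz
    simpa [← map_mul] using congrArg e hz
  · intro h
    refine ⟨e.symm y, ?_, by simp⟩
    rw [Subgroup.mem_centralizer_singleton_iff]
    apply e.injective
    simpa using h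

theorem map_centralizerPPrimeCore (e : G ≃* G') (x : G) :
    (centralizerPPrimeCore p x).map e.toMonoidHom = centralizerPPrimeCore p (e x) := by
  rw [centralizerPPrimeCore_eq, centralizerPPrimeCore_eq, map_coreIn, map_centralizer_singleton]

theorem centralizerPPrimeCore_conj (g x : G) :
    centralizerPPrimeCore p (g * x * g⁻¹) =
      (centralizerPPrimeCore p x).map (MulAut.conj g).toMonoidHom := by
  rw [map_centralizerPPrimeCore]
  rfl

/-- Elements commuting with `x` normalize `O_{p'}(C(x))`. -/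
theorem centralizer_le_normalizer_centralizerPPrimeCore (x : G) :
    Subgroup.centralizer ({x} : Set G) ≤ Subgroup.normalizer (centralizerPPrimeCore p x : Set G) :=
  le_normalizer_coreIn _

/-- `O_{p'}(C x) ∩ C y ≤ O_{p'}(C x ∩ C y)`. -/
theorem core_centralizer_inf_le [Finite G] (x y : G) :
    centralizerPPrimeCore p x ⊓ Subgroup.centralizer ({y} : Set G) ≤
      coreIn p (Subgroup.centralizer ({x} : Set G) ⊓ Subgroup.centralizer ({y} : Set G)) :=
  le_trans (le_inf inf_le_left
      (le_inf (inf_le_left.trans (centralizerPPrimeCore_le x)) inf_le_right))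
    (coreIn_inf_le inf_le_left)

/-! ### `signalizerDelta` -/

theorem mem_signalizerDelta {A : Subgroup G} {g : G} :
    g ∈ signalizerDelta p A ↔ ∀ a ∈ A, a ≠ 1 → g ∈ centralizerPPrimeCore p a := by
  rw [signalizerDelta, Subgroup.mem_iInf]
  exact ⟨fun h a ha h1 => h ⟨a, ha, h1⟩, fun h a => h a a.2.1 a.2.2⟩

theorem signalizerDelta_le {A : Subgroup G} {a : G} (ha : a ∈ A) (h1 : a ≠ 1) :
    signalizerDelta p A ≤ centralizerPPrimeCore p a := fun _ h => mem_signalizerDelta.1 h a ha h1

theorem signalizerDelta_antitone {A B : Subgroup G} (h : A ≤ B) :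
    signalizerDelta p B ≤ signalizerDelta p A :=
  fun _ hg => mem_signalizerDelta.2 fun a ha h1 => mem_signalizerDelta.1 hg a (h ha) h1

theorem map_signalizerDelta (e : G ≃* G') (A : Subgroup G) :
    (signalizerDelta p A).map e.toMonoidHom = signalizerDelta p (A.map e.toMonoidHom) := by
  ext y
  rw [Subgroup.mem_map_equiv, mem_signalizerDelta, mem_signalizerDelta]
  constructor
  · rintro h b ⟨a, ha, rfl⟩ hb
    show y ∈ centralizerPPrimeCore p (e a)
    rw [← map_centralizerPPrimeCore, Subgroup.mem_map_equiv]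
    exact h a ha fun h1 => hb (by simp [h1])
  · intro h a ha h1
    have := h (e a) ⟨a, ha, rfl⟩ (by simpa using h1)
    rwa [← map_centralizerPPrimeCore, Subgroup.mem_map_equiv] at this

theorem signalizerDelta_zpowers [Finite G] (hp : p.Prime) {x : G} (hx : orderOf x = p) :
    signalizerDelta p (Subgroup.zpowers x) = centralizerPPrimeCore p x := by
  have hx1 : x ≠ 1 := fun h => hp.ne_one (by rw [← hx, h, orderOf_one])
  refine le_antisymm (signalizerDelta_le (Subgroup.mem_zpowers x) hx1) fun g hg => ?_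
  rw [mem_signalizerDelta]
  intro a ha ha1
  haveI : Fact p.Prime := ⟨hp⟩
  have hcard : Nat.card ↥(Subgroup.zpowers x) = p := by rw [Nat.card_zpowers, hx]
  have hgen : Subgroup.zpowers a = Subgroup.zpowers x := by
    refine Subgroup.eq_of_le_of_card_ge (Subgroup.zpowers_le.2 ha) ?_
    have h2 := (Subgroup.zpowers a).one_lt_card_iff_ne_bot.2 (by simpa using ha1)
    have h3 : Nat.card ↥(Subgroup.zpowers a) ∣ p :=
      hcard ▸ Subgroup.card_dvd_of_le (Subgroup.zpowers_le.2 ha)
    rcases (Nat.dvd_prime hp).1 h3 with h4 | h4 <;> omega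
  have hcent : Subgroup.centralizer ({a} : Set G) = Subgroup.centralizer ({x} : Set G) := by
    rw [← Subgroup.centralizer_closure ({a} : Set G), ← Subgroup.centralizer_closure ({x} : Set G),
      ← Subgroup.zpowers_eq_closure, ← Subgroup.zpowers_eq_closure, hgen]
  rw [centralizerPPrimeCore_eq, hcent]
  exact hg

/-! ### Balance -/

theorem isBalanced_iff_isKBalanced [Finite G] : IsBalanced G ↔ IsKBalanced 2 1 G := by
  constructor
  · intro h A hA hcard b hb hcomm
    rw [pow_one] at hcard
    obtain ⟨x, hx, hx1⟩ := A.nontrivial_iff_exists_ne_one.1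
      (Finite.one_lt_card_iff_nontrivial.1 (by omega))
    have hox : orderOf x = 2 := orderOf_eq_prime (hA.2 x hx) hx1
    refine le_trans (inf_le_inf_right _ (signalizerDelta_le hx hx1)) ?_
    rw [h x b hox hb (hcomm x hx)]
    exact inf_le_left
  · intro h
    have key : ∀ x y : G, orderOf x = 2 → orderOf y = 2 → x * y = y * x →
        centralizerPPrimeCore 2 x ⊓ Subgroup.centralizer {y} ≤
          centralizerPPrimeCore 2 y ⊓ Subgroup.centralizer {x} := by
      intro x y hx hy hxy
      have hA : IsElementaryAbelian 2 (Subgroup.zpowers x) :=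
        ⟨inferInstance, fun a ha => by
          obtain ⟨n, rfl⟩ := Subgroup.mem_zpowers_iff.1 ha
          rw [← zpow_natCast, ← zpow_mul, mul_comm, zpow_mul, zpow_natCast,
            orderOf_dvd_iff_pow_eq_one.1 hx.dvd, one_zpow]⟩
      have hk := h (Subgroup.zpowers x) hA (by rw [Nat.card_zpowers, hx, pow_one]) y hy
        (fun a ha => by
          obtain ⟨n, rfl⟩ := Subgroup.mem_zpowers_iff.1 ha
          exact ((show Commute x y from hxy).zpow_left n).eq)
      rw [signalizerDelta_zpowers Nat.prime_two hx] at hk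
      exact le_inf hk (inf_le_left.trans (centralizerPPrimeCore_le x))
    intro x y hx hy hxy
    exact le_antisymm (key x y hx hy hxy) (key y x hy hx hxy.symm)

end Cfsg.Agent.Lib.Balance
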