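import Cfsg.Agent.Lib.Balance.Permute
import Cfsg.Agent.Lib.Components.PComponent
import Cfsg.Agent.Lib.Components.GenFitting
import Cfsg.Agent.Lib.Coprime.Glauberman

/-!
# `L_{p'}`-balance from a property of the automorphisms fixing a Sylow `p`-subgroup

Owner: helper33. Namespace `Cfsg.Agent.Lib.Balance`.
`pLayer_centralizer_le`: if the perfect groups of automorphisms of `F*(X / O_{p'}(X))` fixing a Sylow
`p`-subgroup elementwise have order prime to `p`, then `L_{p'}(C_X(T)) ≤ L_{p'}(X)` for every `p`-subgroup `T`. For `p = 2` the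
hypothesis follows from the `Z*`-theorem (`Balance/FixingPerfect`).
The proof moves a `p`-component of `C_X(T)` up to a `p`-component of `C_X(T₁)`, `T₁` a Sylow subgroup of
`T F*`; it uses no property of outer automorphism groups.
-/

set_option autoImplicit false
set_option linter.style.haveILetI false
open Cfsg
open scoped commutatorElement Pointwise

namespace Cfsg.Agent.Lib.Balance

open Components

variable {X : Type*} [Group X] [Finite X] {p : ℕ} [hp : Fact p.Prime]

omit hp in
theorem pComponent_not_coprime {K : Subgroup X} (hK : IsPComponent p K) :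
    ¬ (Nat.card ↥K).Coprime p := fun h =>
  Components.PComponent.not_le_pPrimeCore hK (Components.PComponent.subnormal_coprime_le hK.1 h)

omit hp [Finite X] in
/-- A normal subgroup of a `p`-component is the component or has central image. -/
theorem pComponent_normal_sub {K Y : Subgroup X} (hK : IsPComponent p K) (hYK : Y ≤ K)
    (hn : K ≤ Subgroup.normalizer (Y : Set X)) :
    Y = K ∨ Y.map (QuotientGroup.mk' (pPrimeCore p X)) ≤
      Subgroup.centralizer (K.map (QuotientGroup.mk' (pPrimeCore p X)) : Set (X ⧸ pPrimeCore p X)) := by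
  set π := QuotientGroup.mk' (pPrimeCore p X)
  haveI : (Y.subgroupOf K).Normal := (Subgroup.normal_subgroupOf_iff_le_normalizer hYK).2 hn
  have hsn : Y.IsSubnormal := by
    have h := (Subgroup.Normal.isSubnormal (H := Y.subgroupOf K) inferInstance).trans' hK.1
    rwa [Subgroup.map_subgroupOf_eq_of_le hYK] at h
  have hmap : ((Y.subgroupOf K).map (π.subgroupMap K)).map (K.map π).subtype = Y.map π := by
    rw [Subgroup.map_map]
    conv_rhs => rw [← Subgroup.map_subgroupOf_eq_of_le hYK, Subgroup.map_map]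
    rfl
  rcases Quasisimple.normal_le_center_or_eq_top hK.2.1.2
    (Subgroup.Normal.map (H := Y.subgroupOf K) inferInstance _ (π.subgroupMap_surjective K)) with hc | ht
  · right
    rw [← hmap]
    rintro _ ⟨y, hy, rfl⟩
    exact Subgroup.mem_centralizer_iff.2 fun z hz =>
      congrArg Subtype.val (Subgroup.mem_center_iff.1 (hc hy) ⟨z, hz⟩)
  · left
    refine hK.2.2 Y hsn hYK ?_
    rw [← hmap, ht, ← MonoidHom.range_eq_map, Subgroup.range_subtype]

omit hp in
/-- A normal subgroup of a `p`-component containing a perfect subgroup of order divisible by `p`. -/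
theorem pComponent_eq_of_perfect {K Y R : Subgroup X} (hK : IsPComponent p K) (hYK : Y ≤ K)
    (hn : K ≤ Subgroup.normalizer (Y : Set X)) (hRY : R ≤ Y) (hR : ⁅R, R⁆ = R)
    (hRp : ¬ (Nat.card ↥R).Coprime p) : Y = K := by
  refine (pComponent_normal_sub hK hYK hn).resolve_right fun hc => hRp ?_
  set π := QuotientGroup.mk' (pPrimeCore p X)
  have h1 : R.map π ≤ Subgroup.centralizer (R.map π : Set (X ⧸ pPrimeCore p X)) :=
    ((Subgroup.map_mono hRY).trans hc).trans
      (Subgroup.centralizer_le (Subgroup.map_mono (hRY.trans hYK)))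
  have h2 := Subgroup.commutator_eq_bot_iff_le_centralizer.2 h1
  rw [← Subgroup.map_commutator, hR, Subgroup.map_eq_bot_iff, QuotientGroup.ker_mk'] at h2
  exact (Cores.pPrimeCore_coprime p).coprime_dvd_left (Subgroup.card_dvd_of_le h2)

/-- A normal subgroup of index prime to `p` in a `p`-component. -/
theorem pComponent_eq_of_index {K Y : Subgroup X} (hK : IsPComponent p K) (hYK : Y ≤ K)
    (hn : K ≤ Subgroup.normalizer (Y : Set X)) (hi : (Y.relIndex K).Coprime p) : Y = K := by
  refine (pComponent_normal_sub hK hYK hn).resolve_right fun hc => ?_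
  set π := QuotientGroup.mk' (pPrimeCore p X)
  refine Components.PComponent.component_center_index_not_coprime
    (Cores.pPrimeCore_quotient_pPrimeCore p) hK.2.1 (Nat.Coprime.of_dvd_left ?_ hi)
  refine (Subgroup.index_dvd_of_le (H := (Y.subgroupOf K).map (π.subgroupMap K)) ?_).trans
    (Subgroup.index_map_dvd _ (π.subgroupMap_surjective K))
  rintro _ ⟨y, hy, rfl⟩
  exact Subgroup.mem_center_iff.2 fun z => Subtype.ext
    (Subgroup.mem_centralizer_iff.1 (hc (Subgroup.mem_map_of_mem π hy)) z z.2)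

/-- A Sylow subgroup meets a normal subgroup in a Sylow subgroup. -/
theorem exists_sylow_inf_normal (P : Sylow p X) (N : Subgroup X) [hN : N.Normal] :
    ∃ Q : Sylow p ↥N, (Q : Subgroup ↥N) = (P : Subgroup X).subgroupOf N := by
  refine ⟨{ toSubgroup := (P : Subgroup X).subgroupOf N, isPGroup' := ?_, is_maximal' := ?_ }, rfl⟩
  · exact P.isPGroup'.comap_of_injective _ N.subtype_injective
  intro Q hQ hle
  obtain ⟨P', hP'⟩ := (hQ.map N.subtype).exists_le_sylow
  obtain ⟨g, rfl⟩ := MulAction.exists_smul_eq X P P'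
  refine (Subgroup.eq_of_le_of_card_ge hle ?_).symm
  show Nat.card ↥Q ≤ Nat.card ↥((P : Subgroup X).subgroupOf N)
  rw [← Nat.card_congr (Q.equivMapOfInjective _ N.subtype_injective).toEquiv.symm,
    ← Nat.card_congr (((P : Subgroup X).subgroupOf N).equivMapOfInjective _ N.subtype_injective).toEquiv.symm,
    Subgroup.subgroupOf_map_subtype]
  refine (Subgroup.card_le_of_le (le_inf hP' (Subgroup.map_subtype_le _))).trans (le_of_eq ?_)
  rw [Nat.card_congr ((((P : Subgroup X) ⊓ N)).equivMapOfInjective (MulAut.conj g).toMonoidHom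
    (MulAut.conj g).injective).toEquiv, Subgroup.map_inf _ _ _ (MulAut.conj g).injective,
    Sylow.coe_subgroup_smul, Coprime.conj_smul_eq_map]
  have : N.map (MulAut.conj g).toMonoidHom = N :=
    Subgroup.mem_normalizer_iff_map_conj_eq.1 (Subgroup.normalizer_eq_top (H := N) ▸ Subgroup.mem_top g)
  rw [this]

omit hp in
/-- Descent of a `p`-component to a subgroup covering it modulo the core. -/
theorem exists_pComponent_sub {C : Subgroup X} {M : Subgroup X} (hM : IsPComponent p M)
    (hcov : M ≤ (M ⊓ C) ⊔ pPrimeCore p X) :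
    ∃ W : Subgroup ↥C, IsPComponent p W ∧ W.map C.subtype ≤ M := by
  set π := QuotientGroup.mk' (pPrimeCore p X) with hπ
  have hπO : ∀ H : Subgroup X, H ≤ pPrimeCore p X → H.map π = ⊥ := fun H hH => by
    rw [Subgroup.map_eq_bot_iff, hπ, QuotientGroup.ker_mk']; exact hH
  set Q := M.map π with hQ
  have hQc : IsComponent Q := hM.2.1
  obtain ⟨W, ⟨hW1, hW2, hW3⟩, hmin⟩ := Set.Finite.exists_minimal
    (s := {W : Subgroup ↥C | W.IsSubnormal ∧ W.map C.subtype ≤ M ∧ (W.map C.subtype).map π = Q})
    (Set.toFinite _) ⟨M.subgroupOf C, hM.1.subgroupOf, by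
      rw [Subgroup.subgroupOf_map_subtype]; exact inf_le_left, by
      rw [Subgroup.subgroupOf_map_subtype]
      refine le_antisymm (Subgroup.map_mono inf_le_left) ?_
      refine (Subgroup.map_mono hcov).trans ?_
      rw [Subgroup.map_sup, hπO _ le_rfl, sup_bot_eq]⟩
  refine ⟨W, ⟨hW1, ?_, ?_⟩, hW2⟩
  all_goals set σ := QuotientGroup.mk' (pPrimeCore p ↥C) with hσ
  all_goals
    -- the core of `W` has central image
    have hcore : ((W ⊓ pPrimeCore p ↥C).map C.subtype).map π ≤
        Subgroup.centralizer (Q : Set (X ⧸ pPrimeCore p X)) := by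
      set U := ((W ⊓ pPrimeCore p ↥C).map C.subtype).map π with hU
      have hUQ : U ≤ Q := (Subgroup.map_mono (Subgroup.map_mono inf_le_left)).trans hW3.le
      have hn : Q ≤ Subgroup.normalizer (U : Set (X ⧸ pPrimeCore p X)) := by
        rw [← hW3]
        refine (Subgroup.map_mono (Subgroup.map_mono ?_)).trans
          ((Subgroup.map_mono (Subgroup.le_normalizer_map _)).trans (Subgroup.le_normalizer_map _))
        intro w hw
        refine Subgroup.mem_normalizer_iff.2 fun x => ?_
        rw [Subgroup.mem_inf, Subgroup.mem_inf,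
          ← (Subgroup.mem_normalizer_iff.1 (Subgroup.le_normalizer hw) x),
          ← (Subgroup.mem_normalizer_iff.1 (Subgroup.normalizer_eq_top (H := pPrimeCore p ↥C) ▸
            Subgroup.mem_top w) x)]
      haveI : (U.subgroupOf Q).Normal := (Subgroup.normal_subgroupOf_iff_le_normalizer hUQ).2 hn
      rcases Quasisimple.normal_le_center_or_eq_top hQc.2 (N := U.subgroupOf Q) inferInstance with hc | ht
      · exact fun x hx => Subgroup.mem_centralizer_iff.2 fun z hz =>
          congrArg Subtype.val (Subgroup.mem_center_iff.1 (hc (show (⟨x, hUQ hx⟩ : ↥Q) ∈ U.subgroupOf Q from hx)) ⟨z, hz⟩)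
      · exfalso
        have hle : Q ≤ U := Subgroup.subgroupOf_eq_top.1 ht
        have h1 : (Nat.card ↥Q).Coprime p := by
          refine Nat.Coprime.coprime_dvd_left (((Subgroup.card_dvd_of_le hle).trans
            ((Subgroup.card_map_dvd _ _).trans (Subgroup.card_map_dvd _ _))).trans
              (Subgroup.card_dvd_of_le inf_le_right)) (Cores.pPrimeCore_coprime p)
        have h2 := Components.PComponent.subnormal_coprime_le hQc.1 h1
        rw [Cores.pPrimeCore_quotient_pPrimeCore p, le_bot_iff] at h2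
        exact Component.ne_bot hQc h2
  · -- the image is a component
    refine ⟨hW1.map (f := σ) (QuotientGroup.mk'_surjective _), ?_⟩
    let f : ↥W →* ↥Q := (π.comp (C.subtype.comp W.subtype)).codRestrict Q
      (fun w => hW3 ▸ Subgroup.mem_map_of_mem π (Subgroup.mem_map_of_mem C.subtype w.2))
    have hf : Function.Surjective f := by
      rintro ⟨y, hy⟩
      rw [← hW3] at hy
      obtain ⟨_, ⟨w, hw, rfl⟩, rfl⟩ := hy
      exact ⟨⟨w, hw⟩, rfl⟩
    let g : ↥W →* ↥(W.map σ) := σ.subgroupMap W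
    have hker : f.ker ≤ g.ker := by
      intro w hw
      have hw' : C.subtype (w : ↥C) ∈ pPrimeCore p X := (QuotientGroup.eq_one_iff _).1 (congrArg Subtype.val hw)
      refine Subtype.ext ((QuotientGroup.eq_one_iff _).2 ?_)
      have h1 : (W ⊓ (pPrimeCore p X).subgroupOf C) ≤ pPrimeCore p ↥C := by
        refine inf_le_right.trans (Cores.le_pPrimeCore ((Cores.pPrimeCore_coprime (G := X) p).coprime_dvd_left ?_))
        rw [← Subgroup.card_map_of_injective (f := C.subtype) C.subtype_injective,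
          Subgroup.subgroupOf_map_subtype]
        exact Subgroup.card_dvd_of_le inf_le_left
      exact h1 ⟨w.2, hw'⟩
    haveI : Nontrivial ↥(W.map σ) := by
      rw [Subgroup.nontrivial_iff_ne_bot]
      intro h
      rw [Subgroup.map_eq_bot_iff, hσ, QuotientGroup.ker_mk'] at h
      rw [inf_eq_left.2 h, hW3] at hcore
      exact Component.not_le_centralizer_self hQc hcore
    let g' : ↥Q →* ↥(W.map σ) := f.liftOfSurjective hf ⟨g, hker⟩
    refine Quasisimple.of_surjective (f := g') hQc.2 fun y => ?_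
    obtain ⟨w, rfl⟩ := σ.subgroupMap_surjective W y
    exact ⟨f w, MonoidHom.liftOfRightInverse_comp_apply _ _ _ _ w⟩
  · -- minimality
    intro H hH hHW he
    refine le_antisymm hHW (hmin ⟨hH, (Subgroup.map_mono hHW).trans hW2, ?_⟩ hHW)
    set V := (H.map C.subtype).map π with hV
    refine le_antisymm ((Subgroup.map_mono (Subgroup.map_mono hHW)).trans hW3.le) ?_
    have hWsup : W ≤ H ⊔ (W ⊓ pPrimeCore p ↥C) := by
      intro w hw
      obtain ⟨h, hh, hhw⟩ : σ w ∈ H.map σ := he ▸ Subgroup.mem_map_of_mem σ hw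
      have h1 : h⁻¹ * w ∈ pPrimeCore p ↥C := QuotientGroup.eq.1 hhw
      simpa using Subgroup.mul_mem_sup hh (show h⁻¹ * w ∈ W ⊓ pPrimeCore p ↥C from
        ⟨W.mul_mem (W.inv_mem (hHW hh)) hw, h1⟩)
    have hsup : Q ≤ V ⊔ ((W ⊓ pPrimeCore p ↥C).map C.subtype).map π := by
      rw [← hW3, hV, ← Subgroup.map_sup, ← Subgroup.map_sup]
      exact Subgroup.map_mono (Subgroup.map_mono hWsup)
    have hVQ : V ≤ Q := (Subgroup.map_mono (Subgroup.map_mono hHW)).trans hW3.le
    have hUQ : ((W ⊓ pPrimeCore p ↥C).map C.subtype).map π ≤ Q :=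
      (Subgroup.map_mono (Subgroup.map_mono inf_le_left)).trans hW3.le
    have hnorm : ((W ⊓ pPrimeCore p ↥C).map C.subtype).map π ≤
        Subgroup.normalizer (V : Set (X ⧸ pPrimeCore p X)) :=
      (hcore.trans (Subgroup.centralizer_le hVQ)).trans (Subgroup.centralizer_le_normalizer _)
    conv_lhs => rw [← Component.commutator_self hQc]
    rw [Subgroup.commutator_le]
    intro x hx y hy
    have hmul : ∀ z ∈ Q, ∃ v ∈ V, ∀ u ∈ Q, ⁅z, u⁆ = ⁅v, u⁆ ∧ ⁅u, z⁆ = ⁅u, v⁆ := by
      intro z hz
      have hz' : z ∈ (V : Set (X ⧸ pPrimeCore p X)) *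
          ((((W ⊓ pPrimeCore p ↥C).map C.subtype).map π : Subgroup _) : Set (X ⧸ pPrimeCore p X)) := by
        rw [← Subgroup.coe_mul_of_right_le_normalizer_left _ _ hnorm]; exact hsup hz
      obtain ⟨v, hv, c, hc, rfl⟩ := hz'
      refine ⟨v, hv, fun u hu => ?_⟩
      have hcu : u * c = c * u := Subgroup.mem_centralizer_iff.1 (hcore hc) u hu
      have h3 : c * u * c⁻¹ = u := by rw [← hcu, mul_inv_cancel_right]
      have h4 : c * u⁻¹ * c⁻¹ = u⁻¹ := by
        rw [← (show u⁻¹ * c = c * u⁻¹ from (Commute.inv_left hcu).eq), mul_inv_cancel_right]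
      constructor
      · rw [commutatorElement_def, commutatorElement_def]
        calc v * c * u * (v * c)⁻¹ * u⁻¹ = v * (c * u * c⁻¹) * v⁻¹ * u⁻¹ := by group
          _ = _ := by rw [h3]
      · rw [commutatorElement_def, commutatorElement_def]
        calc u * (v * c) * u⁻¹ * (v * c)⁻¹ = u * v * (c * u⁻¹ * c⁻¹) * v⁻¹ := by group
          _ = _ := by rw [h4]
    obtain ⟨v, hv, hv'⟩ := hmul x hx
    obtain ⟨v', hv2, hv2'⟩ := hmul y hy
    rw [(hv' y hy).1, (hv2' v (hVQ hv)).2]
    rw [commutatorElement_def]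
    exact mul_mem (mul_mem (mul_mem hv hv2) (inv_mem hv)) (inv_mem hv2)

/-- One step: enlarge `T` by an element `s` of `N` normalizing it. -/
theorem exists_pComponent_step {T : Subgroup X} {N : Subgroup X} [N.Normal] {s : X} (hsN : s ∈ N)
    (hsT : s ∈ Subgroup.normalizer (T : Set X)) (hsp : IsPGroup p ↥(Subgroup.zpowers s)) :
    ∀ {M : Subgroup ↥(Subgroup.centralizer (T : Set X))}, IsPComponent p M →
      ¬ M.map (Subgroup.centralizer (T : Set X)).subtype ≤ N →
    ∃ W : Subgroup ↥(Subgroup.centralizer ((T ⊔ Subgroup.zpowers s : Subgroup X) : Set X)),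
      IsPComponent p W ∧
        W.map (Subgroup.centralizer ((T ⊔ Subgroup.zpowers s : Subgroup X) : Set X)).subtype ≤
          M.map (Subgroup.centralizer (T : Set X)).subtype := by
  set C := Subgroup.centralizer (T : Set X) with hC
  intro M hM hMN
  set π := QuotientGroup.mk' (pPrimeCore p ↥C) with hπ
  have hsC : s ∈ Subgroup.normalizer (C : Set X) := normalizer_le_normalizer_centralizer T hsT
  set φ : MulAut ↥C := C.normalizerMonoidHom ⟨s, hsC⟩ with hφ
  have hφv : ∀ c : ↥C, ((φ c : ↥C) : X) = s * c * s⁻¹ := fun c => rfl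
  set D := N.subgroupOf C with hD
  -- `M` commutes with `D` modulo the core
  have hnle : ¬ M.map π ≤ D.map π := fun h => hMN (by
    have h1 : M ≤ D ⊔ pPrimeCore p ↥C := by
      have h2 := Subgroup.map_le_iff_le_comap.1 h
      rwa [Subgroup.comap_map_eq, hπ, QuotientGroup.ker_mk'] at h2
    exact (Subgroup.map_mono (Components.PComponent.le_of_subnormal hM
      (Subgroup.Normal.isSubnormal inferInstance) h1)).trans (Subgroup.map_comap_le _ _))
  have hcomm : D.map π ≤ Subgroup.centralizer (M.map π : Set (↥C ⧸ pPrimeCore p ↥C)) :=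
    Subgroup.commutator_eq_bot_iff_le_centralizer.1 ((Component.le_or_commutator_eq_bot hM.2.1
      ((Subgroup.Normal.map (H := D) inferInstance π (QuotientGroup.mk'_surjective _)).isSubnormal)).resolve_left hnle)
  have hd : ∀ m : ↥C, φ m * m⁻¹ ∈ D := fun m => by
    show ((φ m * m⁻¹ : ↥C) : X) ∈ N
    rw [Subgroup.coe_mul, Subgroup.coe_inv, hφv, mul_assoc, mul_assoc, ← mul_assoc (m : X)]
    exact mul_mem hsN ((inferInstance : N.Normal).conj_mem _ (inv_mem hsN) _)
  have hdc : ∀ m : ↥C, ∀ x ∈ M, Commute (π x) (π (φ m * m⁻¹)) := fun m x hx =>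
    Subgroup.mem_centralizer_iff.1 (hcomm (Subgroup.mem_map_of_mem π (hd m))) _
      (Subgroup.mem_map_of_mem π hx)
  -- `s` normalizes `M`
  have hfix : M.map φ.toMonoidHom = M := by
    by_contra hne
    refine Component.not_le_centralizer_self hM.2.1 ?_
    rintro _ ⟨m, hm, rfl⟩
    refine Subgroup.mem_centralizer_iff.2 ?_
    rintro _ ⟨x, hx, rfl⟩
    have h1 : ⁅φ m, x⁆ ∈ pPrimeCore p ↥C :=
      Components.PComponent.commutator_le (Components.PComponent.map_equiv φ hM) hM hne
        (Subgroup.commutator_mem_commutator (Subgroup.mem_map_of_mem φ.toMonoidHom hm) hx)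
    have h2 : Commute (π (φ m)) (π x) := by
      rw [← commutatorElement_eq_one_iff_commute, ← map_commutatorElement]
      exact (QuotientGroup.eq_one_iff _).2 h1
    have h3 : π m = (π (φ m * m⁻¹))⁻¹ * π (φ m) := by rw [map_mul, map_inv]; group
    rw [h3]
    exact (((hdc m x hx).inv_right).mul_right h2.symm).eq
  have hφM : ∀ m ∈ M, φ m ∈ M := fun m hm => hfix.le (Subgroup.mem_map_of_mem φ.toMonoidHom hm)
  -- the induced automorphism is trivial modulo the core
  let δ : ↥M →* ↥C ⧸ pPrimeCore p ↥C := MonoidHom.mk' (fun m => π (φ (m : ↥C) * (m : ↥C)⁻¹)) fun a b => by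
    have hc : Commute (π a) (π (φ (b : ↥C) * (b : ↥C)⁻¹)) := hdc b a a.2
    simp only [Subgroup.coe_mul, map_mul, mul_inv_rev, map_inv] at hc ⊢
    calc π (φ a) * π (φ b) * ((π b)⁻¹ * (π a)⁻¹) = π (φ a) * (π (φ b) * (π b)⁻¹) * (π a)⁻¹ := by group
      _ = π (φ a) * ((π a)⁻¹ * (π a) * (π (φ b) * (π b)⁻¹)) * (π a)⁻¹ := by group
      _ = π (φ a) * (π a)⁻¹ * ((π a) * (π (φ b) * (π b)⁻¹)) * (π a)⁻¹ := by group
      _ = π (φ a) * (π a)⁻¹ * ((π (φ b) * (π b)⁻¹) * (π a)) * (π a)⁻¹ := by rw [hc.eq]
      _ = _ := by group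
  have hδc : ∀ a b : ↥M, Commute (δ a) (δ b) := fun a b =>
    hdc b _ (mul_mem (hφM a a.2) (inv_mem a.2))
  have hδ : ∀ m : ↥M, φ (m : ↥C) * (m : ↥C)⁻¹ ∈ pPrimeCore p ↥C := by
    intro m
    rw [← QuotientGroup.eq_one_iff]
    show δ m = 1
    have hperf : _root_.commutator ↥M = ⊤ := by
      haveI : Group.IsPerfect ↥M := Subgroup.isPerfect_iff.2 (Components.PComponent.commutator_self hM)
      exact Group.IsPerfect.commutator_eq_top
    have hle : _root_.commutator ↥M ≤ δ.ker := by
      rw [_root_.commutator_def, Subgroup.commutator_le]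
      intro a _ b _
      rw [MonoidHom.mem_ker, map_commutatorElement, commutatorElement_eq_one_iff_commute]
      exact hδc a b
    exact hle (hperf ▸ Subgroup.mem_top m)
  -- fixed points
  set R := ((pPrimeCore p ↥C) ⊓ M).map C.subtype with hR
  have hRconj : ∀ a ∈ Subgroup.zpowers s, ∀ m ∈ M, a * (m : X) * a⁻¹ * (m : X)⁻¹ ∈ R := by
    intro a ha
    obtain ⟨n, rfl⟩ := (mem_powers_iff_mem_zpowers (x := s)).2 ha
    clear ha
    induction n with
    | zero => intro m _; simpa using one_mem R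
    | succ n ih =>
      intro m hm
      have h1 := ih (φ m) (hφM m hm)
      have h2 : s * (m : X) * s⁻¹ * (m : X)⁻¹ ∈ R :=
        ⟨φ m * m⁻¹, ⟨hδ ⟨m, hm⟩, M.mul_mem (hφM m hm) (M.inv_mem hm)⟩, rfl⟩
      have he : s ^ (n + 1) * (m : X) * (s ^ (n + 1))⁻¹ * (m : X)⁻¹ =
          (s ^ n * (s * m * s⁻¹) * (s ^ n)⁻¹ * (s * m * s⁻¹)⁻¹) * (s * m * s⁻¹ * (m : X)⁻¹) := by
        rw [pow_succ]; group
      show s ^ (n + 1) * (m : X) * (s ^ (n + 1))⁻¹ * (m : X)⁻¹ ∈ R
      rw [he]
      exact mul_mem h1 h2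
  have hsR : Subgroup.zpowers s ≤ Subgroup.normalizer (R : Set X) := by
    rw [Subgroup.zpowers_le, Subgroup.mem_normalizer_iff_map_conj_eq]
    refine Subgroup.eq_of_le_of_card_ge ?_ (Subgroup.card_map_of_injective (MulAut.conj s).injective).ge
    rintro _ ⟨_, ⟨c, hc, rfl⟩, rfl⟩
    refine ⟨φ c, ⟨?_, hφM c hc.2⟩, rfl⟩
    have := Cores.map_pPrimeCore_equiv (p := p) φ
    exact this.le (Subgroup.mem_map_of_mem φ.toMonoidHom hc.1)
  have hRp : (Nat.card ↥R).Coprime p := (Cores.pPrimeCore_coprime (G := ↥C) p).coprime_dvd_left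
    ((Subgroup.card_map_dvd _ _).trans (Subgroup.card_dvd_of_le inf_le_left))
  set C₂ := Subgroup.centralizer ((T ⊔ Subgroup.zpowers s : Subgroup X) : Set X) with hC₂
  have hC₂C : C₂ ≤ C := Subgroup.centralizer_le
    (SetLike.coe_subset_coe.2 (le_sup_left : T ≤ T ⊔ Subgroup.zpowers s))
  have hmem : ∀ c : ↥C, (c : X) ∈ Subgroup.centralizer (Subgroup.zpowers s : Set X) →
      (c : X) ∈ C₂ := fun c hc => by
    rw [hC₂, Subgroup.mem_centralizer_iff]
    have hle : T ⊔ Subgroup.zpowers s ≤ Subgroup.centralizer ({(c : X)} : Set X) :=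
      sup_le (fun t ht => Subgroup.mem_centralizer_singleton_iff.2
          (Subgroup.mem_centralizer_iff.1 c.2 t ht))
        (fun t ht => Subgroup.mem_centralizer_singleton_iff.2 (Subgroup.mem_centralizer_iff.1 hc t ht))
    exact fun h hh => Subgroup.mem_centralizer_singleton_iff.1 (hle hh)
  have hcov : M ≤ (M ⊓ C₂.subgroupOf C) ⊔ pPrimeCore p ↥C := by
    intro m hm
    obtain ⟨k, hk⟩ := IsPGroup.iff_card.1 hsp
    obtain ⟨_, ⟨r, hr, rfl⟩, hfx⟩ := Coprime.exists_fixed_mul hsR
      (by rw [hk]; exact (hRp.pow_right k).symm) (Or.inl inferInstance) (k := (m : X))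
      (fun a ha => hRconj a ha m hm)
    have h1 : r * m ∈ M ⊓ C₂.subgroupOf C := ⟨mul_mem hr.2 hm, hmem (r * m) hfx⟩
    have h2 := Subgroup.mul_mem_sup (inv_mem hr.1) h1
    rw [sup_comm] at h2
    simpa using h2
  obtain ⟨W, hW, hWM⟩ := exists_pComponent_sub hM hcov
  let e : ↥(C₂.subgroupOf C) ≃* ↥C₂ := Subgroup.subgroupOfEquivOfLe hC₂C
  refine ⟨W.map e.toMonoidHom, Components.PComponent.map_equiv e hW, ?_⟩
  rw [Subgroup.map_map]
  refine le_trans (le_of_eq ?_) (Subgroup.map_mono hWM)
  rw [Subgroup.map_map]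
  rfl

/-- Perfect groups of automorphisms of `G` fixing a Sylow `p`-subgroup elementwise have order prime to `p`. -/
def FixingPerfect (p : ℕ) (G : Type*) [Group G] : Prop :=
  ∀ (S : Sylow p G) (R : Subgroup (MulAut G)), ⁅R, R⁆ = R → (∀ r ∈ R, ∀ s ∈ S, r s = s) →
    (Nat.card ↥R).Coprime p

/-- `L_{p'}(C_X(T)) ≤ L_{p'}(X)`. -/
theorem pLayer_centralizer_le
    (hfix : FixingPerfect p ↥(generalizedFittingSubgroup (X ⧸ pPrimeCore p X)))
    {T : Subgroup X} (hT : IsPGroup p ↥T) :
    (pLayer p ↥(Subgroup.centralizer (T : Set X))).map (Subgroup.centralizer (T : Set X)).subtype ≤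
      pLayer p X := by
  set C := Subgroup.centralizer (T : Set X) with hC
  set π := QuotientGroup.mk' (pPrimeCore p X) with hπ
  set F := generalizedFittingSubgroup (X ⧸ pPrimeCore p X) with hF
  haveI : F.Normal := inferInstance
  set N := F.comap π with hN
  rw [Subgroup.map_le_iff_le_comap]
  refine sSup_le fun M hM => ?_
  have hperf : ∀ {H : Subgroup X} {K : Subgroup ↥H}, IsPComponent p K →
      ⁅K.map H.subtype, K.map H.subtype⁆ = K.map H.subtype := fun h => by
    rw [← Subgroup.map_commutator, Components.PComponent.commutator_self h]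
  have hnp : ∀ {H : Subgroup X} {K : Subgroup ↥H}, IsPComponent p K →
      ¬ (Nat.card ↥(K.map H.subtype)).Coprime p := fun {H} {K} h => by
    rw [Subgroup.card_map_of_injective H.subtype_injective]
    exact pComponent_not_coprime h
  -- a subcomponent inside `N` puts `M` inside `N`
  have hred : ∀ {H : Subgroup X} {K : Subgroup ↥H}, IsPComponent p K →
      K.map H.subtype ≤ M.map C.subtype → K.map H.subtype ≤ N → M.map C.subtype ≤ N := by
    intro H K hK hKM hKN
    have hle : K.map H.subtype ≤ C := hKM.trans (Subgroup.map_subtype_le _)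
    have h := pComponent_eq_of_perfect hM (Y := M ⊓ N.subgroupOf C)
      (R := (K.map H.subtype).subgroupOf C) inf_le_left (fun m hm => ?_) ?_ ?_ ?_
    · rw [← h, Subgroup.map_le_iff_le_comap]
      exact inf_le_right
    · refine Subgroup.mem_normalizer_iff.2 fun x => ?_
      rw [Subgroup.mem_inf, Subgroup.mem_inf,
        ← (Subgroup.mem_normalizer_iff.1 (Subgroup.le_normalizer hm) x),
        ← (Subgroup.mem_normalizer_iff.1 (Subgroup.normalizer_eq_top (H := N.subgroupOf C) ▸
          Subgroup.mem_top m) x)]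
    · intro x hx
      obtain ⟨y, hy, hyx⟩ := hKM hx
      exact ⟨C.subtype_injective hyx ▸ hy, hKN hx⟩
    · refine Subgroup.map_injective C.subtype_injective ?_
      rw [Subgroup.map_commutator, Subgroup.map_subgroupOf_eq_of_le hle, hperf hK]
    · rw [Nat.card_congr (Subgroup.subgroupOfEquivOfLe hle).toEquiv]
      exact hnp hK
  have hMN : M.map C.subtype ≤ N := by
    by_contra hMN
    obtain ⟨T₁, ⟨hT₁p, hTT₁, hT₁U, W, hW, hWM⟩, hmax⟩ := Set.Finite.exists_maximal
      (s := {T₁ : Subgroup X | IsPGroup p ↥T₁ ∧ T ≤ T₁ ∧ T₁ ≤ T ⊔ N ∧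
        ∃ W : Subgroup ↥(Subgroup.centralizer (T₁ : Set X)), IsPComponent p W ∧
          W.map (Subgroup.centralizer (T₁ : Set X)).subtype ≤ M.map C.subtype})
      (Set.toFinite _) ⟨T, hT, le_rfl, le_sup_left, M, hM, le_rfl⟩
    have hWN := fun h => hMN (hred hW hWM h)
    -- `T₁` is a Sylow subgroup of `T N`
    have hsyl : ∀ P : Subgroup X, IsPGroup p ↥P → T₁ ≤ P → P ≤ T ⊔ N → P = T₁ := by
      intro P hP hle hPU
      by_contra hne
      have h1 : ¬ Subgroup.normalizer (T₁ : Set X) ⊓ P ≤ T₁ := by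
        intro hle'
        haveI : Group.IsNilpotent ↥P := hP.isNilpotent
        have hlt : T₁.subgroupOf P < ⊤ := lt_of_le_of_ne le_top fun h =>
          hne (le_antisymm (Subgroup.subgroupOf_eq_top.mp h) hle)
        refine absurd ?_ (not_le_of_gt (Group.normalizerCondition_of_isNilpotent (G := ↥P) _ hlt))
        intro x hx
        refine hle' ⟨?_, x.2⟩
        have h3 := Subgroup.le_normalizer_map P.subtype (Subgroup.mem_map_of_mem P.subtype hx)
        rwa [Subgroup.map_subgroupOf_eq_of_le hle] at h3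
      obtain ⟨x, ⟨hxn, hxP⟩, hx⟩ := SetLike.not_le_iff_exists.1 h1
      obtain ⟨t, ht, s, hs, rfl⟩ := Subgroup.mem_sup_of_normal_right.1 (hPU hxP)
      have hsP : s ∈ P := by simpa using mul_mem (inv_mem (hle (hTT₁ ht))) hxP
      have hsn : s ∈ Subgroup.normalizer (T₁ : Set X) := by
        simpa using mul_mem (inv_mem (Subgroup.le_normalizer (hTT₁ ht))) hxn
      obtain ⟨W', hW', hle''⟩ := exists_pComponent_step hs hsn
        (hP.to_le (Subgroup.zpowers_le.2 hsP)) hW hWN
      refine hx (mul_mem (hTT₁ ht) ?_)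
      exact hmax ⟨hP.to_le (sup_le hle (Subgroup.zpowers_le.2 hsP)), hTT₁.trans le_sup_left,
        sup_le hT₁U (Subgroup.zpowers_le.2 (Subgroup.mem_sup_right hs)), W', hW', hle''.trans hWM⟩
        le_sup_left (Subgroup.mem_sup_right (Subgroup.mem_zpowers s))
    -- a Sylow subgroup of `F`
    set U := T ⊔ N with hU
    let P : Sylow p ↥U :=
      { toSubgroup := T₁.subgroupOf U
        isPGroup' := hT₁p.of_equiv (Subgroup.subgroupOfEquivOfLe hT₁U).symm
        is_maximal' := by
          intro Q hQ hle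
          have h := hsyl (Q.map U.subtype) (hQ.map _) (by
            have := Subgroup.map_mono (f := U.subtype) hle
            rwa [Subgroup.map_subgroupOf_eq_of_le hT₁U] at this) (Subgroup.map_subtype_le _)
          rw [← h]
          exact (Subgroup.comap_map_eq_self_of_injective U.subtype_injective Q).symm }
    haveI : (N.subgroupOf U).Normal := inferInstance
    obtain ⟨PN, hPN⟩ := exists_sylow_inf_normal P (N.subgroupOf U)
    let ρ : ↥(N.subgroupOf U) →* ↥F := ((π.comp U.subtype).comp (N.subgroupOf U).subtype).codRestrict F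
      (fun x => x.2)
    have hρ : Function.Surjective ρ := by
      rintro ⟨y, hy⟩
      obtain ⟨x, rfl⟩ := QuotientGroup.mk'_surjective (pPrimeCore p X) y
      exact ⟨⟨⟨x, Subgroup.mem_sup_right hy⟩, hy⟩, rfl⟩
    let SF : Sylow p ↥F := PN.mapSurjective hρ
    let C₁ := Subgroup.centralizer (T₁ : Set X)
    have hFn : ∀ g : X ⧸ pPrimeCore p X, g ∈ Subgroup.normalizer (F : Set (X ⧸ pPrimeCore p X)) :=
      fun g => Subgroup.normalizer_eq_top (H := F) ▸ Subgroup.mem_top g
    let ψ : X ⧸ pPrimeCore p X →* MulAut ↥F :=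
      F.normalizerMonoidHom.comp ((MonoidHom.id _).codRestrict _ hFn)
    let f : ↥W →* MulAut ↥F := ψ.comp (π.comp (C₁.subtype.comp W.subtype))
    have hrange : ∀ r ∈ f.range, ∀ s ∈ SF, r s = s := by
      rintro _ ⟨w, rfl⟩ s hs
      obtain ⟨x, hx, rfl⟩ := hs
      have hxP : ((x : ↥U) : X) ∈ T₁ := by rw [hPN] at hx; exact hx
      refine Subtype.ext ?_
      show π ((w : ↥C₁) : X) * π ((x : ↥U) : X) * (π ((w : ↥C₁) : X))⁻¹ = π ((x : ↥U) : X)
      rw [← map_mul, ← Subgroup.mem_centralizer_iff.1 (w : ↥C₁).2 _ hxP, map_mul,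
        mul_inv_cancel_right]
    have hWperf : Group.IsPerfect ↥W := Subgroup.isPerfect_iff.2 (Components.PComponent.commutator_self hW)
    have hf : (Nat.card ↥f.range).Coprime p := by
      refine hfix SF f.range (Subgroup.isPerfect_iff.1 ?_) hrange
      exact Group.IsPerfect.ofSurjective f.rangeRestrict_surjective
    have hker : f.ker.map W.subtype = W := by
      refine pComponent_eq_of_index hW (Subgroup.map_subtype_le _) ?_ ?_
      · refine le_trans (le_of_eq ?_) (Subgroup.le_normalizer_map W.subtype)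
        rw [Subgroup.normalizer_eq_top (H := f.ker), ← MonoidHom.range_eq_map, Subgroup.range_subtype]
      · rw [Subgroup.relIndex, Subgroup.subgroupOf,
          Subgroup.comap_map_eq_self_of_injective W.subtype_injective, Subgroup.index_ker]
        exact hf
    refine hWN ?_
    rintro _ ⟨w, hw, rfl⟩
    show π ((w : ↥C₁) : X) ∈ F
    refine Components.GenFitting.centralizer_le (Subgroup.mem_centralizer_iff.2 fun y hy => ?_)
    have h1 : f ⟨w, hw⟩ = 1 := by
      obtain ⟨w', hw', he⟩ := hker.ge hw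
      exact (Subtype.ext he : w' = ⟨w, hw⟩) ▸ MonoidHom.mem_ker.1 hw'
    have h2 : π ((w : ↥C₁) : X) * y * (π ((w : ↥C₁) : X))⁻¹ = y :=
      congrArg (fun φ : MulAut ↥F => ((φ ⟨y, hy⟩ : ↥F) : X ⧸ pPrimeCore p X)) h1
    exact (mul_inv_eq_iff_eq_mul.1 h2).symm
  -- `M ≤ L_{p'}(X)`
  set L := pLayer p X with hL
  have hE : (M.map C.subtype).map π ≤ layer (X ⧸ pPrimeCore p X) := by
    set E := layer (X ⧸ pPrimeCore p X) with hEdef
    have hle : (M.map C.subtype).map π ≤ E ⊔ fittingSubgroup (X ⧸ pPrimeCore p X) :=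
      (Subgroup.map_mono hMN).trans (Subgroup.map_comap_le _ _)
    let q := QuotientGroup.mk' E
    set V := ((M.map C.subtype).map π).map q with hV
    have hVnil : Group.IsNilpotent ↥V := by
      refine Cores.isNilpotent_of_le ?_ (Cores.isNilpotent_map q Cores.fittingSubgroup_isNilpotent)
      refine (Subgroup.map_mono hle).trans ?_
      rw [Subgroup.map_sup, (Subgroup.map_eq_bot_iff _).2 (QuotientGroup.ker_mk' E).ge, bot_sup_eq]
    have hVperf : Group.IsPerfect ↥V := Subgroup.isPerfect_iff.2 (by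
      rw [hV, ← Subgroup.map_commutator, ← Subgroup.map_commutator, hperf hM])
    have hVbot : V = ⊥ := by
      by_contra hne
      haveI := (Subgroup.nontrivial_iff_ne_bot _).2 hne
      exact Group.IsPerfect.not_isSolvable ↥V inferInstance
    rw [hV, Subgroup.map_eq_bot_iff, QuotientGroup.ker_mk'] at hVbot
    exact hVbot
  rw [← Components.PComponent.map_pLayer, Subgroup.map_le_map_iff, QuotientGroup.ker_mk'] at hE
  have hn : C.subtype.range ≤ Subgroup.normalizer (L : Set X) := by
    rw [Subgroup.normalizer_eq_top (H := L)]; exact le_top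
  have hYeq : M ⊓ L.subgroupOf C = M := by
    refine pComponent_eq_of_index hM inf_le_left (fun m hm => ?_) ?_
    · refine Subgroup.mem_normalizer_iff.2 fun x => ?_
      rw [Subgroup.mem_inf, Subgroup.mem_inf,
        ← (Subgroup.mem_normalizer_iff.1 (Subgroup.le_normalizer hm) x),
        ← (Subgroup.mem_normalizer_iff.1 (Subgroup.normalizer_eq_top (H := L.subgroupOf C) ▸
          Subgroup.mem_top m) x)]
    · rw [Subgroup.inf_relIndex_left]
      refine Nat.Coprime.coprime_dvd_left ?_ (Cores.pPrimeCore_coprime (G := X) p)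
      have h1 : (L.subgroupOf C).relIndex M = L.relIndex (M.map C.subtype) := by
        rw [Subgroup.subgroupOf, Subgroup.relIndex_comap]
      rw [h1]
      refine (dvd_of_eq ?_).trans ((Subgroup.relIndex_dvd_index_of_normal (L.subgroupOf (L ⊔ pPrimeCore p X))
        ((M.map C.subtype).subgroupOf (L ⊔ pPrimeCore p X))).trans ?_)
      · rw [Subgroup.relIndex_subgroupOf hE]
      show L.relIndex (L ⊔ pPrimeCore p X) ∣ _
      rw [sup_comm, Subgroup.relIndex_sup_right]
      exact Subgroup.relIndex_dvd_card _ _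
  exact hYeq ▸ inf_le_right

omit hp in
/-- `O_{p'}(F*(X / O_{p'}(X))) = 1`. -/
theorem pPrimeCore_generalizedFitting_quotient :
    pPrimeCore p ↥(generalizedFittingSubgroup (X ⧸ pPrimeCore p X)) = ⊥ := by
  set F := generalizedFittingSubgroup (X ⧸ pPrimeCore p X)
  haveI := Cores.normal_map_subtype F (pPrimeCore p ↥F)
  have h : (pPrimeCore p ↥F).map F.subtype ≤ pPrimeCore p (X ⧸ pPrimeCore p X) :=
    Cores.le_pPrimeCore ((Cores.pPrimeCore_coprime p).coprime_dvd_left (Subgroup.card_map_dvd _ _))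
  rw [Cores.pPrimeCore_quotient_pPrimeCore p, le_bot_iff] at h
  exact (Subgroup.map_eq_bot_iff_of_injective _ F.subtype_injective).1 h

end Cfsg.Agent.Lib.Balance
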