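import Cfsg.Agent.Lib.Balance.Basic
import Cfsg.Agent.Lib.Components.GenFitting
import Cfsg.Agent.Lib.Components.PComponent

/-!
# The `A × B` lemma and p-local subgroups

Owner: helper33. Namespace `Cfsg.Agent.Lib.Balance`.
* `exists_commutator_le`: in a nilpotent group one can climb out of a subgroup by a central step.
* `mem_centralizer_pGroup`: Thompson's `A × B` lemma for one element of order prime to `p`.
* `le_of_forall_coprime`: a subgroup without `p`-quotient is generated by `p'`-elements.
* characteristic `p` in the form `C(O_p) ≤ O_p`: equivalence with `F* = O_p`, inheritance by p-locals.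
-/

set_option autoImplicit false
set_option linter.style.haveILetI false
open Cfsg
open scoped commutatorElement

namespace Cfsg.Agent.Lib.Balance

variable {G : Type*} [Group G] {p : ℕ}

/-- In a nilpotent `S`, an `S`-invariant subgroup not inside `W` has a part whose commutator with `S` is in `W`. -/
theorem exists_commutator_le {S X W : Subgroup G} [hS : Group.IsNilpotent ↥S] (hXS : X ≤ S)
    (hSX : S ≤ Subgroup.normalizer (X : Set G)) (h : ¬ X ≤ W) :
    ∃ Y : Subgroup G, Y ≤ X ∧ ¬ Y ≤ W ∧ ⁅Y, S⁆ ≤ W := by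
  let f : ℕ → Subgroup G := fun n => Nat.rec X (fun _ Y => ⁅Y, S⁆) n
  have hfX : ∀ n, f n ≤ X := by
    intro n
    induction n with
    | zero => exact le_rfl
    | succ n ih =>
      exact (Subgroup.commutator_mono ih le_rfl).trans
        (Subgroup.le_normalizer_iff_commutator_le_left.1 hSX)
  have hfl : ∀ n, f n ≤ S.lowerCentralSeries n := by
    intro n
    induction n with
    | zero => exact hXS
    | succ n ih => exact Subgroup.commutator_mono ih le_rfl
  obtain ⟨n, hn⟩ := (Subgroup.isNilpotent_iff_lowerCentralSeries S).1 hS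
  by_contra hcon
  have hall : ∀ m, ¬ f m ≤ W := by
    intro m
    induction m with
    | zero => exact h
    | succ m ih => exact fun hle => hcon ⟨f m, hfX m, ih, hle⟩
  exact hall n ((hfl n).trans (hn ▸ bot_le))

/-- Thompson's `A × B` lemma: an element of order prime to `p` centralizing `P` and `C_Q(P)` centralizes
`Q`. -/
theorem mem_centralizer_pGroup [Finite G] [hp : Fact p.Prime] {Q P : Subgroup G}
    (hQ : IsPGroup p ↥Q) (hP : IsPGroup p ↥P) (hPQ : P ≤ Subgroup.normalizer (Q : Set G)) {x : G}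
    (hxQ : x ∈ Subgroup.normalizer (Q : Set G)) (hx : (orderOf x).Coprime p)
    (hxP : x ∈ Subgroup.centralizer (P : Set G))
    (hC : Q ⊓ Subgroup.centralizer (P : Set G) ≤ Subgroup.centralizer ({x} : Set G)) :
    x ∈ Subgroup.centralizer (Q : Set G) := by
  set X := Subgroup.zpowers x with hXdef
  have hcX : Subgroup.centralizer ({x} : Set G) = Subgroup.centralizer (X : Set G) := by
    rw [hXdef, Subgroup.zpowers_eq_closure, Subgroup.centralizer_closure]
  by_contra hne
  have hQW : ¬ Q ≤ Subgroup.centralizer ({x} : Set G) := by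
    intro h
    refine hne (Subgroup.mem_centralizer_iff.2 fun q hq => ?_)
    exact Subgroup.mem_centralizer_singleton_iff.1 (h hq)
  have hS : IsPGroup p ↥(P ⊔ Q) := hP.to_sup_of_normal_right' hQ hPQ
  haveI : Group.IsNilpotent ↥(P ⊔ Q) := hS.isNilpotent
  obtain ⟨Y, hYQ, hYW, hYS⟩ := exists_commutator_le (S := P ⊔ Q)
    (W := Subgroup.centralizer ({x} : Set G)) le_sup_right (sup_le hPQ Subgroup.le_normalizer) hQW
  have h1 : ⁅⁅Y, P⁆, X⁆ = ⊥ := by
    rw [Subgroup.commutator_eq_bot_iff_le_centralizer, ← hcX]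
    exact (Subgroup.commutator_mono le_rfl le_sup_left).trans hYS
  have h2 : ⁅⁅P, X⁆, Y⁆ = ⊥ := by
    have : ⁅P, X⁆ = ⊥ := by
      rw [Subgroup.commutator_eq_bot_iff_le_centralizer, ← hcX]
      intro u hu
      exact Subgroup.mem_centralizer_singleton_iff.2 (Subgroup.mem_centralizer_iff.1 hxP u hu)
    rw [this, Subgroup.commutator_bot_left]
  have h3 := Subgroup.commutator_commutator_eq_bot_of_rotate h1 h2
  refine hYW fun r hr => ?_
  have hcQ : ⁅x, r⁆ ∈ Q := by
    have h := (Subgroup.mem_normalizer_iff.1 hxQ r).1 (hYQ hr)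
    rw [commutatorElement_def]
    exact Q.mul_mem h (Q.inv_mem (hYQ hr))
  have hcP : ⁅x, r⁆ ∈ Subgroup.centralizer (P : Set G) :=
    Subgroup.commutator_eq_bot_iff_le_centralizer.1 h3
      (Subgroup.commutator_mem_commutator (Subgroup.mem_zpowers x) hr)
  have hcx : Commute ⁅x, r⁆ x := Subgroup.mem_centralizer_singleton_iff.1 (hC ⟨hcQ, hcP⟩)
  have hpow : ∀ n : ℕ, x ^ n * r = ⁅x, r⁆ ^ n * r * x ^ n := by
    intro n
    induction n with
    | zero => simp
    | succ n ih =>
      calc x ^ (n + 1) * r = x * (x ^ n * r) := by rw [pow_succ']; group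
        _ = x * ⁅x, r⁆ ^ n * r * x ^ n := by rw [ih]; group
        _ = ⁅x, r⁆ ^ n * (x * r) * x ^ n := by rw [← (hcx.pow_left n).eq]; group
        _ = ⁅x, r⁆ ^ n * (⁅x, r⁆ * r * x) * x ^ n := by
          congr 2; rw [commutatorElement_def]; group
        _ = ⁅x, r⁆ ^ (n + 1) * r * x ^ (n + 1) := by rw [pow_succ, pow_succ']; group
  have h5 := hpow (orderOf x)
  rw [pow_orderOf_eq_one, one_mul, mul_one] at h5
  have h6 : ⁅x, r⁆ ^ orderOf x = 1 := by simpa using h5.symm
  obtain ⟨k, hk⟩ := hQ ⟨_, hcQ⟩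
  have h7 : ⁅x, r⁆ ^ p ^ k = 1 := congrArg Subtype.val hk
  have h8 : orderOf ⁅x, r⁆ = 1 :=
    Nat.eq_one_of_dvd_coprimes (hx.pow_right k) (orderOf_dvd_of_pow_eq_one h6)
      (orderOf_dvd_of_pow_eq_one h7)
  rw [orderOf_eq_one_iff, commutatorElement_eq_one_iff_mul_comm] at h8
  exact Subgroup.mem_centralizer_singleton_iff.2 h8.symm

/-- A subgroup `D` which is perfect modulo `C` lies in `C` when its `p'`-elements do. -/
theorem le_of_forall_coprime [Finite G] [hp : Fact p.Prime] {D C : Subgroup G}
    (hn : D ≤ Subgroup.normalizer (C : Set G)) (hel : ∀ x ∈ D, (orderOf x).Coprime p → x ∈ C)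
    (hperf : D ≤ ⁅D, D⁆ ⊔ C) : D ≤ C := by
  haveI : (C.subgroupOf D).Normal := Subgroup.normal_subgroupOf_of_le_normalizer hn
  have hq : ∀ q : ℕ, q.Prime → q ∣ (C.subgroupOf D).index → q = p := by
    intro q hq hdvd
    by_contra hne
    haveI : Fact q.Prime := ⟨hq⟩
    obtain ⟨P⟩ : Nonempty (Sylow q ↥D) := inferInstance
    have hle : (P : Subgroup ↥D) ≤ C.subgroupOf D := by
      intro x hx
      obtain ⟨k, hk⟩ := P.isPGroup' ⟨x, hx⟩
      refine hel _ x.2 ?_
      have h1 : orderOf (x : G) ∣ q ^ k := orderOf_dvd_of_pow_eq_one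
        (congrArg (fun z : ↥(P : Subgroup ↥D) => ((z : ↥D) : G)) hk)
      exact ((Nat.coprime_primes hq hp.out).2 hne |>.pow_left k).coprime_dvd_left h1
    exact P.not_dvd_index (hdvd.trans (Subgroup.index_dvd_of_le hle))
  have hQ : IsPGroup p (↥D ⧸ C.subgroupOf D) := by
    have hne : (C.subgroupOf D).index ≠ 0 := Subgroup.index_ne_zero_of_finite
    refine IsPGroup.iff_card.2 ⟨(C.subgroupOf D).index.primeFactorsList.length, ?_⟩
    exact Nat.eq_prime_pow_of_unique_prime_dvd hne fun {d} hd hdvd => hq d hd hdvd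
  haveI : Group.IsPerfect (↥D ⧸ C.subgroupOf D) := by
    rw [Group.isPerfect_def, eq_top_iff]
    intro z _
    obtain ⟨x, rfl⟩ := QuotientGroup.mk'_surjective _ z
    have hx : (x : G) ∈ ((⁅D, D⁆ ⊔ C : Subgroup G) : Set G) := hperf x.2
    rw [Subgroup.coe_mul_of_left_le_normalizer_right _ _ ((Subgroup.commutator_le_self D).trans hn)] at hx
    obtain ⟨d, hd, c, hc, hdc⟩ := hx
    obtain ⟨d', hd', rfl⟩ : d ∈ (commutator ↥D).map D.subtype :=
      (Subgroup.map_subtype_commutator D).symm ▸ hd
    have heq : QuotientGroup.mk' (C.subgroupOf D) d' = QuotientGroup.mk' (C.subgroupOf D) x := by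
      rw [QuotientGroup.mk'_eq_mk']
      refine ⟨d'⁻¹ * x, ?_, by group⟩
      show ((d'⁻¹ * x : ↥D) : G) ∈ C
      rw [Subgroup.coe_mul, ← hdc]
      simpa using hc
    rw [← heq, commutator_def, ← Subgroup.map_top_of_surjective _
      (QuotientGroup.mk'_surjective (C.subgroupOf D)), ← Subgroup.map_commutator]
    exact ⟨d', by rwa [← commutator_def], rfl⟩
  haveI : Group.IsNilpotent (↥D ⧸ C.subgroupOf D) := hQ.isNilpotent
  intro x hx
  by_contra hxC
  haveI : Nontrivial (↥D ⧸ C.subgroupOf D) := ⟨⟨QuotientGroup.mk' _ ⟨x, hx⟩, 1, fun h =>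
    hxC ((QuotientGroup.eq_one_iff (⟨x, hx⟩ : ↥D)).1 h)⟩⟩
  exact Group.IsPerfect.not_isNilpotent (↥D ⧸ C.subgroupOf D) inferInstance

/-- A group whose only element of order prime to `p` is `1` is a `p`-group. -/
theorem isPGroup_of_forall_coprime [Finite G] [hp : Fact p.Prime] {H : Subgroup G}
    (h : ∀ x ∈ H, (orderOf x).Coprime p → x = 1) : IsPGroup p ↥H := by
  intro x
  refine ⟨(orderOf (x : G)).factorization p, Subtype.ext ?_⟩
  rw [SubgroupClass.coe_pow]
  refine h _ (H.pow_mem x.2 _) ?_
  have hn : orderOf (x : G) ≠ 0 := (orderOf_pos _).ne'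
  rw [orderOf_pow_of_dvd (pow_ne_zero _ hp.out.ne_zero) (Nat.ordProj_dvd _ _)]
  exact (Nat.coprime_ordCompl hp.out hn).symm

/-- A normal `p`-subgroup of a subgroup `N` lies in `O_p(N)`. -/
theorem subgroupOf_le_pCore {N S : Subgroup G} (hn : N ≤ Subgroup.normalizer (S : Set G))
    (hS : IsPGroup p ↥S) : S.subgroupOf N ≤ pCore p ↥N := by
  haveI : (S.subgroupOf N).Normal := Subgroup.normal_subgroupOf_of_le_normalizer hn
  exact Cores.le_pCore hS.comap_subtype

/-- `O_p(H)` as a subgroup of the ambient group is normalized by `H`. -/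
theorem le_normalizer_map_pCore (H : Subgroup G) :
    H ≤ Subgroup.normalizer (((pCore p ↥H).map H.subtype : Subgroup G) : Set G) := by
  have h := Subgroup.le_normalizer_map (H := pCore p ↥H) H.subtype
  rwa [Subgroup.normalizer_eq_top, ← MonoidHom.range_eq_map, Subgroup.range_subtype] at h

/-- `C(O_p) ≤ O_p` forces `O_{p'} = 1`. -/
theorem pPrimeCore_eq_bot_of_centralizer_le [Finite G] [Fact p.Prime]
    (h : Subgroup.centralizer (pCore p G : Set G) ≤ pCore p G) : pPrimeCore p G = ⊥ := by
  have h1 : ⁅pPrimeCore p G, pCore p G⁆ = ⊥ :=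
    Subgroup.commutator_eq_bot_of_disjoint (disjoint_iff.2 (by rw [inf_comm]; exact Cores.pCore_inf_pPrimeCore p))
  rw [← le_bot_iff, ← Cores.pCore_inf_pPrimeCore (G := G) p]
  exact le_inf ((Subgroup.commutator_eq_bot_iff_le_centralizer.1 h1).trans h) le_rfl

/-- `C(O_p) ≤ O_p` is the same as `F* = O_p`. -/
theorem centralizer_pCore_le_iff [Finite G] [hp : Fact p.Prime] :
    Subgroup.centralizer (pCore p G : Set G) ≤ pCore p G ↔
      generalizedFittingSubgroup G = pCore p G := by
  refine ⟨fun h => le_antisymm (sup_le ?_ ?_) ?_, fun h => h ▸ Components.GenFitting.centralizer_le⟩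
  · refine sSup_le fun K hK => ?_
    haveI : Group.IsNilpotent ↥(pCore p G) := (Cores.pCore_isPGroup p).isNilpotent
    refine absurd (le_trans ?_ h) (Components.Component.not_le_of_isSolvable hK (N := pCore p G))
    exact (Subgroup.le_centralizer_iff.1 (Components.Component.fittingSubgroup_le_centralizer hK)).trans
      (Subgroup.centralizer_le (Cores.pCore_le_fittingSubgroup p))
  · rw [Cores.fittingSubgroup_eq_iSup_pCore]
    refine iSup_le fun q => ?_
    by_cases hq : (q : ℕ) = p
    · rw [hq]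
    · have h1 : pCore (q : ℕ) G ≤ pPrimeCore p G := by
        haveI : Fact (q : ℕ).Prime := ⟨q.2⟩
        refine Cores.le_pPrimeCore ?_
        obtain ⟨k, hk⟩ := IsPGroup.iff_card.1 (Cores.pCore_isPGroup (G := G) (q : ℕ))
        rw [hk]
        exact ((Nat.coprime_primes q.2 hp.out).2 hq).pow_left k
      rw [pPrimeCore_eq_bot_of_centralizer_le h] at h1
      exact h1.trans bot_le
  · exact (Cores.pCore_le_fittingSubgroup p).trans le_sup_right

/-- Characteristic `p` passes to normalizers of `p`-subgroups. -/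
theorem centralizer_pCore_le_normalizer [Finite G] [Fact p.Prime]
    (h : Subgroup.centralizer (pCore p G : Set G) ≤ pCore p G) {P : Subgroup G} (hP : IsPGroup p ↥P) :
    Subgroup.centralizer (pCore p ↥(Subgroup.normalizer (P : Set G)) : Set ↥(Subgroup.normalizer (P : Set G)))
      ≤ pCore p ↥(Subgroup.normalizer (P : Set G)) := by
  set N := Subgroup.normalizer (P : Set G) with hN
  have hPN : P ≤ N := Subgroup.le_normalizer
  have hPS : P.subgroupOf N ≤ pCore p ↥N := subgroupOf_le_pCore le_rfl hP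
  have hQS : (pCore p G).subgroupOf N ≤ pCore p ↥N :=
    subgroupOf_le_pCore Subgroup.le_normalizer_of_normal (Cores.pCore_isPGroup p)
  haveI : (Subgroup.centralizer (pCore p ↥N : Set ↥N)).Normal := Subgroup.normal_centralizer
  refine Cores.le_pCore (isPGroup_of_forall_coprime fun x hx hcop => Subtype.ext ?_)
  rw [Subgroup.mem_centralizer_iff] at hx
  have hcop' : (orderOf (x : G)).Coprime p := by rwa [Subgroup.orderOf_coe]
  have hxQ : (x : G) ∈ pCore p G := by
    refine h (mem_centralizer_pGroup (Cores.pCore_isPGroup p) hP Subgroup.le_normalizer_of_normal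
      (Subgroup.le_normalizer_of_normal (H := pCore p G) (K := ⊤) trivial) hcop' ?_ ?_)
    · exact Subgroup.mem_centralizer_iff.2 fun u hu =>
        congrArg Subtype.val (hx ⟨u, hPN hu⟩ (hPS hu))
    · rintro y ⟨hyQ, hyP⟩
      have hyN : y ∈ N := Subgroup.centralizer_le_normalizer _ hyP
      exact Subgroup.mem_centralizer_singleton_iff.2
        (congrArg Subtype.val (hx ⟨y, hyN⟩ (hQS hyQ)))
  obtain ⟨k, hk⟩ := Cores.pCore_isPGroup p ⟨(x : G), hxQ⟩
  exact orderOf_eq_one_iff.1 (Nat.eq_one_of_dvd_coprimes (hcop'.pow_right k) dvd_rfl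
    (orderOf_dvd_of_pow_eq_one (congrArg Subtype.val hk)))

/-- If every centralizer of an element of order `p` has characteristic `p`, so has every `p`-local. -/
theorem centralizer_pCore_le_local [Finite G] [hp : Fact p.Prime]
    (h : ∀ t : G, orderOf t = p → Subgroup.centralizer
      (pCore p ↥(Subgroup.centralizer ({t} : Set G)) : Set ↥(Subgroup.centralizer ({t} : Set G))) ≤
        pCore p ↥(Subgroup.centralizer ({t} : Set G)))
    {T : Subgroup G} (hT : IsPGroup p ↥T) (hT1 : T ≠ ⊥) :
    Subgroup.centralizer (pCore p ↥(Subgroup.normalizer (T : Set G)) : Set ↥(Subgroup.normalizer (T : Set G)))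
      ≤ pCore p ↥(Subgroup.normalizer (T : Set G)) := by
  set N := Subgroup.normalizer (T : Set G) with hN
  set S := (pCore p ↥N).map N.subtype with hSdef
  have hS : IsPGroup p ↥S := (Cores.pCore_isPGroup p).map _
  have hTS : T ≤ S := fun t ht =>
    ⟨⟨t, Subgroup.le_normalizer ht⟩, subgroupOf_le_pCore le_rfl hT ht, rfl⟩
  haveI : Nontrivial ↥S := by
    rw [Subgroup.nontrivial_iff_ne_bot]
    exact fun hb => hT1 (le_bot_iff.1 (hb ▸ hTS))
  obtain ⟨k, hk⟩ := IsPGroup.iff_card.1 (hS.to_subgroup (Subgroup.center ↥S))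
  haveI := hS.center_nontrivial
  have hdvd : p ∣ Nat.card ↥(Subgroup.center ↥S) := by
    rcases k with _ | k
    · have := Finite.one_lt_card (α := ↥(Subgroup.center ↥S))
      rw [hk, pow_zero] at this
      omega
    · rw [hk]; exact dvd_pow_self p (Nat.succ_ne_zero k)
  obtain ⟨z, hz⟩ := exists_prime_orderOf_dvd_card' p hdvd
  set t : G := ((z : ↥S) : G) with ht
  have hot : orderOf t = p := by rw [ht, Subgroup.orderOf_coe, Subgroup.orderOf_coe, hz]
  set L := Subgroup.centralizer ({t} : Set G) with hL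
  have hSL : S ≤ L := fun s hs => Subgroup.mem_centralizer_singleton_iff.2
    (congrArg Subtype.val (Subgroup.mem_center_iff.1 z.2 ⟨s, hs⟩))
  have hXL : Subgroup.centralizer (S : Set G) ≤ L := fun x hx =>
    Subgroup.mem_centralizer_singleton_iff.2
      ((Subgroup.mem_centralizer_iff.1 hx t (z : ↥S).2).symm)
  have hXN : Subgroup.centralizer (S : Set G) ≤ N :=
    (Subgroup.centralizer_le hTS).trans (Subgroup.centralizer_le_normalizer _)
  have hSN : N ≤ Subgroup.normalizer (S : Set G) := le_normalizer_map_pCore N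
  set R := (pCore p ↥L).map L.subtype with hRdef
  have hR : IsPGroup p ↥R := (Cores.pCore_isPGroup p).map _
  have hLR : L ≤ Subgroup.normalizer (R : Set G) := le_normalizer_map_pCore L
  -- `R ∩ C(S)` is a subnormal `p`-subgroup of `N`, so it lies in `S`
  have hRS : R ⊓ Subgroup.centralizer (S : Set G) ≤ S := by
    have hXn : N ≤ Subgroup.normalizer (Subgroup.centralizer (S : Set G) : Set G) := by
      intro n hn
      rw [Subgroup.mem_normalizer_iff]
      intro x
      have key : ∀ n ∈ N, ∀ x ∈ Subgroup.centralizer (S : Set G),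
          n * x * n⁻¹ ∈ Subgroup.centralizer (S : Set G) := by
        intro n hn x hx
        rw [Subgroup.mem_centralizer_iff] at hx ⊢
        intro s hs
        have h1 := hx _ ((Subgroup.mem_normalizer_iff.1 (hSN (N.inv_mem hn)) s).1 hs)
        calc s * (n * x * n⁻¹) = n * ((n⁻¹ * s * n⁻¹⁻¹) * x) * n⁻¹ := by group
          _ = n * (x * (n⁻¹ * s * n⁻¹⁻¹)) * n⁻¹ := by rw [h1]
          _ = n * x * n⁻¹ * s := by group
      refine ⟨key n hn x, fun hx => ?_⟩
      have := key _ (N.inv_mem hn) _ hx
      simpa [mul_assoc] using this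
    have hsn : ((R ⊓ Subgroup.centralizer (S : Set G)).subgroupOf N).IsSubnormal := by
      refine Subgroup.IsSubnormal.step _ ((Subgroup.centralizer (S : Set G)).subgroupOf N)
        (Subgroup.comap_mono inf_le_right)
        (Subgroup.normal_subgroupOf_of_le_normalizer hXn).isSubnormal
        ((Subgroup.normal_subgroupOf_iff (Subgroup.comap_mono inf_le_right)).2 ?_)
      intro r x hr hx
      exact ⟨(Subgroup.mem_normalizer_iff.1 (hLR (hXL hx)) _).1 hr.1,
        Subgroup.mul_mem _ (Subgroup.mul_mem _ hx hr.2) (Subgroup.inv_mem _ hx)⟩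
    have := Cores.IsSubnormal.le_pCore hsn (hR.to_inf_left.comap_subtype)
    intro r hr
    exact ⟨⟨r, hXN hr.2⟩, this hr, rfl⟩
  haveI : (Subgroup.centralizer (pCore p ↥N : Set ↥N)).Normal := Subgroup.normal_centralizer
  refine Cores.le_pCore (isPGroup_of_forall_coprime fun x hx hcop => Subtype.ext ?_)
  rw [Subgroup.mem_centralizer_iff] at hx
  have hcop' : (orderOf (x : G)).Coprime p := by rwa [Subgroup.orderOf_coe]
  have hxS : (x : G) ∈ Subgroup.centralizer (S : Set G) :=
    Subgroup.mem_centralizer_iff.2 fun s ⟨s', hs', he⟩ => he ▸ congrArg Subtype.val (hx s' hs')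
  have hxR : (x : G) ∈ R := by
    have h1 := mem_centralizer_pGroup hR hS (hSL.trans hLR) (hLR (hXL hxS)) hcop' hxS
      (fun r hr => Subgroup.mem_centralizer_singleton_iff.2
        (Subgroup.mem_centralizer_iff.1 hxS r (hRS hr)))
    have h2 : (⟨x, hXL hxS⟩ : ↥L) ∈ Subgroup.centralizer (pCore p ↥L : Set ↥L) :=
      Subgroup.mem_centralizer_iff.2 fun r hr =>
        Subtype.ext (Subgroup.mem_centralizer_iff.1 h1 r ⟨r, hr, rfl⟩)
    exact ⟨_, h t hot h2, rfl⟩
  obtain ⟨k, hk⟩ := hR ⟨(x : G), hxR⟩
  exact orderOf_eq_one_iff.1 (Nat.eq_one_of_dvd_coprimes (hcop'.pow_right k) dvd_rfl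
    (orderOf_dvd_of_pow_eq_one (congrArg Subtype.val hk)))

/-- If `D ≤ N_G(P)` covers the layer of `N_G(P)/O_{p'}(N_G(P))` then `D` centralizes `O_p(G)`. -/
theorem layer_preimage_le_centralizer [Finite G] [Fact p.Prime] {P : Subgroup G} (hP : IsPGroup p ↥P) :
    ((layer (↥(Subgroup.normalizer (P : Set G)) ⧸ pPrimeCore p ↥(Subgroup.normalizer (P : Set G)))).comap
      (QuotientGroup.mk' (pPrimeCore p ↥(Subgroup.normalizer (P : Set G))))).map
        (Subgroup.normalizer (P : Set G)).subtype ≤ Subgroup.centralizer (pCore p G : Set G) := by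
  set N := Subgroup.normalizer (P : Set G) with hN
  set O := pPrimeCore p ↥N with hO
  set π := QuotientGroup.mk' O with hπ
  set D := (layer (↥N ⧸ O)).comap π with hD
  have hDS : ⁅D, pCore p ↥N⁆ = ⊥ := by
    rw [← le_bot_iff, ← Cores.pCore_inf_pPrimeCore (G := ↥N) p]
    refine le_inf (Subgroup.commutator_le_right _ _) ?_
    have h1 : (⁅D, pCore p ↥N⁆).map π ≤ ⊥ := by
      rw [Subgroup.map_commutator, ← Components.Layer.commutator_layer_fitting (G := ↥N ⧸ O)]
      exact Subgroup.commutator_mono (Subgroup.map_comap_le _ _)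
        ((Cores.map_pCore_le π (QuotientGroup.mk'_surjective O)).trans
          (Cores.pCore_le_fittingSubgroup p))
    rw [Subgroup.map_le_iff_le_comap, MonoidHom.comap_bot, QuotientGroup.ker_mk'] at h1
    exact h1
  rw [Subgroup.commutator_eq_bot_iff_le_centralizer] at hDS
  have hcent : ∀ y : ↥N, y ∈ D → (orderOf (y : G)).Coprime p →
      (y : G) ∈ Subgroup.centralizer (pCore p G : Set G) := by
    intro y hy hcop
    have hy' := Subgroup.mem_centralizer_iff.1 (hDS hy)
    refine mem_centralizer_pGroup (Cores.pCore_isPGroup p) hP Subgroup.le_normalizer_of_normal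
      (Subgroup.le_normalizer_of_normal (H := pCore p G) (K := ⊤) trivial) hcop ?_ ?_
    · exact Subgroup.mem_centralizer_iff.2 fun u hu =>
        congrArg Subtype.val (hy' ⟨u, Subgroup.le_normalizer hu⟩ (subgroupOf_le_pCore le_rfl hP hu))
    · rintro q ⟨hqQ, hqP⟩
      exact Subgroup.mem_centralizer_singleton_iff.2 (congrArg Subtype.val
        (hy' ⟨q, Subgroup.centralizer_le_normalizer _ hqP⟩
          (subgroupOf_le_pCore Subgroup.le_normalizer_of_normal (Cores.pCore_isPGroup p) hqQ)))
  haveI : (Subgroup.centralizer (pCore p G : Set G)).Normal := Subgroup.normal_centralizer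
  refine le_of_forall_coprime (p := p) Subgroup.le_normalizer_of_normal ?_ ?_
  · rintro x ⟨y, hy, rfl⟩ hcop
    exact hcent y hy hcop
  · have hper : D ≤ ⁅D, D⁆ ⊔ O := by
      have h1 : D.map π ≤ (⁅D, D⁆).map π := by
        rw [Subgroup.map_commutator, Subgroup.map_comap_eq_self_of_surjective
          (QuotientGroup.mk'_surjective O), Components.Layer.commutator_layer_self]
      rwa [Subgroup.map_le_map_iff, QuotientGroup.ker_mk'] at h1
    refine (Subgroup.map_mono hper).trans ?_
    rw [Subgroup.map_sup, Subgroup.map_commutator]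
    refine sup_le_sup_left ?_ _
    rintro x ⟨y, hy, rfl⟩
    refine hcent y ?_ ?_
    · show π y ∈ layer (↥N ⧸ O)
      rw [show π y = 1 from (QuotientGroup.eq_one_iff y).2 hy]
      exact one_mem _
    · rw [Subgroup.orderOf_coe]
      exact Nat.Coprime.coprime_dvd_left (Subgroup.orderOf_dvd_natCard _ hy)
        (Cores.pPrimeCore_coprime p)

/-- For `P ≤ O_p(G)` the layer of `N_G(P)` is the layer of `G`. -/
theorem layer_normalizer_eq [Finite G] [Fact p.Prime] {P : Subgroup G} (hP : P ≤ pCore p G) :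
    (layer ↥(Subgroup.normalizer (P : Set G))).map (Subgroup.normalizer (P : Set G)).subtype =
      layer G := by
  have hPp : IsPGroup p ↥P := (Cores.pCore_isPGroup p).to_le hP
  set N := Subgroup.normalizer (P : Set G) with hN
  have hCN : Subgroup.centralizer (pCore p G : Set G) ≤ N :=
    (Subgroup.centralizer_le hP).trans (Subgroup.centralizer_le_normalizer _)
  refine le_antisymm ?_ (sSup_le fun K hK => ?_)
  · rw [Subgroup.map_le_iff_le_comap]
    refine sSup_le fun K hK => ?_
    rw [← Subgroup.map_le_iff_le_comap]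
    have hKC : K.map N.subtype ≤ Subgroup.centralizer (pCore p G : Set G) := by
      refine le_trans (Subgroup.map_mono ?_) (layer_preimage_le_centralizer hPp)
      rw [← Subgroup.map_le_iff_le_comap]
      refine le_trans ?_ (le_of_eq (Components.PComponent.map_pLayer (G := ↥N) (p := p)))
      by_cases hb : K.map (QuotientGroup.mk' (pPrimeCore p ↥N)) = ⊥
      · rw [hb]; exact bot_le
      rw [Components.PComponent.map_pLayer]
      haveI : Nontrivial ↥(K.map (QuotientGroup.mk' (pPrimeCore p ↥N))) :=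
        (Subgroup.nontrivial_iff_ne_bot _).2 hb
      exact le_sSup ⟨hK.1.map (QuotientGroup.mk'_surjective _),
        Components.Quasisimple.of_surjective hK.2 ((QuotientGroup.mk' _).subgroupMap_surjective K)⟩
    refine le_sSup ⟨?_, Components.Quasisimple.of_mulEquiv hK.2
      (K.equivMapOfInjective _ N.subtype_injective)⟩
    haveI : (Subgroup.centralizer (pCore p G : Set G)).Normal := Subgroup.normal_centralizer
    refine Subgroup.IsSubnormal.trans hKC ?_
      (inferInstance : (Subgroup.centralizer (pCore p G : Set G)).Normal).isSubnormal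
    exact hK.1.comap (Subgroup.inclusion hCN) |> fun h => by
      convert h using 1
      ext x
      simp only [Subgroup.mem_subgroupOf, Subgroup.mem_comap, Subgroup.mem_map]
      exact ⟨fun ⟨y, hy, he⟩ => (Subtype.ext he : y = Subgroup.inclusion hCN x) ▸ hy,
        fun hx => ⟨_, hx, rfl⟩⟩
  · have hKN : K ≤ N := le_trans ((Subgroup.le_centralizer_iff.1
      (Components.Component.fittingSubgroup_le_centralizer hK)).trans
        (Subgroup.centralizer_le (Cores.pCore_le_fittingSubgroup p))) hCN
    intro x hx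
    exact ⟨⟨x, hKN hx⟩, Components.Layer.component_le_layer
      (Components.Component.subgroupOf hK hKN) hx, rfl⟩

end Cfsg.Agent.Lib.Balance
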