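import Cfsg.Agent.Lib.Balance.PLayer

/-!
# p-local cores acting on components

Owner: helper33. Namespace `Cfsg.Agent.Lib.Balance`. With `O_{p'}(G) = 1` and a `p`-subgroup `R`:
* `core_normalizer_le_componentKernel`: `O_{p'}(N(R))` normalizes every component;
* `layer_preimage_le_componentKernel`: so does the preimage of `E(N(R)/O_{p'}(N(R)))`;
* `coreIn_le_centralizer_of_centralized`: `O_{p'}(N(R))` centralizes a component centralized by `R`;
* `centralizerPPrimeCore_le_centralizer`: `O_{p'}(C(x))` centralizes each component `L` with `[L,x] ≠ L`.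
-/

set_option autoImplicit false
set_option linter.style.haveILetI false
open Cfsg
open scoped commutatorElement

namespace Cfsg.Agent.Lib.Balance

variable {G : Type*} [Group G] {p : ℕ}

/-- The conjugate `g L g⁻¹`. -/
def cj (g : G) (L : Subgroup G) : Subgroup G := L.map (MulAut.conj g).toMonoidHom

theorem cj_mul (g h : G) (L : Subgroup G) : cj (g * h) L = cj g (cj h L) := by
  simp only [cj, Subgroup.map_map]
  congr 1
  ext x
  simp [MulAut.conj_apply, mul_assoc]

theorem cj_one (L : Subgroup G) : cj 1 L = L := by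
  ext x
  simp [cj, Subgroup.mem_map]

theorem mem_normalizer_iff_cj {g : G} {L : Subgroup G} :
    g ∈ Subgroup.normalizer (L : Set G) ↔ cj g L = L :=
  Subgroup.mem_normalizer_iff_map_conj_eq

theorem conj_mem_cj {g x : G} {L : Subgroup G} (hx : x ∈ L) : g * x * g⁻¹ ∈ cj g L := ⟨x, hx, rfl⟩

/-- The normalizer of a subgroup normalizes its centralizer. -/
theorem normalizer_le_normalizer_centralizer (H : Subgroup G) :
    Subgroup.normalizer (H : Set G) ≤ Subgroup.normalizer (Subgroup.centralizer (H : Set G) : Set G) :=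
  (Subgroup.normal_subgroupOf_iff_le_normalizer (Subgroup.centralizer_le_normalizer _)).1
    (Subgroup.normal_subgroupOf_centralizer_normalizer _)

theorem normalizer_le_normalizer_coreIn (H : Subgroup G) :
    Subgroup.normalizer (H : Set G) ≤ Subgroup.normalizer (coreIn p H : Set G) := by
  intro g hg
  rw [mem_normalizer_iff_cj] at hg ⊢
  calc cj g (coreIn p H) = coreIn p (cj g H) := map_coreIn _ H
    _ = coreIn p H := by rw [hg]

/-- The normal subgroup of all elements fixing every component. -/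
def componentKernel (G : Type*) [Group G] : Subgroup G :=
  ⨅ L : {K : Subgroup G // IsComponent K}, Subgroup.normalizer ((L : Subgroup G) : Set G)

theorem mem_componentKernel {g : G} :
    g ∈ componentKernel G ↔ ∀ L : Subgroup G, IsComponent L → cj g L = L := by
  simp only [componentKernel, Subgroup.mem_iInf, Subtype.forall, mem_normalizer_iff_cj]

theorem componentKernel_normal : (componentKernel G).Normal := by
  refine ⟨fun n hn g => mem_componentKernel.2 fun L hL => ?_⟩
  rw [cj_mul, cj_mul, show cj n (cj g⁻¹ L) = cj g⁻¹ L from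
    mem_componentKernel.1 hn _ (Components.Component.conj hL g⁻¹), ← cj_mul,
    mul_inv_cancel, cj_one]

theorem layer_le_componentKernel [Finite G] : layer G ≤ componentKernel G :=
  le_iInf fun L => Components.Layer.layer_le_normalizer L.2

variable [Finite G] [hp : Fact p.Prime]

theorem fitting_eq_pCore (hO : pPrimeCore p G = ⊥) : fittingSubgroup G = pCore p G := by
  refine le_antisymm ?_ (Cores.pCore_le_fittingSubgroup p)
  rw [Cores.fittingSubgroup_eq_iSup_pCore]
  refine iSup_le fun q => ?_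
  by_cases hq : (q : ℕ) = p
  · rw [hq]
  · have h1 : pCore (q : ℕ) G ≤ pPrimeCore p G := by
      haveI : Fact (q : ℕ).Prime := ⟨q.2⟩
      refine Cores.le_pPrimeCore ?_
      obtain ⟨k, hk⟩ := IsPGroup.iff_card.1 (Cores.pCore_isPGroup (G := G) (q : ℕ))
      rw [hk]
      exact ((Nat.coprime_primes q.2 hp.out).2 hq).pow_left k
    rw [hO] at h1
    exact h1.trans bot_le

theorem layer_le_centralizer_pCore : layer G ≤ Subgroup.centralizer (pCore p G : Set G) :=
  (Subgroup.le_centralizer_iff.1 Components.Layer.fitting_le_centralizer_layer).trans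
    (Subgroup.centralizer_le (Cores.pCore_le_fittingSubgroup p))

theorem component_le_centralizer_pCore {L : Subgroup G} (hL : IsComponent L) :
    L ≤ Subgroup.centralizer (pCore p G : Set G) :=
  (Components.Layer.component_le_layer hL).trans layer_le_centralizer_pCore

/-- A subgroup of the layer, normalized by it, has centre inside `O_p`. -/
theorem inf_centralizer_le_pCore (hO : pPrimeCore p G = ⊥) {M : Subgroup G} (hM : M ≤ layer G)
    (hn : layer G ≤ Subgroup.normalizer (M : Set G)) :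
    M ⊓ Subgroup.centralizer (M : Set G) ≤ pCore p G := by
  have hsn : (M ⊓ Subgroup.centralizer (M : Set G)).IsSubnormal :=
    Subgroup.IsSubnormal.step _ _ (inf_le_left.trans hM)
      (Components.Layer.layer_normal (G := G)).isSubnormal
      (Subgroup.normal_subgroupOf_of_le_normalizer fun g hg => by
        have h1 := hn hg
        have h2 := normalizer_le_normalizer_centralizer M h1
        rw [Subgroup.mem_normalizer_iff] at h1 h2 ⊢
        exact fun x => by rw [Subgroup.mem_inf, Subgroup.mem_inf, ← h1 x, ← h2 x])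
  rw [← fitting_eq_pCore hO]
  refine Cores.IsSubnormal.le_fittingSubgroup hsn ?_
  haveI : IsMulCommutative ↥(M ⊓ Subgroup.centralizer (M : Set G)) :=
    Subgroup.le_centralizer_iff_isMulCommutative.1
      (inf_le_right.trans (Subgroup.centralizer_le inf_le_left))
  exact Subgroup.isNilpotent_of_lowerCentralSeries_eq_bot (n := 1) (by
    rw [Subgroup.lowerCentralSeries_succ, Subgroup.lowerCentralSeries_zero,
      Subgroup.commutator_self_eq_bot_iff]
    infer_instance)

/-- A component has a noncentral element of `p`-power order. -/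
theorem exists_pElement_component (hO : pPrimeCore p G = ⊥) {L : Subgroup G} (hL : IsComponent L) :
    ∃ l ∈ L, (∃ k : ℕ, l ^ p ^ k = 1) ∧ l ∉ Subgroup.centralizer (L : Set G) := by
  obtain ⟨P⟩ : Nonempty (Sylow p ↥L) := inferInstance
  obtain ⟨x, hx, hxc⟩ : ∃ x, x ∈ (P : Subgroup ↥L) ∧ x ∉ Subgroup.center ↥L := by
    by_contra h
    push Not at h
    refine Components.PComponent.component_center_index_not_coprime hO hL ?_
    exact (hp.out.coprime_iff_not_dvd.2
      fun hd => P.not_dvd_index (hd.trans (Subgroup.index_dvd_of_le h))).symm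
  obtain ⟨k, hk⟩ := P.isPGroup' ⟨x, hx⟩
  refine ⟨x, x.2, ⟨k, congrArg (fun z : ↥(P : Subgroup ↥L) => ((z : ↥L) : G)) hk⟩, fun hc => hxc ?_⟩
  exact Subgroup.mem_center_iff.2 fun y => Subtype.ext (Subgroup.mem_centralizer_iff.1 hc y y.2)

/-- Inside the join `M` of an `R`-orbit of components some noncentral `p`-element commutes with `R`
modulo `O_p(G)`. -/
theorem exists_orbit_element (hO : pPrimeCore p G = ⊥) {R : Subgroup G} (hR : IsPGroup p ↥R)
    {L : Subgroup G} (hL : IsComponent L) :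
    ∃ c, c ∈ (⨆ u : R, cj (u : G) L) ∧ (∃ k : ℕ, c ^ p ^ k = 1) ∧
      c ∉ Subgroup.centralizer ((⨆ u : R, cj (u : G) L : Subgroup G) : Set G) ∧
      ∀ u ∈ R, ⁅c, u⁆ ∈ pCore p G := by
  set M := ⨆ u : R, cj (u : G) L with hM
  have hcomp : ∀ u : G, IsComponent (cj u L) := fun u => Components.Component.conj hL u
  have hML : M ≤ layer G := iSup_le fun u => Components.Layer.component_le_layer (hcomp u)
  have hLM : L ≤ M := by
    refine le_iSup_of_le (1 : R) ?_
    rw [Subgroup.coe_one, cj_one]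
  have hlay : layer G ≤ Subgroup.normalizer (M : Set G) := by
    intro g hg
    rw [mem_normalizer_iff_cj, cj, hM, Subgroup.map_iSup]
    exact iSup_congr fun u =>
      Subgroup.mem_normalizer_iff_map_conj_eq.1 (Components.Layer.layer_le_normalizer (hcomp u) hg)
  have hRM : R ≤ Subgroup.normalizer (M : Set G) := by
    intro r hr
    rw [mem_normalizer_iff_cj, cj, hM, Subgroup.map_iSup]
    refine le_antisymm (iSup_le fun u => le_iSup_of_le ((⟨r, hr⟩ : R) * u) ?_)
      (iSup_le fun u => le_iSup_of_le ((⟨r, hr⟩ : R)⁻¹ * u) ?_)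
    · exact le_of_eq (cj_mul r (u : G) L).symm
    · refine le_of_eq ?_
      show cj (u : G) L = cj r (cj (r⁻¹ * (u : G)) L)
      rw [← cj_mul, mul_inv_cancel_left]
  have hMC := normalizer_le_normalizer_centralizer M
  set H := R ⊔ M with hH
  have hHM : H ≤ Subgroup.normalizer (M : Set G) := sup_le hRM Subgroup.le_normalizer
  obtain ⟨S, hS⟩ := (hR.comap_subtype (K := H)).exists_le_sylow
  set Sr := (S : Subgroup ↥H).map H.subtype with hSr
  have hSrp : IsPGroup p ↥Sr := S.isPGroup'.map _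
  have hSrH : Sr ≤ H := Subgroup.map_subtype_le _
  have hRSr : R ≤ Sr := fun r hr =>
    ⟨⟨r, (le_sup_left : R ≤ H) hr⟩, hS hr, rfl⟩
  haveI : Group.IsNilpotent ↥Sr := hSrp.isNilpotent
  obtain ⟨l, hl, ⟨k, hk⟩, hlc⟩ := exists_pElement_component hO hL
  have hnot : ¬ Sr ⊓ M ≤ Subgroup.centralizer (M : Set G) := by
    intro hle
    have hlH : l ∈ H := (le_sup_right : M ≤ H) (hLM hl)
    have hlp : IsPGroup p ↥(Subgroup.zpowers (⟨l, hlH⟩ : ↥H)) := by
      refine IsPGroup.iff_card.2 ?_
      rw [Nat.card_zpowers]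
      obtain ⟨i, -, hi⟩ := (Nat.dvd_prime_pow hp.out).1
        (orderOf_dvd_of_pow_eq_one (Subtype.ext hk : (⟨l, hlH⟩ : ↥H) ^ p ^ k = 1))
      exact ⟨i, hi⟩
    obtain ⟨S', hS'⟩ := hlp.exists_le_sylow
    obtain ⟨h, hh⟩ := MulAction.exists_smul_eq ↥H S S'
    have hl1 : (⟨l, hlH⟩ : ↥H) ∈ ((h • S : Sylow p ↥H) : Subgroup ↥H) :=
      hh ▸ hS' (Subgroup.mem_zpowers _)
    rw [Sylow.coe_subgroup_smul, Subgroup.mem_pointwise_smul_iff_inv_smul_mem] at hl1
    have hl2 : (h : G)⁻¹ * l * (h : G) ∈ Sr :=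
      ⟨_, hl1, by simp [MulAut.smul_def]⟩
    have hl3 : (h : G)⁻¹ * l * (h : G) ∈ M :=
      (Subgroup.mem_normalizer_iff''.1 (hHM h.2) l).1 (hLM hl)
    have hl4 := (Subgroup.mem_normalizer_iff''.1 (hMC (hHM h.2)) l).2 (hle ⟨hl2, hl3⟩)
    exact hlc (Subgroup.centralizer_le hLM hl4)
  have hSn : Sr ≤ Subgroup.normalizer ((Sr ⊓ M : Subgroup G) : Set G) := by
    intro s hs
    have h1 := Subgroup.mem_normalizer_iff.1 (Subgroup.le_normalizer hs : s ∈ Subgroup.normalizer (Sr : Set G))
    have h2 := Subgroup.mem_normalizer_iff.1 (hHM (hSrH hs))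
    rw [Subgroup.mem_normalizer_iff]
    exact fun x => by rw [Subgroup.mem_inf, Subgroup.mem_inf, ← h1 x, ← h2 x]
  obtain ⟨Y, hY, hYC, hYS⟩ := exists_commutator_le (S := Sr)
    (W := Subgroup.centralizer (M : Set G)) inf_le_left hSn hnot
  obtain ⟨c, hcY, hcC⟩ := SetLike.not_le_iff_exists.1 hYC
  obtain ⟨i, hi⟩ := hSrp ⟨c, (hY hcY).1⟩
  refine ⟨c, (hY hcY).2, ⟨i, congrArg Subtype.val hi⟩, hcC, fun u hu => ?_⟩
  refine inf_centralizer_le_pCore hO hML hlay
    ⟨?_, hYS (Subgroup.commutator_mem_commutator hcY (hRSr hu))⟩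
  rw [commutatorElement_def, mul_assoc, mul_assoc]
  refine M.mul_mem (hY hcY).2 ?_
  rw [← mul_assoc u]
  exact (Subgroup.mem_normalizer_iff.1 (hRM hu) c⁻¹).1 (M.inv_mem (hY hcY).2)

/-- Criterion for a `p'`-element commuting with `R` to fix every component. -/
theorem mem_componentKernel_of_commutator_mem (hO : pPrimeCore p G = ⊥) {R O : Subgroup G}
    (hR : IsPGroup p ↥R) (hOc : (Nat.card ↥O).Coprime p) {y : G} (hy : (orderOf y).Coprime p)
    (hyR : y ∈ Subgroup.centralizer (R : Set G))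
    (h : ∀ c ∈ layer G, (∃ k : ℕ, c ^ p ^ k = 1) → (∀ u ∈ R, ⁅c, u⁆ ∈ pCore p G) → ⁅c, y⁆ ∈ O) :
    y ∈ componentKernel G := by
  refine mem_componentKernel.2 fun L hL => ?_
  rw [Subgroup.mem_centralizer_iff] at hyR
  by_cases hex : ∃ u ∈ R, cj y L = cj u L
  · obtain ⟨u, hu, huL⟩ := hex
    have hcomm : Commute y u := (hyR u hu).symm
    have hpow : ∀ n : ℕ, cj (y ^ n) L = cj (u ^ n) L := by
      intro n
      induction n with
      | zero => simp
      | succ n ih =>
        rw [pow_succ, cj_mul, huL, ← cj_mul, (hcomm.pow_left n).eq, cj_mul, ih, ← cj_mul, ← pow_succ']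
    have h1 : cj (u ^ orderOf y) L = L := by rw [← hpow, pow_orderOf_eq_one, cj_one]
    rw [← mem_normalizer_iff_cj] at h1
    obtain ⟨i, hi⟩ := hR ⟨u, hu⟩
    have hcop : (orderOf y).Coprime (orderOf u) :=
      (hy.pow_right i).coprime_dvd_right
        (orderOf_dvd_of_pow_eq_one (congrArg Subtype.val hi : u ^ p ^ i = 1))
    obtain ⟨m, hm⟩ := exists_pow_eq_self_of_coprime hcop
    rw [huL, ← mem_normalizer_iff_cj, ← hm]
    exact Subgroup.pow_mem _ h1 m
  · exfalso
    push Not at hex
    obtain ⟨c, hcM, ⟨k, hk⟩, hcC, hcu⟩ := exists_orbit_element hO hR hL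
    set M := ⨆ u : R, cj (u : G) L with hM
    have hcomp : ∀ u : G, IsComponent (cj u L) := fun u => Components.Component.conj hL u
    have hcO := h c ((iSup_le fun u => Components.Layer.component_le_layer (hcomp u) : M ≤ layer G) hcM)
      ⟨k, hk⟩ hcu
    have hMy : cj y M ≤ Subgroup.centralizer (M : Set G) := by
      rw [cj, hM, Subgroup.map_iSup]
      refine iSup_le fun u => ?_
      show cj y (cj (u : G) L) ≤ _
      rw [Subgroup.le_centralizer_iff]
      refine iSup_le fun u' => ?_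
      rw [Subgroup.le_centralizer_iff, ← cj_mul]
      refine Components.Component.le_centralizer_of_ne (hcomp _) (hcomp _) fun he => ?_
      refine hex ((u : G)⁻¹ * u') (R.mul_mem (R.inv_mem u.2) u'.2) ?_
      rw [← hyR u u.2, cj_mul] at he
      rw [cj_mul, ← he, ← cj_mul, inv_mul_cancel, cj_one]
    have hc' : y * c⁻¹ * y⁻¹ ∈ Subgroup.centralizer (M : Set G) :=
      hMy (conj_mem_cj (M.inv_mem hcM))
    have hcomm : Commute c (y * c⁻¹ * y⁻¹) := Subgroup.mem_centralizer_iff.1 hc' c hcM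
    have hprod : ⁅c, y⁆ = c * (y * c⁻¹ * y⁻¹) := by rw [commutatorElement_def]; group
    have hpk : ⁅c, y⁆ ^ p ^ k = 1 := by
      rw [hprod, hcomm.mul_pow, hk, conj_pow, inv_pow, hk]
      group
    have h1 : orderOf ⁅c, y⁆ = 1 :=
      Nat.eq_one_of_dvd_coprimes ((hOc.coprime_dvd_left (O.orderOf_dvd_natCard hcO)).pow_right k)
        dvd_rfl (orderOf_dvd_of_pow_eq_one hpk)
    rw [orderOf_eq_one_iff, commutatorElement_eq_one_iff_mul_comm] at h1
    refine hcC ?_
    have h2 : y * c⁻¹ * y⁻¹ = c⁻¹ := by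
      calc y * c⁻¹ * y⁻¹ = c⁻¹ * (c * y) * c⁻¹ * y⁻¹ := by group
        _ = c⁻¹ := by rw [h1]; group
    rw [h2] at hc'
    exact (Subgroup.inv_mem_iff _).1 hc'

/-! ### The group `C(O_p) ∩ C(R)` and the core of `N(R)` -/

omit [Finite G] hp in
theorem mem_normalizer_centralizer_inf {R : Subgroup G} {c : G} (hcu : ∀ u ∈ R, ⁅c, u⁆ ∈ pCore p G) :
    c ∈ Subgroup.normalizer ((Subgroup.centralizer (pCore p G : Set G) ⊓
      Subgroup.centralizer (R : Set G) : Subgroup G) : Set G) := by
  haveI : (Subgroup.centralizer (pCore p G : Set G)).Normal := Subgroup.normal_centralizer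
  have key : ∀ c : G, (∀ u ∈ R, ⁅c, u⁆ ∈ pCore p G) →
      ∀ x ∈ Subgroup.centralizer (pCore p G : Set G) ⊓ Subgroup.centralizer (R : Set G),
        c⁻¹ * x * c ∈ Subgroup.centralizer (pCore p G : Set G) ⊓ Subgroup.centralizer (R : Set G) := by
    rintro c hcu x ⟨hxQ, hxR⟩
    refine ⟨?_, Subgroup.mem_centralizer_iff.2 fun u hu => ?_⟩
    · exact Subgroup.Normal.conj_mem' inferInstance _ hxQ c
    · have h1 := Subgroup.mem_centralizer_iff.1 hxQ _ (hcu u hu)
      have h2 := Subgroup.mem_centralizer_iff.1 hxR u hu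
      have h3 : (⁅c, u⁆ * u) * x = x * (⁅c, u⁆ * u) := by
        rw [mul_assoc, h2, ← mul_assoc, h1, mul_assoc]
      calc u * (c⁻¹ * x * c) = c⁻¹ * ((⁅c, u⁆ * u) * x) * c := by rw [commutatorElement_def]; group
        _ = c⁻¹ * (x * (⁅c, u⁆ * u)) * c := by rw [h3]
        _ = c⁻¹ * x * c * u := by rw [commutatorElement_def]; group
  have hinv : ∀ u ∈ R, ⁅c⁻¹, u⁆ ∈ pCore p G := fun u hu => by
    have : ⁅c⁻¹, u⁆ = c⁻¹ * ⁅c, u⁆⁻¹ * c := by simp [commutatorElement_def, mul_assoc]
    rw [this]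
    exact (pCore_normal p G).conj_mem' _ (Subgroup.inv_mem _ (hcu u hu)) c
  rw [Subgroup.mem_normalizer_iff'']
  refine fun x => ⟨key c hcu x, fun hx => ?_⟩
  have := key _ hinv _ hx
  simpa [mul_assoc] using this

theorem coreIn_normalizer_le {R : Subgroup G} (hR : IsPGroup p ↥R) :
    coreIn p (Subgroup.normalizer (R : Set G)) ≤
      Subgroup.centralizer (pCore p G : Set G) ⊓ Subgroup.centralizer (R : Set G) := by
  set N := Subgroup.normalizer (R : Set G) with hN
  have hdis : ⁅pPrimeCore p ↥N, pCore p ↥N⁆ = ⊥ :=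
    Subgroup.commutator_eq_bot_of_disjoint
      (disjoint_iff.2 (by rw [inf_comm]; exact Cores.pCore_inf_pPrimeCore p))
  rw [Subgroup.commutator_eq_bot_iff_le_centralizer] at hdis
  rintro _ ⟨y, hy, rfl⟩
  have hy' := Subgroup.mem_centralizer_iff.1 (hdis hy)
  have hyR : (y : G) ∈ Subgroup.centralizer (R : Set G) :=
    Subgroup.mem_centralizer_iff.2 fun u hu =>
      congrArg Subtype.val (hy' ⟨u, Subgroup.le_normalizer hu⟩ (subgroupOf_le_pCore le_rfl hR hu))
  refine ⟨?_, hyR⟩
  refine mem_centralizer_pGroup (Cores.pCore_isPGroup p) hR Subgroup.le_normalizer_of_normal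
    (Subgroup.le_normalizer_of_normal (H := pCore p G) (K := ⊤) trivial) ?_ hyR ?_
  · rw [Subgroup.coe_subtype, Subgroup.orderOf_coe]
    exact (Cores.pPrimeCore_coprime p).coprime_dvd_left (Subgroup.orderOf_dvd_natCard _ hy)
  · rintro q ⟨hqQ, hqR⟩
    exact Subgroup.mem_centralizer_singleton_iff.2 (congrArg Subtype.val
      (hy' ⟨q, Subgroup.centralizer_le_normalizer _ hqR⟩
        (subgroupOf_le_pCore Subgroup.le_normalizer_of_normal (Cores.pCore_isPGroup p) hqQ)))

/-- `O_{p'}(N(R)) = O_{p'}(C(O_p) ∩ C(R))`. -/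
theorem coreIn_normalizer_eq {R : Subgroup G} (hR : IsPGroup p ↥R) :
    coreIn p (Subgroup.normalizer (R : Set G)) =
      coreIn p (Subgroup.centralizer (pCore p G : Set G) ⊓ Subgroup.centralizer (R : Set G)) := by
  set C0 := Subgroup.centralizer (pCore p G : Set G) ⊓ Subgroup.centralizer (R : Set G) with hC0
  haveI : (Subgroup.centralizer (pCore p G : Set G)).Normal := Subgroup.normal_centralizer
  have hle : C0 ≤ Subgroup.normalizer (R : Set G) :=
    inf_le_right.trans (Subgroup.centralizer_le_normalizer _)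
  refine le_antisymm (le_coreIn (coreIn_normalizer_le hR) (hle.trans (le_normalizer_coreIn _))
    (coreIn_coprime _)) (coreIn_le_coreIn hle fun g hg => ?_)
  have h1 := Subgroup.mem_normalizer_iff.1 (normalizer_le_normalizer_centralizer R hg)
  rw [Subgroup.mem_normalizer_iff]
  intro x
  rw [hC0, Subgroup.mem_inf, Subgroup.mem_inf, ← h1 x]
  refine and_congr_left fun _ => ⟨fun hx => Subgroup.Normal.conj_mem inferInstance _ hx g, fun hx => ?_⟩
  simpa [mul_assoc] using Subgroup.Normal.conj_mem' inferInstance _ hx g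

/-- `O_{p'}(C(R)) = O_{p'}(N(R))`. -/
theorem coreIn_centralizer_eq {R : Subgroup G} (hR : IsPGroup p ↥R) :
    coreIn p (Subgroup.centralizer (R : Set G)) = coreIn p (Subgroup.normalizer (R : Set G)) :=
  le_antisymm (coreIn_le_coreIn (Subgroup.centralizer_le_normalizer _)
      (normalizer_le_normalizer_centralizer R))
    (le_coreIn ((coreIn_normalizer_le hR).trans inf_le_right)
      ((Subgroup.centralizer_le_normalizer _).trans (le_normalizer_coreIn _)) (coreIn_coprime _))

theorem centralizerPPrimeCore_eq_coreIn {x : G} (hx : orderOf x = p) :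
    centralizerPPrimeCore p x = coreIn p (Subgroup.normalizer (Subgroup.zpowers x : Set G)) := by
  have hP : IsPGroup p ↥(Subgroup.zpowers x) :=
    IsPGroup.of_card (n := 1) (by rw [Nat.card_zpowers, hx, pow_one])
  rw [← coreIn_centralizer_eq hP, centralizerPPrimeCore_eq, Subgroup.zpowers_eq_closure,
    Subgroup.centralizer_closure]

omit [Finite G] hp in
theorem mem_normalizer_core {R : Subgroup G} {c : G} (hcu : ∀ u ∈ R, ⁅c, u⁆ ∈ pCore p G)
    (heq : coreIn p (Subgroup.normalizer (R : Set G)) =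
      coreIn p (Subgroup.centralizer (pCore p G : Set G) ⊓ Subgroup.centralizer (R : Set G))) :
    c ∈ Subgroup.normalizer (coreIn p (Subgroup.normalizer (R : Set G)) : Set G) := by
  rw [heq]
  exact normalizer_le_normalizer_coreIn _ (mem_normalizer_centralizer_inf hcu)

/-- `O_{p'}(N(R))` fixes every component. -/
theorem core_normalizer_le_componentKernel (hO : pPrimeCore p G = ⊥) {R : Subgroup G}
    (hR : IsPGroup p ↥R) :
    coreIn p (Subgroup.normalizer (R : Set G)) ≤ componentKernel G := by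
  intro y hy
  refine mem_componentKernel_of_commutator_mem hO hR (coreIn_coprime (Subgroup.normalizer (R : Set G)))
    ((coreIn_coprime _).coprime_dvd_left (Subgroup.orderOf_dvd_natCard _ hy))
    (coreIn_normalizer_le hR hy).2 fun c hcE _ hcu => ?_
  have hn := mem_normalizer_core hcu (coreIn_normalizer_eq hR)
  rw [commutatorElement_def]
  exact Subgroup.mul_mem _ ((Subgroup.mem_normalizer_iff.1 hn y).1 hy) (Subgroup.inv_mem _ hy)

/-- The preimage of `E(N(R)/O_{p'}(N(R)))` fixes every component. -/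
theorem layer_preimage_le_componentKernel (hO : pPrimeCore p G = ⊥) {R : Subgroup G}
    (hR : IsPGroup p ↥R) :
    ((layer (↥(Subgroup.normalizer (R : Set G)) ⧸ pPrimeCore p ↥(Subgroup.normalizer (R : Set G)))).comap
      (QuotientGroup.mk' (pPrimeCore p ↥(Subgroup.normalizer (R : Set G))))).map
        (Subgroup.normalizer (R : Set G)).subtype ≤ componentKernel G := by
  set N := Subgroup.normalizer (R : Set G) with hN
  set O := pPrimeCore p ↥N with hOdef
  set π := QuotientGroup.mk' O with hπ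
  set C0 := Subgroup.centralizer (pCore p G : Set G) ⊓ Subgroup.centralizer (R : Set G) with hC0
  have hC0N : C0 ≤ N := inf_le_right.trans (Subgroup.centralizer_le_normalizer _)
  haveI := componentKernel_normal (G := G)
  haveI : (layer G).Normal := Components.Layer.layer_normal
  have hDS : ⁅(layer (↥N ⧸ O)).comap π, pCore p ↥N⁆ = ⊥ := by
    rw [← le_bot_iff, ← Cores.pCore_inf_pPrimeCore (G := ↥N) p]
    refine le_inf (Subgroup.commutator_le_right _ _) ?_
    have h1 : (⁅(layer (↥N ⧸ O)).comap π, pCore p ↥N⁆).map π ≤ ⊥ := by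
      rw [Subgroup.map_commutator, ← Components.Layer.commutator_layer_fitting (G := ↥N ⧸ O)]
      exact Subgroup.commutator_mono (Subgroup.map_comap_le _ _)
        ((Cores.map_pCore_le π (QuotientGroup.mk'_surjective O)).trans
          (Cores.pCore_le_fittingSubgroup p))
    rw [Subgroup.map_le_iff_le_comap, MonoidHom.comap_bot, QuotientGroup.ker_mk'] at h1
    exact h1
  rw [Subgroup.commutator_eq_bot_iff_le_centralizer] at hDS
  have hDC : ∀ y : ↥N, π y ∈ layer (↥N ⧸ O) → (y : G) ∈ C0 := fun y hy =>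
    ⟨layer_preimage_le_centralizer hR ⟨y, hy, rfl⟩, Subgroup.mem_centralizer_iff.2 fun u hu =>
      congrArg Subtype.val (Subgroup.mem_centralizer_iff.1 (hDS hy) ⟨u, Subgroup.le_normalizer hu⟩
        (subgroupOf_le_pCore le_rfl hR hu))⟩
  -- it is enough to treat the components of the quotient
  rw [Subgroup.map_le_iff_le_comap]
  set Nn := (componentKernel G).comap N.subtype with hNn
  have hONn : O ≤ Nn := fun o ho => core_normalizer_le_componentKernel hO hR ⟨o, ho, rfl⟩
  suffices hkey : layer (↥N ⧸ O) ≤ Nn.map π by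
    refine (Subgroup.comap_mono hkey).trans ?_
    rw [Subgroup.comap_map_eq, hπ, QuotientGroup.ker_mk']
    exact sup_le le_rfl hONn
  refine sSup_le fun Kb hKb => ?_
  set W := (layer G).subgroupOf N with hW
  haveI hWn : W.Normal := Subgroup.normal_subgroupOf
  rcases Components.Component.le_or_commutator_eq_bot hKb
    (hWn.map π (QuotientGroup.mk'_surjective O)).isSubnormal with hle | hcomm
  · exact hle.trans (Subgroup.map_mono fun w hw => layer_le_componentKernel hw)
  rw [Subgroup.commutator_eq_bot_iff_le_centralizer] at hcomm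
  set K := Kb.comap π with hK
  suffices hK' : K.map N.subtype ≤ componentKernel G by
    intro z hz
    obtain ⟨y, rfl⟩ := QuotientGroup.mk'_surjective O z
    exact ⟨y, hK' ⟨y, hz, rfl⟩, rfl⟩
  have hKD : ∀ y ∈ K, π y ∈ layer (↥N ⧸ O) := fun y hy => Components.Layer.component_le_layer hKb hy
  have hOK : O ≤ K := fun o ho => by
    show π o ∈ Kb
    rw [show π o = 1 from (QuotientGroup.eq_one_iff o).2 ho]
    exact one_mem _
  have hKper : K ≤ ⁅K, K⁆ ⊔ O := by
    have h1 : K.map π ≤ (⁅K, K⁆).map π := by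
      rw [Subgroup.map_commutator, Subgroup.map_comap_eq_self_of_surjective
        (QuotientGroup.mk'_surjective O), Components.Component.commutator_self hKb]
    rwa [Subgroup.map_le_map_iff, hπ, QuotientGroup.ker_mk'] at h1
  refine le_of_forall_coprime (p := p) Subgroup.le_normalizer_of_normal ?_ ?_
  swap
  · refine (Subgroup.map_mono hKper).trans ?_
    rw [Subgroup.map_sup, Subgroup.map_commutator]
    exact sup_le_sup_left (Subgroup.map_le_iff_le_comap.2 hONn) _
  rintro _ ⟨y, hy, rfl⟩ hcop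
  refine mem_componentKernel_of_commutator_mem hO hR (coreIn_coprime N) hcop
    (hDC y (hKD y hy)).2 fun c hcE _ hcu => ?_
  have hcC0 : c ∈ Subgroup.normalizer (C0 : Set G) :=
    mem_normalizer_centralizer_inf hcu
  have hcN : ∀ w : G, w ∈ C0 → c * w * c⁻¹ ∈ C0 := fun w hw =>
    (Subgroup.mem_normalizer_iff.1 hcC0 w).1 hw
  have hcO : c ∈ Subgroup.normalizer (coreIn p N : Set G) :=
    mem_normalizer_core hcu (coreIn_normalizer_eq hR)
  have hcomC0 : ∀ w : G, w ∈ C0 → ⁅c, w⁆ ∈ C0 := fun w hw => by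
    rw [commutatorElement_def]; exact C0.mul_mem (hcN w hw) (C0.inv_mem hw)
  have hcomE : ∀ w : G, ⁅c, w⁆ ∈ layer G := fun w => by
    rw [commutatorElement_def, mul_assoc, mul_assoc]
    refine Subgroup.mul_mem _ hcE ?_
    rw [← mul_assoc]
    exact Subgroup.Normal.conj_mem inferInstance _ (Subgroup.inv_mem _ hcE) w
  -- elements of `K` commute modulo `O` with elements of `layer G ⊓ C0`
  have hKW : ∀ y ∈ K, ∀ w : ↥N, (w : G) ∈ layer G → Commute (π y) (π w) := fun y hy w hw =>
    Subgroup.mem_centralizer_iff.1 (hcomm ⟨w, hw, rfl⟩) _ (show π y ∈ Kb from hy)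
  let ψ : ↥K → ↥N ⧸ O := fun z => π ⟨⁅c, ((z : ↥N) : G)⁆, hC0N (hcomC0 _ (hDC _ (hKD _ z.2)))⟩
  have hψmul : ∀ a b : ↥K, ψ (a * b) = ψ a * ψ b := by
    intro a b
    have hb := hKW (a : ↥N) a.2 ⟨⁅c, ((b : ↥N) : G)⁆, hC0N (hcomC0 _ (hDC _ (hKD _ b.2)))⟩ (hcomE _)
    have e : (⟨⁅c, (((a * b : ↥K) : ↥N) : G)⁆, hC0N (hcomC0 _ (hDC _ (hKD _ (a * b).2)))⟩ : ↥N) =
        ⟨⁅c, ((a : ↥N) : G)⁆, hC0N (hcomC0 _ (hDC _ (hKD _ a.2)))⟩ *
          ((a : ↥N) * ⟨⁅c, ((b : ↥N) : G)⁆, hC0N (hcomC0 _ (hDC _ (hKD _ b.2)))⟩ * (a : ↥N)⁻¹) := by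
      apply Subtype.ext
      simp only [Subgroup.coe_mul, Subgroup.coe_inv, commutatorElement_def]
      group
    show π _ = _
    rw [e, map_mul, map_mul, map_mul, map_inv, hb.eq, mul_inv_cancel_right]
  let Ψ : ↥K →* ↥N ⧸ O := MonoidHom.mk' ψ hψmul
  have hψcomm : ∀ a b : ↥K, Commute (Ψ a) (Ψ b) := by
    intro a b
    -- `c⁻¹ [c, b] c` lies in the layer and in `C0`
    have hw : c⁻¹ * ⁅c, ((b : ↥N) : G)⁆ * c ∈ C0 :=
      (Subgroup.mem_normalizer_iff''.1 hcC0 _).1 (hcomC0 _ (hDC _ (hKD _ b.2)))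
    have hwE : c⁻¹ * ⁅c, ((b : ↥N) : G)⁆ * c ∈ layer G :=
      Subgroup.Normal.conj_mem' inferInstance _ (hcomE _) c
    have h1 := hKW (a : ↥N) a.2 ⟨_, hC0N hw⟩ hwE
    rw [← commutatorElement_eq_one_iff_commute, ← map_commutatorElement, hπ,
      QuotientGroup.mk'_apply, QuotientGroup.eq_one_iff] at h1
    have h2 : ⁅c * ((a : ↥N) : G) * c⁻¹, ⁅c, ((b : ↥N) : G)⁆⁆ ∈ coreIn p N := by
      have h3 := (Subgroup.mem_normalizer_iff.1 hcO _).1 (⟨_, h1, rfl⟩ :
        ((⁅(a : ↥N), (⟨_, hC0N hw⟩ : ↥N)⁆ : ↥N) : G) ∈ coreIn p N)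
      convert h3 using 1
      simp only [commutatorElement_def, Subgroup.coe_mul, Subgroup.coe_inv]
      group
    have hcaN : c * ((a : ↥N) : G) * c⁻¹ ∈ N := hC0N (hcN _ (hDC _ (hKD _ a.2)))
    have h4 : Commute (π ⟨_, hcaN⟩) (Ψ b) := by
      rw [← commutatorElement_eq_one_iff_commute]
      show ⁅π _, π _⁆ = 1
      rw [← map_commutatorElement, hπ, QuotientGroup.mk'_apply, QuotientGroup.eq_one_iff]
      obtain ⟨o, ho, he⟩ := h2
      have : o = ⁅(⟨_, hcaN⟩ : ↥N), ⟨⁅c, ((b : ↥N) : G)⁆, hC0N (hcomC0 _ (hDC _ (hKD _ b.2)))⟩⁆ :=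
        Subtype.ext (he.trans (by simp [commutatorElement_def]))
      exact this ▸ ho
    have h5 : π ⟨_, hcaN⟩ = Ψ a * π (a : ↥N) := by
      show _ = π _ * π _
      rw [← map_mul]
      congr 1
      apply Subtype.ext
      simp only [Subgroup.coe_mul, commutatorElement_def]
      group
    have h6 : Commute (π (a : ↥N)) (Ψ b) := hKW (a : ↥N) a.2 _ (hcomE _)
    have h7 : Ψ a = π ⟨_, hcaN⟩ * (π (a : ↥N))⁻¹ := by rw [h5, mul_inv_cancel_right]
    rw [h7]
    exact h4.mul_left h6.inv_left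
  have hcomker : (⁅(⊤ : Subgroup ↥K), (⊤ : Subgroup ↥K)⁆ : Subgroup ↥K).map K.subtype ≤ Ψ.ker.map K.subtype := by
    refine Subgroup.map_mono (Subgroup.commutator_le.2 fun a _ b _ => ?_)
    rw [MonoidHom.mem_ker, map_commutatorElement]
    exact commutatorElement_eq_one_iff_commute.2 (hψcomm a b)
  have hOker : O ≤ Ψ.ker.map K.subtype := fun o ho => by
    refine ⟨⟨o, hOK ho⟩, ?_, rfl⟩
    show π _ = 1
    refine (QuotientGroup.eq_one_iff _).2 ?_
    have h1 : ⁅c, ((o : ↥N) : G)⁆ ∈ coreIn p N := by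
      rw [commutatorElement_def]
      exact Subgroup.mul_mem _ ((Subgroup.mem_normalizer_iff.1 hcO _).1 ⟨o, ho, rfl⟩)
        (Subgroup.inv_mem _ ⟨o, ho, rfl⟩)
    obtain ⟨o', ho', he⟩ := h1
    exact (Subtype.ext he : o' = ⟨_, _⟩) ▸ ho'
  rw [Subgroup.map_commutator, ← MonoidHom.range_eq_map, Subgroup.range_subtype] at hcomker
  obtain ⟨z, hz, hzy⟩ := (hKper.trans (sup_le hcomker hOker)) hy
  have hzy' : z = ⟨y, hy⟩ := Subtype.ext hzy
  rw [hzy'] at hz
  exact ⟨_, (QuotientGroup.eq_one_iff _).1 (show π _ = 1 from hz), rfl⟩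

/-- The product `l · xlx⁻¹ · ⋯ · x^(k-1) l x^-(k-1)`. -/
def diagProd (x : G) : ℕ → G → G
  | 0, _ => 1
  | k + 1, l => l * (x * diagProd x k l * x⁻¹)

omit [Finite G] hp in
theorem diagProd_succ' (x : G) : ∀ (k : ℕ) (l : G),
    diagProd x (k + 1) l = diagProd x k l * (x ^ k * l * (x ^ k)⁻¹)
  | 0, l => by simp [diagProd]
  | k + 1, l => by
    show l * (x * diagProd x (k + 1) l * x⁻¹) = _
    have e : diagProd x (k + 1) l = l * (x * diagProd x k l * x⁻¹) := rfl
    conv_lhs => rw [diagProd_succ' x k l]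
    rw [e, pow_succ']
    group

omit [Finite G] hp in
theorem conj_diagProd {x y : G} (h : Commute y x) : ∀ (k : ℕ) (l : G),
    y * diagProd x k l * y⁻¹ = diagProd x k (y * l * y⁻¹)
  | 0, l => by simp [diagProd]
  | k + 1, l => by
    rw [diagProd, diagProd, ← conj_diagProd h k l]
    calc y * (l * (x * diagProd x k l * x⁻¹)) * y⁻¹
        = y * l * y⁻¹ * ((y * x) * diagProd x k l * (x⁻¹ * y⁻¹)) := by group
      _ = y * l * y⁻¹ * ((x * y) * diagProd x k l * (y⁻¹ * x⁻¹)) := by rw [h.eq, h.inv_inv.eq]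
      _ = y * l * y⁻¹ * (x * (y * diagProd x k l * y⁻¹) * x⁻¹) := by group

/-- If a subgroup `O` of order prime to `p` normalizing the component `L` contains `[L, O]` and is
pulled back by `φ` to a normal subgroup of `L`, where `φ` is injective modulo the centre, then `O`
centralizes `L`. -/
theorem le_centralizer_of_hom (hO : pPrimeCore p G = ⊥) {L O : Subgroup G} (hL : IsComponent L)
    (hOc : (Nat.card ↥O).Coprime p) (φ : ↥L →* G) (hker : φ.ker ≤ Subgroup.center ↥L)
    (hφn : ∀ l : ↥L, φ l ∈ Subgroup.normalizer (O : Set G))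
    (hOL : O ≤ Subgroup.normalizer (L : Set G))
    (hconj : ∀ y ∈ O, ∀ l m : ↥L, y * (l : G) * y⁻¹ = (m : G) → y * φ l * y⁻¹ = φ m) :
    O ≤ Subgroup.centralizer (L : Set G) := by
  have hn : (O.comap φ).Normal := ⟨fun n hn g => by
    rw [Subgroup.mem_comap, map_mul, map_mul, map_inv]
    exact (Subgroup.mem_normalizer_iff.1 (hφn g) _).1 hn⟩
  have hc : O.comap φ ≤ Subgroup.center ↥L := by
    rcases Components.Quasisimple.normal_le_center_or_eq_top hL.2 hn with hc | ht
    · exact hc
    refine absurd ?_ (Components.PComponent.component_center_index_not_coprime hO hL)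
    have h1 : (Subgroup.center ↥L).index ∣ Nat.card ↥O := by
      refine (Subgroup.index_dvd_of_le hker).trans ?_
      rw [Subgroup.index_ker]
      refine Subgroup.card_dvd_of_le ?_
      rintro _ ⟨l, rfl⟩
      exact (ht ▸ Subgroup.mem_top l : l ∈ O.comap φ)
    exact hOc.coprime_dvd_left h1
  have hLO : ⁅⁅O, L⁆, L⁆ = ⊥ := by
    rw [Subgroup.commutator_eq_bot_iff_le_centralizer, Subgroup.commutator_le]
    intro y hy l hl
    have hm : y * l * y⁻¹ ∈ L := (Subgroup.mem_normalizer_iff.1 (hOL hy) l).1 hl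
    have hmem : (⟨l, hl⟩ * ⟨y * l * y⁻¹, hm⟩⁻¹ : ↥L) ∈ O.comap φ := by
      rw [Subgroup.mem_comap, map_mul, map_inv, ← hconj y hy ⟨l, hl⟩ ⟨y * l * y⁻¹, hm⟩ rfl]
      have := Subgroup.mul_mem O ((Subgroup.mem_normalizer_iff.1 (hφn ⟨l, hl⟩) y).1 hy)
        (O.inv_mem hy)
      convert this using 1
      group
    refine Subgroup.mem_centralizer_iff.2 fun z hz => ?_
    have h1 := congrArg Subtype.val
      (Subgroup.mem_center_iff.1 (Subgroup.inv_mem _ (hc hmem)) ⟨z, hz⟩)
    simpa [commutatorElement_def, mul_assoc] using h1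
  have h2 := Components.commutator_eq_bot_of_perfect (Components.Component.commutator_self hL) hLO
  exact Subgroup.commutator_eq_bot_iff_le_centralizer.1 h2

/-- `O_{p'}(N(R))` centralizes every component centralized by `R`. -/
theorem coreIn_le_centralizer_of_centralized (hO : pPrimeCore p G = ⊥) {R : Subgroup G}
    (hR : IsPGroup p ↥R) {L : Subgroup G} (hL : IsComponent L)
    (hLR : L ≤ Subgroup.centralizer (R : Set G)) :
    coreIn p (Subgroup.normalizer (R : Set G)) ≤ Subgroup.centralizer (L : Set G) := by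
  refine le_centralizer_of_hom hO hL (coreIn_coprime _) L.subtype ?_ ?_ ?_ ?_
  · rw [L.ker_subtype]; exact bot_le
  · exact fun l => le_normalizer_coreIn _ (Subgroup.centralizer_le_normalizer _ (hLR l.2))
  · exact (core_normalizer_le_componentKernel hO hR).trans (iInf_le_of_le ⟨L, hL⟩ le_rfl)
  · exact fun y _ l m h => h

/-- `O_{p'}(C(x))` centralizes each component moved by the element `x` of order `p`. -/
theorem centralizerPPrimeCore_le_centralizer_of_moved (hO : pPrimeCore p G = ⊥) {x : G}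
    (hx : orderOf x = p) {L : Subgroup G} (hL : IsComponent L) (hne : cj x L ≠ L) :
    centralizerPPrimeCore p x ≤ Subgroup.centralizer (L : Set G) := by
  have hP : IsPGroup p ↥(Subgroup.zpowers x) :=
    IsPGroup.of_card (n := 1) (by rw [Nat.card_zpowers, hx, pow_one])
  have hxp : x ^ p = 1 := by rw [← hx]; exact pow_orderOf_eq_one x
  have hdist : ∀ i, 0 < i → i < p → cj (x ^ i) L ≠ L := by
    intro i h0 hi he
    refine hne ?_
    rw [← mem_normalizer_iff_cj] at he ⊢
    obtain ⟨m, hm⟩ := exists_pow_eq_self_of_coprime (show i.Coprime (orderOf x) by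
      rw [hx]
      exact ((hp.out.coprime_iff_not_dvd).2 (Nat.not_dvd_of_pos_of_lt h0 hi)).symm)
    rw [← hm]
    exact Subgroup.pow_mem _ he m
  have hmem : ∀ k, k < p → ∀ l ∈ L, x * diagProd x k l * x⁻¹ ∈ Subgroup.centralizer (L : Set G) := by
    intro k hk l hl
    induction k with
    | zero => simp [diagProd]
    | succ k ih =>
      have e : x * diagProd x (k + 1) l * x⁻¹ =
          x * diagProd x k l * x⁻¹ * (x ^ (k + 1) * l * (x ^ (k + 1))⁻¹) := by
        rw [diagProd_succ' x k l, pow_succ']; group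
      rw [e]
      refine Subgroup.mul_mem _ (ih (by omega)) ?_
      exact Components.Component.le_centralizer_of_ne (Components.Component.conj hL _) hL
        (hdist (k + 1) (by omega) hk) (conj_mem_cj hl)
  have hmul : ∀ k, k ≤ p → ∀ l ∈ L, ∀ m ∈ L,
      diagProd x k (l * m) = diagProd x k l * diagProd x k m := by
    intro k hk l hl m hm
    induction k with
    | zero => simp [diagProd]
    | succ k ih =>
      rw [diagProd, ih (by omega), diagProd, diagProd]
      have hc := Subgroup.mem_centralizer_iff.1 (hmem k (by omega) l hl) m hm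
      calc l * m * (x * (diagProd x k l * diagProd x k m) * x⁻¹)
          = l * (m * (x * diagProd x k l * x⁻¹)) * (x * diagProd x k m * x⁻¹) := by group
        _ = l * (x * diagProd x k l * x⁻¹ * m) * (x * diagProd x k m * x⁻¹) := by rw [hc]
        _ = _ := by group
  obtain ⟨p', hp'⟩ : ∃ p', p = p' + 1 := ⟨p - 1, by have := hp.out.pos; omega⟩
  let φ : ↥L →* G := MonoidHom.mk' (fun l => diagProd x p (l : G))
    (fun a b => hmul p le_rfl _ a.2 _ b.2)
  have hker : φ.ker ≤ Subgroup.center ↥L := by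
    intro l hl
    have h1 : diagProd x (p' + 1) (l : G) = 1 := hp' ▸ hl
    rw [diagProd, mul_eq_one_iff_eq_inv] at h1
    refine Subgroup.mem_center_iff.2 fun z => Subtype.ext ?_
    have h2 := Subgroup.inv_mem _ (hmem p' (by omega) l l.2)
    rw [← h1] at h2
    exact Subgroup.mem_centralizer_iff.1 h2 z z.2
  have hφC : ∀ l : ↥L, φ l ∈ Subgroup.centralizer ({x} : Set G) := by
    intro l
    refine Subgroup.mem_centralizer_singleton_iff.2 ?_
    show diagProd x p (l : G) * x = x * diagProd x p (l : G)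
    rw [eq_comm, ← mul_inv_eq_iff_eq_mul]
    have e2 : x * diagProd x p (l : G) * x⁻¹ = x * diagProd x p' (l : G) * x⁻¹ * (l : G) := by
      rw [show diagProd x p (l : G) = diagProd x p' (l : G) * (x ^ p' * (l : G) * (x ^ p')⁻¹) from
        hp' ▸ diagProd_succ' x p' l]
      have : x * x ^ p' = 1 := by rw [← pow_succ', ← hp', hxp]
      calc x * (diagProd x p' (l : G) * (x ^ p' * (l : G) * (x ^ p')⁻¹)) * x⁻¹
          = x * diagProd x p' (l : G) * x⁻¹ * ((x * x ^ p') * (l : G) * (x * x ^ p')⁻¹) := by group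
        _ = _ := by rw [this]; group
    rw [e2, show diagProd x p (l : G) = (l : G) * (x * diagProd x p' (l : G) * x⁻¹) by
      rw [hp']; rfl]
    exact (Subgroup.mem_centralizer_iff.1 (hmem p' (by omega) l l.2) l l.2).symm
  refine le_centralizer_of_hom hO hL ?_ φ hker
    (fun l => centralizer_le_normalizer_centralizerPPrimeCore x (hφC l)) ?_ ?_
  · rw [centralizerPPrimeCore_eq]; exact coreIn_coprime _
  · rw [centralizerPPrimeCore_eq_coreIn hx]
    exact (core_normalizer_le_componentKernel hO hP).trans (iInf_le_of_le ⟨L, hL⟩ le_rfl)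
  · intro y hy l m h
    show y * diagProd x p (l : G) * y⁻¹ = diagProd x p (m : G)
    rw [conj_diagProd (Subgroup.mem_centralizer_singleton_iff.1 (centralizerPPrimeCore_le x hy)) p, h]

/-- `O_{p'}(C(x))` centralizes each component `L` with `[L, x] ≠ L`. -/
theorem centralizerPPrimeCore_le_centralizer (hO : pPrimeCore p G = ⊥) {x : G} (hx : orderOf x = p)
    {L : Subgroup G} (hL : IsComponent L) (hne : ⁅L, Subgroup.zpowers x⁆ ≠ L) :
    centralizerPPrimeCore p x ≤ Subgroup.centralizer (L : Set G) := by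
  by_cases hmv : cj x L = L
  swap
  · exact centralizerPPrimeCore_le_centralizer_of_moved hO hx hL hmv
  have hxN : Subgroup.zpowers x ≤ Subgroup.normalizer (L : Set G) := by
    rw [Subgroup.zpowers_le, mem_normalizer_iff_cj]; exact hmv
  have hle : ⁅L, Subgroup.zpowers x⁆ ≤ L := Subgroup.le_normalizer_iff_commutator_le_left.1 hxN
  haveI hn : (⁅L, Subgroup.zpowers x⁆.subgroupOf L).Normal :=
    Subgroup.normal_subgroupOf_of_le_normalizer (Subgroup.normalizer_commutator_ge_left _ _)
  rcases Components.Quasisimple.normal_le_center_or_eq_top hL.2 hn with hc | ht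
  · have h1 : ⁅⁅Subgroup.zpowers x, L⁆, L⁆ = ⊥ := by
      rw [Subgroup.commutator_comm (Subgroup.zpowers x), Subgroup.commutator_eq_bot_iff_le_centralizer]
      intro z hz
      exact Subgroup.mem_centralizer_iff.2 fun w hw => congrArg Subtype.val
        (Subgroup.mem_center_iff.1 (hc (show (⟨z, hle hz⟩ : ↥L) ∈ _ from hz)) ⟨w, hw⟩)
    have h2 := Components.commutator_eq_bot_of_perfect (Components.Component.commutator_self hL) h1
    rw [Subgroup.commutator_eq_bot_iff_le_centralizer, Subgroup.le_centralizer_iff] at h2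
    rw [centralizerPPrimeCore_eq_coreIn hx]
    exact coreIn_le_centralizer_of_centralized hO
      (IsPGroup.of_card (n := 1) (by rw [Nat.card_zpowers, hx, pow_one])) hL h2
  · exact absurd (le_antisymm hle (Subgroup.subgroupOf_eq_top.1 ht)) hne

end Cfsg.Agent.Lib.Balance
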