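import Cfsg.Agent.Lib.Balance.Locals

/-!
# p-components: cores, quasisimple central quotients; p-locals of groups with trivial p-layer

Owner: helper33. Namespace `Cfsg.Agent.Lib.Balance`.
-/

set_option autoImplicit false
set_option linter.style.haveILetI false
open Cfsg
open scoped commutatorElement

namespace Cfsg.Agent.Lib.Balance

variable {G : Type*} [Group G] {p : ℕ}

theorem index_center_of_surjective {H Q : Type*} [Group H] [Group Q] [Group.IsPerfect H] {f : H →* Q}
    (hf : Function.Surjective f) (hk : f.ker ≤ Subgroup.center H) :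
    (Subgroup.center Q).comap f = Subgroup.center H := by
  refine le_antisymm ?_ ?_
  · intro x hx
    have h2 : x ∈ Subgroup.upperCentralSeries H 2 := by
      rw [Subgroup.mem_upperCentralSeries_succ_iff]
      intro y
      rw [Subgroup.upperCentralSeries_one]
      refine hk ?_
      rw [MonoidHom.mem_ker, commutatorElement_def, map_mul, map_mul, map_mul, map_inv, map_inv,
        ← Subgroup.mem_center_iff.1 hx (f y)]
      group
    rwa [Group.IsPerfect.upperCentralSeries_eq_center H two_ne_zero] at h2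
  · intro x hx
    refine Subgroup.mem_center_iff.2 fun q => ?_
    obtain ⟨y, rfl⟩ := hf q
    rw [← map_mul, ← map_mul, Subgroup.mem_center_iff.1 hx y]

/-- A perfect group with a quasisimple central quotient is quasisimple. -/
theorem isQuasisimple_of_central {H Q : Type*} [Group H] [Group Q] (hH : Group.IsPerfect H)
    {f : H →* Q} (hf : Function.Surjective f) (hk : f.ker ≤ Subgroup.center H) (hQ : IsQuasisimple Q) :
    IsQuasisimple H := by
  refine ⟨hH, ?_⟩
  haveI := hQ.2
  have hker : ((QuotientGroup.mk' (Subgroup.center Q)).comp f).ker = Subgroup.center H := by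
    rw [← MonoidHom.comap_ker, QuotientGroup.ker_mk', index_center_of_surjective hf hk]
  exact ((QuotientGroup.quotientMulEquivOfEq hker).symm.trans
    (QuotientGroup.quotientKerEquivOfSurjective _
      ((QuotientGroup.mk'_surjective _).comp hf))).isSimpleGroup

variable [Finite G]

/-- The `p'`-core of a subnormal subgroup is its intersection with `O_{p'}(G)`. -/
theorem coreIn_eq_inf_of_isSubnormal {K : Subgroup G} (hK : K.IsSubnormal) :
    coreIn p K = K ⊓ pPrimeCore p G := by
  refine le_antisymm (le_inf (coreIn_le K) ?_) ?_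
  · exact Components.PComponent.subnormal_coprime_le
      ((pPrimeCore_normal p ↥K).isSubnormal.trans' hK) (coreIn_coprime K)
  · rw [inf_comm, ← coreIn_top p]
    exact coreIn_inf_le le_top

theorem pPrimeCore_eq_ker_subgroupMap {K : Subgroup G} (hK : K.IsSubnormal) :
    ((QuotientGroup.mk' (pPrimeCore p G)).subgroupMap K).ker = pPrimeCore p ↥K := by
  apply Subgroup.map_injective K.subtype_injective
  show _ = coreIn p K
  rw [coreIn_eq_inf_of_isSubnormal hK, MonoidHom.ker, inf_comm, ← Subgroup.subgroupOf_map_subtype]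
  congr 1
  ext x
  simp only [Subgroup.mem_subgroupOf]
  rw [← QuotientGroup.eq_one_iff (N := pPrimeCore p G)]
  exact ⟨fun h => congrArg Subtype.val h, fun h => Subtype.ext h⟩

/-- `K / O_{p'}(K)` is quasisimple for a `p`-component `K`. -/
theorem isQuasisimple_quotient_core {K : Subgroup G} (hK : IsPComponent p K) :
    IsQuasisimple (↥K ⧸ pPrimeCore p ↥K) := by
  refine Components.Quasisimple.of_mulEquiv hK.2.1.2 ?_
  exact ((QuotientGroup.quotientMulEquivOfEq (pPrimeCore_eq_ker_subgroupMap hK.1)).symm.trans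
    (QuotientGroup.quotientKerEquivOfSurjective _
      ((QuotientGroup.mk' (pPrimeCore p G)).subgroupMap_surjective K))).symm

theorem isQuasisimple_pComponent_iff [Fact p.Prime] {K : Subgroup G} (hK : IsPComponent p K) :
    IsQuasisimple ↥K ↔ ⁅K, coreIn p K⁆ = ⊥ := by
  constructor
  · intro h
    rcases Components.Quasisimple.normal_le_center_or_eq_top h (pPrimeCore_normal p ↥K) with hc | ht
    · rw [Subgroup.commutator_comm, Subgroup.commutator_eq_bot_iff_le_centralizer]
      rintro x ⟨y, hy, rfl⟩
      exact Subgroup.mem_centralizer_iff.2 fun z hz =>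
        congrArg Subtype.val (Subgroup.mem_center_iff.1 (hc hy) ⟨z, hz⟩)
    · refine absurd ?_ (Components.PComponent.not_le_pPrimeCore hK)
      intro x hx
      have h1 : x ∈ coreIn p K := ⟨⟨x, hx⟩, ht ▸ Subgroup.mem_top _, rfl⟩
      rw [coreIn_eq_inf_of_isSubnormal hK.1] at h1
      exact h1.2
  · intro h
    rw [Subgroup.commutator_comm, Subgroup.commutator_eq_bot_iff_le_centralizer] at h
    refine isQuasisimple_of_central (Subgroup.isPerfect_iff.2 (Components.PComponent.commutator_self hK))
      (QuotientGroup.mk'_surjective (pPrimeCore p ↥K)) ?_ (isQuasisimple_quotient_core hK)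
    rw [QuotientGroup.ker_mk']
    intro y hy
    refine Subgroup.mem_center_iff.2 fun z => Subtype.ext ?_
    exact Subgroup.mem_centralizer_iff.1 (h ⟨y, hy, rfl⟩) z z.2

/-- The image of a normalizer of a `p`-subgroup modulo a normal `p'`-subgroup is the normalizer. -/
theorem map_normalizer_eq [Fact p.Prime] {G' : Type*} [Group G'] {f : G →* G'}
    (hf : Function.Surjective f) (hk : ¬ p ∣ Nat.card ↥f.ker) {P : Subgroup G} (hP : IsPGroup p ↥P) :
    (Subgroup.normalizer (P : Set G)).map f = Subgroup.normalizer (P.map f : Set G') := by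
  refine le_antisymm (Subgroup.le_normalizer_map f) fun g' hg' => ?_
  obtain ⟨g, rfl⟩ := hf g'
  set M := P ⊔ f.ker with hM
  have hPM : P ≤ M := le_sup_left
  have hidx : ¬ p ∣ (P.subgroupOf M).index := by
    have h1 : (P.subgroupOf M).index ∣ Nat.card ↥f.ker := by
      have h2 := Cores.card_sup_dvd_mul P f.ker
      rw [← Subgroup.card_mul_index (P.subgroupOf M),
        Nat.card_congr (Subgroup.subgroupOfEquivOfLe hPM).toEquiv] at h2
      exact Nat.dvd_of_mul_dvd_mul_left Nat.card_pos h2
    exact fun h => hk (h.trans h1)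
  set Q := P.map (MulAut.conj g).toMonoidHom with hQ
  have hQM : Q ≤ M := by
    rw [hM, ← Subgroup.comap_map_eq, ← Subgroup.map_le_iff_le_comap, hQ, Subgroup.map_map]
    rintro _ ⟨x, hx, rfl⟩
    have : (f.comp (MulAut.conj g).toMonoidHom) x = f g * f x * (f g)⁻¹ := by
      simp [MulAut.conj_apply]
    rw [this]
    exact (Subgroup.mem_normalizer_iff.1 hg' (f x)).1 ⟨x, hx, rfl⟩
  have hP' : IsPGroup p ↥(P.subgroupOf M) := hP.comap_subtype
  have hQ' : IsPGroup p ↥(Q.subgroupOf M) := (hP.map _).comap_subtype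
  have hidx' : ¬ p ∣ (Q.subgroupOf M).index := by
    have h1 : Nat.card ↥(Q.subgroupOf M) = Nat.card ↥(P.subgroupOf M) := by
      rw [Nat.card_congr (Subgroup.subgroupOfEquivOfLe hQM).toEquiv,
        Nat.card_congr (Subgroup.subgroupOfEquivOfLe hPM).toEquiv, hQ,
        Subgroup.card_map_of_injective (MulAut.conj g).injective]
    have h2 := (Subgroup.card_mul_index (Q.subgroupOf M)).trans (Subgroup.card_mul_index (P.subgroupOf M)).symm
    rw [h1] at h2
    rw [Nat.eq_of_mul_eq_mul_left Nat.card_pos h2]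
    exact hidx
  obtain ⟨m, hm⟩ := MulAction.exists_smul_eq ↥M (hQ'.toSylow hidx') (hP'.toSylow hidx)
  have key : ∀ x : G, x ∈ P ↔ ((m : G) * g)⁻¹ * x * ((m : G) * g) ∈ P := by
    intro x
    constructor
    · intro hx
      have h3 : (⟨x, hPM hx⟩ : ↥M) ∈ ((m • hQ'.toSylow hidx' : Sylow p ↥M) : Subgroup ↥M) := by
        rw [hm]; exact hx
      rw [Sylow.coe_subgroup_smul, Subgroup.mem_pointwise_smul_iff_inv_smul_mem] at h3
      obtain ⟨y, hy, he⟩ : (((MulAut.conj m)⁻¹ • (⟨x, hPM hx⟩ : ↥M) : ↥M) : G) ∈ Q := h3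
      have he' : g * y * g⁻¹ = (m : G)⁻¹ * x * (m : G) := by
        simpa [MulAut.conj_apply, MulAut.smul_def] using he
      have : ((m : G) * g)⁻¹ * x * ((m : G) * g) = y := by
        calc ((m : G) * g)⁻¹ * x * ((m : G) * g) = g⁻¹ * ((m : G)⁻¹ * x * (m : G)) * g := by group
          _ = y := by rw [← he']; group
      rwa [this]
    · intro hx
      set y := ((m : G) * g)⁻¹ * x * ((m : G) * g) with hy
      have h3 : (⟨g * y * g⁻¹, hQM ⟨y, hx, rfl⟩⟩ : ↥M) ∈ ((hQ'.toSylow hidx' : Sylow p ↥M) : Subgroup ↥M) :=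
        show g * y * g⁻¹ ∈ Q from ⟨y, hx, rfl⟩
      have h4 : MulAut.conj m • (⟨g * y * g⁻¹, hQM ⟨y, hx, rfl⟩⟩ : ↥M) ∈
          ((hP'.toSylow hidx : Sylow p ↥M) : Subgroup ↥M) := by
        rw [← hm, Sylow.coe_subgroup_smul, Subgroup.smul_mem_pointwise_smul_iff]
        exact h3
      have h5 : (m : G) * (g * y * g⁻¹) * (m : G)⁻¹ ∈ P := h4
      have : (m : G) * (g * y * g⁻¹) * (m : G)⁻¹ = x := by rw [hy]; group
      rwa [this] at h5
  have hmg : (m : G) * g ∈ Subgroup.normalizer (P : Set G) :=
    (Subgroup.normalizer (P : Set G)).inv_mem_iff.1 (Subgroup.mem_normalizer_iff.2 fun x => by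
      simpa using key x)
  obtain ⟨k, hkP, hkf⟩ : ∃ k, k ∈ Subgroup.normalizer (P : Set G) ∧ f k = f m := by
    have hm' : (m : G) ∈ (P.map f).comap f := by rw [Subgroup.comap_map_eq]; exact m.2
    obtain ⟨u, hu, hfu⟩ := hm'
    exact ⟨u, Subgroup.le_normalizer hu, hfu⟩
  refine ⟨k⁻¹ * ((m : G) * g), mul_mem (inv_mem hkP) hmg, ?_⟩
  rw [map_mul, map_mul, map_inv, hkf]
  group

omit [Finite G] in
/-- A group with trivial `p`-layer has characteristic `p` modulo `O_{p'}`. -/
theorem generalizedFitting_quotient [Finite G] [hp : Fact p.Prime] (h : pLayer p G = ⊥) :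
    generalizedFittingSubgroup (G ⧸ pPrimeCore p G) = pCore p (G ⧸ pPrimeCore p G) := by
  refine le_antisymm (sup_le ?_ ?_) ((Cores.pCore_le_fittingSubgroup p).trans le_sup_right)
  · rw [← Components.PComponent.map_pLayer, h, Subgroup.map_bot]
    exact bot_le
  · rw [Cores.fittingSubgroup_eq_iSup_pCore]
    refine iSup_le fun q => ?_
    by_cases hq : (q : ℕ) = p
    · rw [hq]
    · have h1 : pCore (q : ℕ) (G ⧸ pPrimeCore p G) ≤ pPrimeCore p (G ⧸ pPrimeCore p G) := by
        haveI : Fact (q : ℕ).Prime := ⟨q.2⟩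
        refine Cores.le_pPrimeCore ?_
        obtain ⟨k, hk⟩ := IsPGroup.iff_card.1 (Cores.pCore_isPGroup (G := G ⧸ pPrimeCore p G) (q : ℕ))
        rw [hk]
        exact ((Nat.coprime_primes q.2 hp.out).2 hq).pow_left k
      rw [Cores.pPrimeCore_quotient_pPrimeCore p] at h1
      exact h1.trans bot_le

/-- p-locals of a group with trivial `p`-layer. -/
theorem pLayer_eq_bot_local [hp : Fact p.Prime] (h : pLayer p G = ⊥) {P : Subgroup G} (hP : IsPGroup p ↥P) :
    pLayer p ↥(Subgroup.normalizer (P : Set G)) = ⊥ ∧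
      coreIn p (Subgroup.normalizer (P : Set G)) ≤ pPrimeCore p G := by
  set N := Subgroup.normalizer (P : Set G) with hN
  set π := QuotientGroup.mk' (pPrimeCore p G) with hπ
  have hker : ¬ p ∣ Nat.card ↥π.ker := by
    rw [hπ, QuotientGroup.ker_mk']; exact Cores.not_dvd_card_pPrimeCore p
  have hmap : N.map π = Subgroup.normalizer (P.map π : Set (G ⧸ pPrimeCore p G)) :=
    map_normalizer_eq (QuotientGroup.mk'_surjective _) hker hP
  have hchar := centralizer_pCore_le_normalizer
    (centralizer_pCore_le_iff.2 (generalizedFitting_quotient h)) (hP.map π)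
  rw [← hmap] at hchar
  have hO : pPrimeCore p ↥(N.map π) = ⊥ := pPrimeCore_eq_bot_of_centralizer_le hchar
  set φ := π.subgroupMap N with hφ
  have hφs : Function.Surjective φ := π.subgroupMap_surjective N
  have hcore : pPrimeCore p ↥N = φ.ker := by
    refine le_antisymm ?_ ?_
    · have h1 := Cores.map_pPrimeCore_le (p := p) φ hφs
      rw [hO, Subgroup.map_le_iff_le_comap, MonoidHom.comap_bot] at h1
      exact h1
    · refine Cores.le_pPrimeCore ((Cores.pPrimeCore_coprime (G := G) p).coprime_dvd_left ?_)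
      have h1 : φ.ker.map N.subtype ≤ pPrimeCore p G := by
        rintro _ ⟨x, hx, rfl⟩
        exact (QuotientGroup.eq_one_iff (x : G)).1 (congrArg Subtype.val hx)
      rw [← Subgroup.card_map_of_injective (f := N.subtype) N.subtype_injective]
      exact Subgroup.card_dvd_of_le h1
  refine ⟨?_, ?_⟩
  · refine sSup_eq_bot.2 fun K hK => ?_
    exfalso
    have e := (QuotientGroup.quotientMulEquivOfEq hcore).trans
      (QuotientGroup.quotientKerEquivOfSurjective φ hφs)
    have hc := Components.Component.map_equiv e hK.2.1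
    haveI : Group.IsNilpotent ↥(pCore p ↥(N.map π)) := (Cores.pCore_isPGroup p).isNilpotent
    refine Components.Component.not_le_of_isSolvable hc (N := pCore p ↥(N.map π)) ?_
    rw [← centralizer_pCore_le_iff.1 hchar]
    exact le_sup_of_le_left (Components.Layer.component_le_layer hc)
  · rintro _ ⟨x, hx, rfl⟩
    exact (QuotientGroup.eq_one_iff (x : G)).1
      (congrArg Subtype.val (show φ x = 1 from hcore.le hx))

end Cfsg.Agent.Lib.Balance
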