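import Cfsg.Agent.Lib.Balance.Locals
import Cfsg.Agent.Lib.Coprime.Commutator
import Cfsg.Agent.Lib.PGroups.Frattini
import Cfsg.Agent.Lib.PSolvable.HallHigman

/-!
# Invariant `p'`-subgroups under an abelian `p`-subgroup containing `Ω₁` of its centralizer

Owner: helper33. Namespace `Cfsg.Agent.Lib.Balance`.
* `le_centralizer_of_fixed`: `p` odd; a `p'`-group centralizes a `p`-group when it fixes every element of
  order `p` centralized by a `p`-group normalizing both;
* `invariant_le_pPrimeCore`: the consequence for `p`-constrained groups.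
The proof uses the abelian group attached to a `p`-group of class two by halving commutators.
-/

set_option autoImplicit false
set_option linter.style.haveILetI false
open Cfsg
open scoped commutatorElement

namespace Cfsg.Agent.Lib.Balance

/-- The carrier of the abelian group of a class two group of odd exponent. -/
structure Half (S : Type*) (p : ℕ) where
  /-- the element -/
  out : S

section HalfGroup

variable {S : Type*} [Group S] {p : ℕ}

theorem commutator_mul_left_of_central (hc : ∀ x y z : S, z * ⁅x, y⁆ = ⁅x, y⁆ * z) (x y z : S) :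
    ⁅x * y, z⁆ = ⁅x, z⁆ * ⁅y, z⁆ := by
  have h : ⁅x * y, z⁆ = x * ⁅y, z⁆ * x⁻¹ * ⁅x, z⁆ := by simp only [commutatorElement_def]; group
  rw [h, hc y z x, mul_inv_cancel_right, hc x z]

theorem commutator_mul_right_of_central (hc : ∀ x y z : S, z * ⁅x, y⁆ = ⁅x, y⁆ * z) (x y z : S) :
    ⁅x, y * z⁆ = ⁅x, y⁆ * ⁅x, z⁆ := by
  have h : ⁅x, y * z⁆ = ⁅x, y⁆ * (y * ⁅x, z⁆ * y⁻¹) := by simp only [commutatorElement_def]; group
  rw [h, hc x z y, mul_inv_cancel_right]

/-- The multiplication `x y [y,x]^h`, `2h ≡ 1`. -/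
def halfMul (p : ℕ) (x y : S) : S := x * y * ⁅y, x⁆ ^ ((p + 1) / 2)

/-- The abelian group structure. -/
@[instance_reducible]
def halfCommGroup (hc : ∀ x y z : S, z * ⁅x, y⁆ = ⁅x, y⁆ * z) (hp : ∀ x y : S, ⁅x, y⁆ ^ p = 1)
    (hodd : Odd p) : CommGroup (Half S p) :=
  have hcpow : ∀ (x y z : S) (n : ℕ), z * ⁅x, y⁆ ^ n = ⁅x, y⁆ ^ n * z := fun x y z n =>
    (Commute.pow_right (hc x y z) n).eq
  have hcz : ∀ (x y z : S) (n : ℕ), ⁅z, ⁅x, y⁆ ^ n⁆ = 1 := fun x y z n =>
    commutatorElement_eq_one_iff_mul_comm.2 (hcpow x y z n)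
  have hcz' : ∀ (x y z : S) (n : ℕ), ⁅⁅x, y⁆ ^ n, z⁆ = 1 := fun x y z n =>
    commutatorElement_eq_one_iff_mul_comm.2 (hcpow x y z n).symm
  { mul := fun x y => ⟨halfMul p x.out y.out⟩
    one := ⟨1⟩
    inv := fun x => ⟨x.out⁻¹⟩
    mul_assoc := by
      rintro ⟨x⟩ ⟨y⟩ ⟨z⟩
      show Half.mk (halfMul p (halfMul p x y) z) = Half.mk (halfMul p x (halfMul p y z))
      congr 1
      set h := (p + 1) / 2
      simp only [halfMul]
      rw [commutator_mul_right_of_central hc z (x * y), commutator_mul_right_of_central hc z x y, hcz,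
        mul_one, commutator_mul_left_of_central hc (y * z), commutator_mul_left_of_central hc y z, hcz',
        mul_one]
      rw [Commute.mul_pow (hc z y ⁅z, x⁆ : Commute ⁅z, x⁆ ⁅z, y⁆),
        Commute.mul_pow (hc z x ⁅y, x⁆ : Commute ⁅y, x⁆ ⁅z, x⁆)]
      calc x * y * ⁅y, x⁆ ^ h * z * (⁅z, x⁆ ^ h * ⁅z, y⁆ ^ h)
          = x * y * (⁅y, x⁆ ^ h * z) * (⁅z, x⁆ ^ h * ⁅z, y⁆ ^ h) := by group
        _ = x * y * (z * ⁅y, x⁆ ^ h) * (⁅z, x⁆ ^ h * ⁅z, y⁆ ^ h) := by rw [hcpow y x z h]
        _ = x * y * z * ((⁅y, x⁆ ^ h * ⁅z, x⁆ ^ h) * ⁅z, y⁆ ^ h) := by group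
        _ = x * y * z * (⁅z, y⁆ ^ h * (⁅y, x⁆ ^ h * ⁅z, x⁆ ^ h)) := by rw [hcpow z y _ h]
        _ = x * (y * z * ⁅z, y⁆ ^ h) * (⁅y, x⁆ ^ h * ⁅z, x⁆ ^ h) := by group
    one_mul := by rintro ⟨x⟩; show Half.mk (halfMul p 1 x) = _; simp [halfMul]
    mul_one := by rintro ⟨x⟩; show Half.mk (halfMul p x 1) = _; simp [halfMul]
    inv_mul_cancel := by
      rintro ⟨x⟩
      show Half.mk (halfMul p x⁻¹ x) = Half.mk 1
      have : ⁅x, x⁻¹⁆ = 1 := commutatorElement_eq_one_iff_mul_comm.2 (by group)
      simp [halfMul, this]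
    mul_comm := by
      rintro ⟨x⟩ ⟨y⟩
      show Half.mk (halfMul p x y) = Half.mk (halfMul p y x)
      congr 1
      set h := (p + 1) / 2 with hh
      have h2 : h + h = p + 1 := by obtain ⟨k, hk⟩ := hodd; omega
      have hinv : ⁅x, y⁆ ^ h * ⁅x, y⁆ ^ h = ⁅x, y⁆ := by rw [← pow_add, h2, pow_succ, hp, one_mul]
      simp only [halfMul]
      have e : ⁅y, x⁆ ^ h = (⁅x, y⁆ ^ h)⁻¹ := by rw [← inv_pow, commutatorElement_inv]
      rw [e, mul_inv_eq_iff_eq_mul, mul_assoc (y * x), hinv, hc x y (y * x), commutatorElement_def]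
      group }

end HalfGroup

variable {G : Type*} [Group G] {p : ℕ}

theorem le_normalizer_map_characteristic {S : Subgroup G} (K : Subgroup ↥S) [K.Characteristic] :
    Subgroup.normalizer (S : Set G) ≤ Subgroup.normalizer ((K.map S.subtype : Subgroup G) : Set G) := by
  intro g hg
  have key : ∀ g ∈ Subgroup.normalizer (S : Set G), ∀ x ∈ K.map S.subtype, g * x * g⁻¹ ∈ K.map S.subtype := by
    rintro g hg _ ⟨x, hx, rfl⟩
    refine ⟨S.normalizerMonoidHom ⟨g, hg⟩ x, ?_, rfl⟩
    exact Subgroup.characteristic_iff_le_comap.1 inferInstance (S.normalizerMonoidHom ⟨g, hg⟩) hx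
  rw [Subgroup.mem_normalizer_iff]
  refine fun x => ⟨key g hg x, fun hx => ?_⟩
  have := key g⁻¹ (inv_mem hg) _ hx
  simpa [mul_assoc] using this

/-- A `p'`-group fixing the elements of order `p` centralized by the acting `p`-group centralizes. -/
theorem le_centralizer_of_fixed [Finite G] [hp : Fact p.Prime] (hodd : p ≠ 2) :
    ∀ (n : ℕ) (S Q A : Subgroup G), Nat.card ↥S ≤ n → IsPGroup p ↥S → IsPGroup p ↥A →
      Q ≤ Subgroup.normalizer (S : Set G) → A ≤ Subgroup.normalizer (S : Set G) →
      A ≤ Subgroup.normalizer (Q : Set G) → (Nat.card ↥Q).Coprime p →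
      (∀ x ∈ S, x ^ p = 1 → x ∈ Subgroup.centralizer (A : Set G) → x ∈ Subgroup.centralizer (Q : Set G)) →
      Q ≤ Subgroup.centralizer (S : Set G) := by
  intro n
  induction n with
  | zero => exact fun S _ _ h => absurd h (by have := Nat.card_pos (α := ↥S); omega)
  | succ n ih =>
    intro S Q A hn hS hA hQS hAS hAQ hQp hfix
    by_contra hne
    have hsub : ∀ T : Subgroup G, T ≤ S → T ≠ S → Q ≤ Subgroup.normalizer (T : Set G) →
        A ≤ Subgroup.normalizer (T : Set G) → Q ≤ Subgroup.centralizer (T : Set G) := by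
      intro T hTS hT hQT hAT
      refine ih T Q A ?_ (hS.to_le hTS) hA hQT hAT hAQ hQp fun x hx => hfix x (hTS hx)
      have : Nat.card ↥T < Nat.card ↥S :=
        lt_of_le_of_ne (Nat.le_of_dvd Nat.card_pos (Subgroup.card_dvd_of_le hTS))
          fun h => hT (Subgroup.eq_of_le_of_card_ge hTS h.ge)
      omega
    obtain ⟨k, hk⟩ := IsPGroup.iff_card.1 hS
    have hcop : (Nat.card ↥Q).Coprime (Nat.card ↥S) := hk ▸ hQp.pow_right k
    haveI : Group.IsNilpotent ↥S := hS.isNilpotent
    have hsolv : Group.IsSolvable ↥Q ∨ Group.IsSolvable ↥S := Or.inr inferInstance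
    have hSQ : ⁅S, Q⁆ = S := by
      by_contra h
      have hle : ⁅S, Q⁆ ≤ S := Subgroup.le_normalizer_iff_commutator_le_left.1 hQS
      have h1 := hsub _ hle h (Subgroup.normalizer_commutator_ge_right _ _)
        (le_normalizer_commutator_of hAS hAQ)
      rw [← Subgroup.commutator_eq_bot_iff_le_centralizer, Subgroup.commutator_comm,
        Coprime.commutator_commutator_eq hQS hcop hsolv, Subgroup.commutator_comm,
        Subgroup.commutator_eq_bot_iff_le_centralizer] at h1
      exact hne h1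
    haveI : Nontrivial ↥S := by
      rw [Subgroup.nontrivial_iff_ne_bot]
      rintro rfl
      exact hne (Subgroup.commutator_eq_bot_iff_le_centralizer.1 (Subgroup.commutator_bot_right _))
    set F := (frattini ↥S).map S.subtype with hF
    have hFS : F ≤ S := Subgroup.map_subtype_le _
    have hFne : F ≠ S := by
      intro h
      have h1 : frattini ↥S = ⊤ := Subgroup.map_injective S.subtype_injective
        (h.trans (by rw [← MonoidHom.range_eq_map, Subgroup.range_subtype]))
      exact frattini_ne_top_of_nontrivial hS h1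
    have hQF := hsub F hFS hFne (hQS.trans (le_normalizer_map_characteristic _))
      (hAS.trans (le_normalizer_map_characteristic _))
    have hSF : ⁅S, F⁆ = ⊥ := by
      have h1 : ⁅⁅Q, F⁆, S⁆ = ⊥ := by
        rw [Subgroup.commutator_eq_bot_iff_le_centralizer.2 hQF, Subgroup.commutator_bot_left]
      have h2 : ⁅⁅F, S⁆, Q⁆ = ⊥ := by
        rw [Subgroup.commutator_comm, Subgroup.commutator_eq_bot_iff_le_centralizer]
        refine hQF.trans (Subgroup.centralizer_le ?_)
        exact Subgroup.le_normalizer_iff_commutator_le_left.1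
          (Subgroup.le_normalizer.trans (le_normalizer_map_characteristic _))
      have h3 := Subgroup.commutator_commutator_eq_bot_of_rotate h1 h2
      rwa [hSQ] at h3
    rw [Subgroup.commutator_eq_bot_iff_le_centralizer] at hSF
    have hcomF : ∀ x y : ↥S, ((⁅x, y⁆ : ↥S) : G) ∈ F := fun x y =>
      ⟨_, PGroups.commutatorElement_mem_frattini hS x y, rfl⟩
    have hpowF : ∀ x : ↥S, ((x ^ p : ↥S) : G) ∈ F := fun x =>
      ⟨_, PGroups.pow_mem_frattini hS x, rfl⟩
    have hFc : ∀ w : ↥S, (w : G) ∈ F → ∀ z : ↥S, z * w = w * z := fun w hw z =>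
      Subtype.ext ((Subgroup.mem_centralizer_iff.1 (hSF z.2) w hw).symm)
    have hc : ∀ x y z : ↥S, z * ⁅x, y⁆ = ⁅x, y⁆ * z := fun x y z => hFc _ (hcomF x y) z
    have hcp : ∀ x y : ↥S, ⁅x, y⁆ ^ p = 1 := by
      intro x y
      have h1 : ∀ m : ℕ, ⁅x ^ m, y⁆ = ⁅x, y⁆ ^ m := by
        intro m
        induction m with
        | zero => simp
        | succ m ihm => rw [pow_succ, commutator_mul_left_of_central hc, ihm, pow_succ]
      rw [← h1, commutatorElement_eq_one_iff_mul_comm]
      exact (hFc _ (hpowF x) y).symm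
    have hpodd : Odd p := hp.out.odd_of_ne_two hodd
    letI : CommGroup (Half ↥S p) := halfCommGroup hc hcp hpodd
    have hmkmul : ∀ x y : ↥S, (Half.mk x : Half ↥S p) * Half.mk y = Half.mk (halfMul p x y) := fun _ _ => rfl
    have hmkpow : ∀ (x : ↥S) (m : ℕ), (Half.mk x : Half ↥S p) ^ m = Half.mk (x ^ m) := by
      intro x m
      induction m with
      | zero => rw [pow_zero, pow_zero]; rfl
      | succ m ihm =>
        rw [pow_succ, ihm, hmkmul, halfMul, commutatorElement_eq_one_iff_mul_comm.2 (Commute.self_pow x m).eq,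
          one_pow, mul_one, pow_succ]
    -- the `p`-th power is multiplicative
    have hpow : ∀ x y : ↥S, (x * y) ^ p = x ^ p * y ^ p := by
      intro x y
      have h1 : (Half.mk x * Half.mk y : Half ↥S p) ^ p = Half.mk x ^ p * Half.mk y ^ p := mul_pow _ _ _
      rw [hmkpow, hmkpow, hmkmul, hmkpow, hmkmul] at h1
      have h2 := congrArg Half.out h1
      simp only [halfMul] at h2
      rw [Commute.mul_pow (hc _ _ (x * y) |> fun h => Commute.pow_right h _), ← pow_mul,
        mul_comm ((p + 1) / 2) p, pow_mul, hcp, one_pow, mul_one,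
        commutatorElement_eq_one_iff_mul_comm.2 (hFc _ (hpowF y) (x ^ p)).symm, one_pow, mul_one] at h2
      exact h2
    have hexp : ∀ x ∈ S, x ^ p = 1 := by
      let T : Subgroup G :=
        { carrier := {g | g ∈ S ∧ g ^ p = 1}
          one_mem' := ⟨one_mem _, one_pow _⟩
          mul_mem' := by
            rintro a b ⟨ha, ha'⟩ ⟨hb, hb'⟩
            refine ⟨mul_mem ha hb, ?_⟩
            have := congrArg Subtype.val (hpow ⟨a, ha⟩ ⟨b, hb⟩)
            simpa [ha', hb'] using this
          inv_mem' := by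
            rintro a ⟨ha, ha'⟩
            exact ⟨inv_mem ha, by rw [inv_pow, ha', inv_one]⟩ }
      have hle : ⁅S, Q⁆ ≤ T := by
        rw [Subgroup.commutator_le]
        intro x hx y hy
        have hyx : y * x⁻¹ * y⁻¹ ∈ S := (Subgroup.mem_normalizer_iff.1 (hQS hy) _).1 (inv_mem hx)
        have e : ⁅x, y⁆ = x * (y * x⁻¹ * y⁻¹) := by rw [commutatorElement_def]; group
        refine ⟨e ▸ mul_mem hx hyx, ?_⟩
        have h1 : (x * (y * x⁻¹ * y⁻¹)) ^ p = x ^ p * (y * x⁻¹ * y⁻¹) ^ p :=
          congrArg Subtype.val (hpow ⟨x, hx⟩ ⟨_, hyx⟩)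
        have hy' : x ^ p * y = y * x ^ p :=
          Subgroup.mem_centralizer_iff.1 (hQF hy) _ (hpowF ⟨x, hx⟩)
        rw [e, h1, conj_pow, inv_pow]
        calc x ^ p * (y * (x ^ p)⁻¹ * y⁻¹) = (x ^ p * y) * (x ^ p)⁻¹ * y⁻¹ := by group
          _ = 1 := by rw [hy']; group
      exact fun x hx => (hle (hSQ.symm ▸ hx)).2
    -- averaging over `Q`
    let act : ↥(Subgroup.normalizer (S : Set G)) → Half ↥S p →* Half ↥S p := fun g =>
      MonoidHom.mk' (fun x => Half.mk (S.normalizerMonoidHom g x.out)) (by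
        rintro ⟨x⟩ ⟨y⟩
        rw [hmkmul, hmkmul]
        simp only [halfMul]
        rw [map_mul, map_mul, map_pow, map_commutatorElement])
    have hact : ∀ (g h : ↥(Subgroup.normalizer (S : Set G))) (x : Half ↥S p),
        act g (act h x) = act (g * h) x := fun g h x => by
      show Half.mk (S.normalizerMonoidHom g (S.normalizerMonoidHom h x.out)) =
        Half.mk (S.normalizerMonoidHom (g * h) x.out)
      rw [map_mul]
      rfl
    haveI : Fintype ↥Q := Fintype.ofFinite _
    let P : Half ↥S p →* Half ↥S p := MonoidHom.mk' (fun x => ∏ q : ↥Q, act (Subgroup.inclusion hQS q) x)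
      (fun x y => by simp only [map_mul, Finset.prod_mul_distrib])
    have hPA : ∀ (a : ↥A) (x : Half ↥S p),
        act (Subgroup.inclusion hAS a) (P x) = P (act (Subgroup.inclusion hAS a) x) := by
      intro a x
      show act _ (∏ q : ↥Q, act _ x) = ∏ q : ↥Q, act _ (act _ x)
      rw [map_prod]
      refine Fintype.prod_equiv (Q.normalizerMonoidHom ⟨a, hAQ a.2⟩).toEquiv _ _ fun q => ?_
      rw [hact, hact]
      congr 2
      apply Subtype.ext
      show (a : G) * (q : G) = (a : G) * q * (a : G)⁻¹ * a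
      group
    have hPQ : ∀ (q : ↥Q) (x : Half ↥S p), act (Subgroup.inclusion hQS q) (P x) = P x := by
      intro q x
      show act _ (∏ q' : ↥Q, act _ x) = ∏ q' : ↥Q, act _ x
      rw [map_prod]
      refine Fintype.prod_equiv (Equiv.mulLeft q) _ _ fun q' => ?_
      rw [hact, ← map_mul]
      rfl
    have hPinj : ∀ x : Half ↥S p, P x = 1 → x = 1 := by
      by_contra hcon
      push Not at hcon
      obtain ⟨x0, hx0, hx01⟩ := hcon
      haveI : Finite (Half ↥S p) := Finite.of_equiv ↥S ⟨Half.mk, Half.out, fun _ => rfl, fun ⟨_⟩ => rfl⟩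
      letI : MulAction ↥A ↥P.ker :=
        { smul := fun a x => ⟨act (Subgroup.inclusion hAS a) x, by
            rw [MonoidHom.mem_ker, ← hPA, show P (x : Half ↥S p) = 1 from x.2, map_one]⟩
          one_smul := fun x => Subtype.ext (by
            show Half.mk (S.normalizerMonoidHom (Subgroup.inclusion hAS 1) (x : Half ↥S p).out) = _
            rw [map_one, map_one]; rfl)
          mul_smul := fun a b x => Subtype.ext (by
            show act (Subgroup.inclusion hAS (a * b)) x = act _ (act _ x)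
            rw [hact, map_mul]) }
      have hkp : IsPGroup p ↥P.ker := by
        intro x
        refine ⟨1, Subtype.ext ?_⟩
        show (Half.mk (x : Half ↥S p).out : Half ↥S p) ^ (p ^ 1) = 1
        rw [hmkpow, pow_one]
        exact congrArg Half.mk (Subtype.ext (hexp _ (x : Half ↥S p).out.2))
      obtain ⟨j, hj⟩ := IsPGroup.iff_card.1 hkp
      have hdvd : p ∣ Nat.card ↥P.ker := by
        haveI : Nontrivial ↥P.ker := ⟨⟨⟨x0, hx0⟩, 1, fun h => hx01 (congrArg Subtype.val h)⟩⟩
        have := Finite.one_lt_card (α := ↥P.ker)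
        rcases j with _ | j
        · rw [hj, pow_zero] at this; omega
        · rw [hj]; exact dvd_pow_self p (Nat.succ_ne_zero j)
      obtain ⟨m, hm, hm1⟩ := hA.exists_fixed_point_of_prime_dvd_card_of_fixed_point ↥P.ker hdvd
        (a := (1 : ↥P.ker)) (fun a => Subtype.ext (map_one (act (Subgroup.inclusion hAS a))))
      have hmA : ((m : Half ↥S p).out : G) ∈ Subgroup.centralizer (A : Set G) := by
        refine Subgroup.mem_centralizer_iff.2 fun a ha => ?_
        have h1 : a * ((m : Half ↥S p).out : G) * a⁻¹ = ((m : Half ↥S p).out : G) :=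
          congrArg (fun z : ↥P.ker => ((z : Half ↥S p).out : G)) (hm ⟨a, ha⟩)
        calc a * ((m : Half ↥S p).out : G) = a * ((m : Half ↥S p).out : G) * a⁻¹ * a := by group
          _ = _ := by rw [h1]
      have hmQ := hfix _ (m : Half ↥S p).out.2 (hexp _ (m : Half ↥S p).out.2) hmA
      have hPm : P m = (m : Half ↥S p) ^ Fintype.card ↥Q := by
        show (∏ q : ↥Q, act _ (m : Half ↥S p)) = _
        rw [← Finset.card_univ, ← Finset.prod_const]
        refine Finset.prod_congr rfl fun q _ => ?_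
        show Half.mk _ = Half.mk (m : Half ↥S p).out
        congr 1
        apply Subtype.ext
        show (q : G) * ((m : Half ↥S p).out : G) * (q : G)⁻¹ = ((m : Half ↥S p).out : G)
        rw [Subgroup.mem_centralizer_iff.1 hmQ q q.2, mul_inv_cancel_right]
      rw [show P (m : Half ↥S p) = 1 from m.2, hmkpow] at hPm
      have h1 : orderOf ((m : Half ↥S p).out : G) = 1 := by
        refine Nat.eq_one_of_dvd_coprimes hQp ?_ (orderOf_dvd_of_pow_eq_one (hexp _ (m : Half ↥S p).out.2))
        rw [← Fintype.card_eq_nat_card]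
        exact orderOf_dvd_of_pow_eq_one (congrArg (fun z : Half ↥S p => (z.out : G)) hPm).symm
      rw [orderOf_eq_one_iff] at h1
      exact hm1 (Subtype.ext (congrArg Half.mk (Subtype.ext h1)).symm)
    haveI : Finite (Half ↥S p) := Finite.of_equiv ↥S ⟨Half.mk, Half.out, fun _ => rfl, fun ⟨_⟩ => rfl⟩
    have hsurj : Function.Surjective P :=
      Finite.injective_iff_surjective.1 ((injective_iff_map_eq_one P).2 hPinj)
    refine hne fun q hq => Subgroup.mem_centralizer_iff.2 fun x hx => ?_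
    obtain ⟨z, hz⟩ := hsurj (Half.mk ⟨x, hx⟩)
    have h1 := hPQ ⟨q, hq⟩ z
    rw [hz] at h1
    have h2 : q * x * q⁻¹ = x := congrArg (fun w : Half ↥S p => (w.out : G)) h1
    calc x * q = q * x * q⁻¹ * q := by rw [h2]
      _ = q * x := by group
where
  le_normalizer_commutator_of {G : Type _} [Group G] {A H K : Subgroup G}
      (hH : A ≤ Subgroup.normalizer (H : Set G)) (hK : A ≤ Subgroup.normalizer (K : Set G)) :
      A ≤ Subgroup.normalizer ((⁅H, K⁆ : Subgroup G) : Set G) := by
    intro a ha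
    rw [Subgroup.mem_normalizer_iff_map_conj_eq, Subgroup.map_commutator,
      Subgroup.mem_normalizer_iff_map_conj_eq.1 (hH ha), Subgroup.mem_normalizer_iff_map_conj_eq.1 (hK ha)]
  frattini_ne_top_of_nontrivial {H : Type _} [Group H] [Finite H] [Nontrivial H] {p : ℕ} [Fact p.Prime]
      (hH : IsPGroup p H) : frattini H ≠ ⊤ := by
    intro h
    have h1 : Subgroup.closure (∅ : Set H) = ⊤ :=
      PGroups.closure_eq_top_of_sup_frattini (by rw [h, sup_top_eq])
    rw [Subgroup.closure_empty] at h1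
    exact bot_ne_top h1

/-- Invariant `p'`-subgroups of a `p`-constrained group, `p` odd. -/
theorem invariant_le_pPrimeCore [Finite G] [hp : Fact p.Prime] (hodd : p ≠ 2)
    (hX : IsPConstrained p G) {A : Subgroup G} (hAp : IsPGroup p ↥A)
    (hΩ : ∀ x ∈ Subgroup.centralizer (A : Set G), orderOf x = p → x ∈ A) {Q : Subgroup G}
    (hQ : ¬ p ∣ Nat.card ↥Q) (hAQ : A ≤ Subgroup.normalizer (Q : Set G)) :
    Q ≤ pPrimeCore p G := by
  set π := QuotientGroup.mk' (pPrimeCore p G) with hπ
  have hchar := PSolvable.isPConstrained_iff.1 hX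
  set S := pCore p (G ⧸ pPrimeCore p G) with hS
  have hQc : (Nat.card ↥(Q.map π)).Coprime p :=
    ((hp.out.coprime_iff_not_dvd.2 hQ).symm).coprime_dvd_left (Subgroup.card_map_dvd _ _)
  have hN : ∀ U : Subgroup (G ⧸ pPrimeCore p G), U ≤ Subgroup.normalizer (S : Set _) :=
    fun _ => Subgroup.le_normalizer_of_normal
  have hle : Q.map π ≤ Subgroup.centralizer (S : Set _) := by
    refine le_centralizer_of_fixed hodd _ S (Q.map π) (A.map π) le_rfl (Cores.pCore_isPGroup p)
      (hAp.map π) (hN _) (hN _) ((Subgroup.map_mono hAQ).trans (Subgroup.le_normalizer_map π)) hQc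
      fun x hxS hxp hxA => ?_
    have hxA' : x ∈ A.map π := by
      rcases eq_or_ne x 1 with rfl | hx1
      · exact one_mem _
      obtain ⟨c, hc, rfl⟩ := PSolvable.centralizer_map_le_map_centralizer (pPrimeCore p G) A
        (Cores.pPrimeCore_coprime p) hAp hxA
      set m := (orderOf c).factorization p with hm
      set r := orderOf c / p ^ m with hr
      have hn : orderOf c ≠ 0 := (orderOf_pos c).ne'
      have hrdvd : r ∣ orderOf c := Nat.ordCompl_dvd _ _
      have horder : orderOf (c ^ r) = p ^ m := by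
        rw [orderOf_pow_of_dvd (Nat.ordCompl_pos p hn).ne' hrdvd]
        exact Nat.div_div_self (Nat.ordProj_dvd _ _) hn
      have hker : (c ^ r) ^ p = 1 := by
        rw [← orderOf_eq_one_iff]
        refine Nat.eq_one_of_dvd_coprimes ((Cores.pPrimeCore_coprime (G := G) p).pow_right m) ?_ ?_
        · refine Subgroup.orderOf_dvd_natCard _ ((QuotientGroup.eq_one_iff _).1 ?_)
          show π ((c ^ r) ^ p) = 1
          rw [← pow_mul, mul_comm, pow_mul, map_pow, map_pow, hxp, one_pow]
        · rw [← horder]; exact orderOf_pow_dvd p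
      obtain ⟨s, hs⟩ := exists_pow_eq_self_of_coprime (show r.Coprime (orderOf (π c)) by
        rw [orderOf_eq_prime hxp hx1]
        exact (Nat.coprime_ordCompl hp.out hn).symm)
      rw [← hs, ← map_pow]
      refine Subgroup.pow_mem _ (Subgroup.mem_map_of_mem π ?_) s
      rcases eq_or_ne (c ^ r) 1 with h1 | h1
      · rw [h1]; exact one_mem _
      · exact hΩ _ (pow_mem hc r) (orderOf_eq_prime hker h1)
    refine Subgroup.mem_centralizer_iff.2 fun q hq => ?_
    have h1 : ⁅x, q⁆ ∈ Q.map π := by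
      rw [commutatorElement_def]
      exact mul_mem ((Subgroup.mem_normalizer_iff.1
        (((Subgroup.map_mono hAQ).trans (Subgroup.le_normalizer_map π)) hxA') q).1 hq) (inv_mem hq)
    have h2 : ⁅x, q⁆ ∈ S := by
      rw [commutatorElement_def, mul_assoc, mul_assoc]
      refine mul_mem hxS ?_
      rw [← mul_assoc]
      exact (pCore_normal p _).conj_mem _ (inv_mem hxS) q
    obtain ⟨k, hk⟩ := Cores.pCore_isPGroup p ⟨_, h2⟩
    have h3 : orderOf ⁅x, q⁆ = 1 := Nat.eq_one_of_dvd_coprimes (hQc.pow_right k)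
      (Subgroup.orderOf_dvd_natCard _ h1) (orderOf_dvd_of_pow_eq_one (congrArg Subtype.val hk))
    rw [orderOf_eq_one_iff, commutatorElement_eq_one_iff_mul_comm] at h3
    exact h3.symm
  intro q hq
  obtain ⟨k, hk⟩ := Cores.pCore_isPGroup p ⟨π q, hchar (hle ⟨q, hq, rfl⟩)⟩
  refine (QuotientGroup.eq_one_iff _).1 (orderOf_eq_one_iff.1 ?_)
  exact Nat.eq_one_of_dvd_coprimes (hQc.pow_right k) (Subgroup.orderOf_dvd_natCard _ ⟨q, hq, rfl⟩)
    (orderOf_dvd_of_pow_eq_one (congrArg Subtype.val hk))

end Cfsg.Agent.Lib.Balance
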