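import Cfsg.Agent.Lib.Balance.Basic
import Cfsg.Agent.Lib.PLocal.CoprimeGen
import Cfsg.Agent.Lib.Coprime.Commutator

/-!
# Fixed points in a solvable group generated by hyperplane centralisers; the `k`-balanced functor

Owner: helper33. Namespace `Cfsg.Agent.Lib.Balance`.
* `inf_centralizer_le_of_pairs`: a family `P E ≤ C(E)` over the subgroups `E` of index at most `p` of an
  elementary abelian `p`-group `A` that is closed on pairs gives all `A`-hyperplane fixed points of the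
  solvable `p'`-group it generates;
* `isSignalizerFunctor_delta`: the signalizer functor of a `k`-balanced group.
-/

set_option autoImplicit false
set_option linter.style.haveILetI false
open Cfsg
open scoped commutatorElement

namespace Cfsg.Agent.Lib.Balance

variable {G : Type*} [Group G] {p : ℕ}

theorem inf_centralizer_le_of_pairs [Finite G] [hp : Fact p.Prime] {A : Subgroup G}
    (hA : IsElementaryAbelian p A) (P : Subgroup G → Subgroup G)
    (hPA : ∀ E, E ≤ A → E.relIndex A ≤ p → A ≤ Subgroup.normalizer (P E : Set G))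
    (hPC : ∀ E, E ≤ A → E.relIndex A ≤ p → P E ≤ Subgroup.centralizer (E : Set G))
    (hpair : ∀ E₁, E₁ ≤ A → E₁.relIndex A ≤ p → ∀ E₂, E₂ ≤ A → E₂.relIndex A ≤ p →
      ∀ E, E ≤ A → E.relIndex A ≤ p →
        (P E₁ ⊔ P E₂) ⊓ Subgroup.centralizer (E : Set G) ≤ P E)
    (Y : Subgroup G) (hYs : Group.IsSolvable ↥Y) (hYp : (Nat.card ↥Y).Coprime p)
    (hAY : A ≤ Subgroup.normalizer (Y : Set G))
    (hY : Y ≤ ⨆ E : {E : Subgroup G // E ≤ A ∧ E.relIndex A ≤ p}, Y ⊓ P E)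
    {E : Subgroup G} (hE : E ≤ A) (hEi : E.relIndex A ≤ p) :
    Y ⊓ Subgroup.centralizer (E : Set G) ≤ P E := by
  induction hn : Nat.card ↥Y using Nat.strong_induction_on generalizing Y E with
  | _ n IH =>
  rcases eq_or_ne Y ⊥ with hY0 | hY0
  · rw [hY0, bot_inf_eq]; exact bot_le
  set D := ⁅Y, Y⁆ with hD
  have hDY : D ≤ Y := Subgroup.commutator_le_self Y
  have hDlt : Nat.card ↥D < Nat.card ↥Y := by
    haveI : Nontrivial ↥Y := (Subgroup.nontrivial_iff_ne_bot Y).mpr hY0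
    haveI := hYs
    have h1 := Group.IsSolvable.commutator_lt_top_of_nontrivial ↥Y
    refine lt_of_not_ge fun h => h1.ne ?_
    apply Subgroup.map_injective Y.subtype_injective
    rw [Subgroup.map_subtype_commutator, ← MonoidHom.range_eq_map, Subgroup.range_subtype]
    exact Subgroup.eq_of_le_of_card_ge hDY h
  have hAD : A ≤ Subgroup.normalizer (D : Set G) := fun g hg => by
    rw [Subgroup.mem_normalizer_iff_map_conj_eq, hD, Subgroup.map_commutator,
      Subgroup.mem_normalizer_iff_map_conj_eq.1 (hAY hg)]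
  have hDp : (Nat.card ↥D).Coprime p := hYp.coprime_dvd_left (Subgroup.card_dvd_of_le hDY)
  set Z := ⨆ E : {E : Subgroup G // E ≤ A ∧ E.relIndex A ≤ p}, D ⊓ P E with hZ
  -- an invariant subgroup of `D` inside the join of two members lies in `Z`
  have hQ : ∀ E₁ E₂ : {E : Subgroup G // E ≤ A ∧ E.relIndex A ≤ p},
      D ⊓ (P E₁ ⊔ P E₂) ≤ Z := by
    intro E₁ E₂
    have hAQ : A ≤ Subgroup.normalizer ((D ⊓ (P E₁ ⊔ P E₂) : Subgroup G) : Set G) := fun g hg => by
      rw [Subgroup.mem_normalizer_iff_map_conj_eq, Subgroup.map_inf _ _ _ (MulAut.conj g).injective,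
        Subgroup.map_sup, Subgroup.mem_normalizer_iff_map_conj_eq.1 (hAD hg),
        Subgroup.mem_normalizer_iff_map_conj_eq.1 (hPA _ E₁.2.1 E₁.2.2 hg),
        Subgroup.mem_normalizer_iff_map_conj_eq.1 (hPA _ E₂.2.1 E₂.2.2 hg)]
    refine le_trans (PLocal.le_iSup_fixOn_hyperplane hA hAQ
      (hDp.coprime_dvd_left (Subgroup.card_dvd_of_le inf_le_left))) (iSup_le fun B => ?_)
    refine le_trans ?_ (le_iSup (fun E : {E : Subgroup G // E ≤ A ∧ E.relIndex A ≤ p} => D ⊓ P E) B)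
    intro x hx
    rw [PLocal.mem_fixOn] at hx
    exact ⟨hx.1.1, hpair _ E₁.2.1 E₁.2.2 _ E₂.2.1 E₂.2.2 _ B.2.1 B.2.2
      ⟨hx.1.2, Subgroup.mem_centralizer_iff.2 hx.2⟩⟩
  have hDnY : ∀ y ∈ Y, ∀ d ∈ D, y * d * y⁻¹ ∈ D := fun y hy d hd => by
    haveI := Subgroup.commutator_normal (⊤ : Subgroup ↥Y) ⊤
    rw [hD, ← Subgroup.map_subtype_commutator] at hd ⊢
    obtain ⟨d', hd', rfl⟩ := hd
    exact ⟨⟨y, hy⟩ * d' * ⟨y, hy⟩⁻¹, Subgroup.Normal.conj_mem inferInstance d' hd' _, rfl⟩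
  -- `Z` is normalized by `Y`
  have hYZ : Y ≤ Subgroup.normalizer (Z : Set G) := by
    refine hY.trans (iSup_le fun E₁ y hy => ?_)
    rw [Subgroup.mem_normalizer_iff_map_conj_eq]
    refine Subgroup.eq_of_le_of_card_ge ?_ (Subgroup.card_map_of_injective (MulAut.conj y).injective).ge
    rw [hZ, Subgroup.map_iSup]
    refine iSup_le fun E₂ => ?_
    rintro _ ⟨u, hu, rfl⟩
    have h1 : y ∈ P E₁ ⊔ P E₂ := Subgroup.mem_sup_left hy.2
    have h2 : u ∈ P E₁ ⊔ P E₂ := Subgroup.mem_sup_right hu.2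
    exact hQ E₁ E₂ ⟨hDnY y hy.1 u hu.1, mul_mem (mul_mem h1 h2) (Subgroup.inv_mem _ h1)⟩
  -- `D = Z`
  have hDZ : D ≤ Z := by
    have key : ∀ g ∈ Y, (∀ E₂ : {E : Subgroup G // E ≤ A ∧ E.relIndex A ≤ p},
        ∀ z ∈ Y ⊓ P E₂, ⁅g, z⁆ ∈ Z) → ∀ z ∈ Y, ⁅g, z⁆ ∈ Z := by
      intro g _ h z hz
      suffices z ∈ Y ∧ ⁅g, z⁆ ∈ Z from this.2
      refine Subgroup.iSup_induction (fun E : {E : Subgroup G // E ≤ A ∧ E.relIndex A ≤ p} => Y ⊓ P E)
        (C := fun z => z ∈ Y ∧ ⁅g, z⁆ ∈ Z) (hY hz)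
        (fun E₂ z hz => ⟨hz.1, h E₂ z hz⟩) ⟨one_mem _, by simp⟩ ?_
      rintro a b ⟨ha, ha'⟩ ⟨hb, hb'⟩
      refine ⟨mul_mem ha hb, ?_⟩
      have : ⁅g, a * b⁆ = ⁅g, a⁆ * (a * ⁅g, b⁆ * a⁻¹) := by simp only [commutatorElement_def]; group
      rw [this]
      exact mul_mem ha' ((Subgroup.mem_normalizer_iff.1 (hYZ ha) _).1 hb')
    rw [hD, Subgroup.commutator_le]
    intro x hx z hz
    suffices x ∈ Y ∧ ∀ z ∈ Y, ⁅x, z⁆ ∈ Z from this.2 z hz
    refine Subgroup.iSup_induction (fun E : {E : Subgroup G // E ≤ A ∧ E.relIndex A ≤ p} => Y ⊓ P E)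
      (C := fun x => x ∈ Y ∧ ∀ z ∈ Y, ⁅x, z⁆ ∈ Z) (hY hx) ?_
      ⟨one_mem _, fun z _ => by simp⟩ ?_
    · intro E₁ x hx
      refine ⟨hx.1, key x hx.1 fun E₂ z hz => hQ E₁ E₂ ⟨?_, ?_⟩⟩
      · exact Subgroup.commutator_mem_commutator hx.1 hz.1
      · have h1 := Subgroup.mem_sup_left (T := P E₂) hx.2
        have h2 := Subgroup.mem_sup_right (S := P E₁) hz.2
        rw [commutatorElement_def]
        exact mul_mem (mul_mem (mul_mem h1 h2) (Subgroup.inv_mem _ h1)) (Subgroup.inv_mem _ h2)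
    · rintro a b ⟨ha, ha'⟩ ⟨hb, hb'⟩
      refine ⟨mul_mem ha hb, fun z hz => ?_⟩
      have : ⁅a * b, z⁆ = (a * ⁅b, z⁆ * a⁻¹) * ⁅a, z⁆ := by simp only [commutatorElement_def]; group
      rw [this]
      exact mul_mem ((Subgroup.mem_normalizer_iff.1 (hYZ ha) _).1 (hb' z hz)) (ha' z hz)
  haveI := hYs
  have hDs : Group.IsSolvable ↥D :=
    Group.isSolvable_of_isSolvable_injective (Subgroup.inclusion_injective hDY)
  -- averaging over `E` modulo `D`
  let ψ : ↥E → (↥Y →* ↥Y) := fun e => (Y.normalizerMonoidHom ⟨(e : G), hAY (hE e.2)⟩).toMonoidHom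
  let π : ↥Y →* Abelianization ↥Y := Abelianization.of
  have hψ : ∀ (e : ↥E) (y : ↥Y), ((ψ e y : ↥Y) : G) = (e : G) * y * (e : G)⁻¹ := fun e y => rfl
  haveI : Fintype ↥E := Fintype.ofFinite _
  let μ : ↥Y →* Abelianization ↥Y :=
    MonoidHom.mk' (fun y => ∏ e : ↥E, π (ψ e y)) fun a b => by
      simp only [map_mul, Finset.prod_mul_distrib]
  set T := ((Y ⊓ P E).subgroupOf Y).map π with hT
  have hker : ∀ y : ↥Y, π y = 1 → (y : G) ∈ D := fun y h => by
    rw [hD, ← Subgroup.map_subtype_commutator]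
    refine ⟨y, ?_, rfl⟩
    have h1 : y ∈ π.ker := h
    rw [Abelianization.ker_of] at h1
    exact h1
  have hμ : ∀ y : ↥Y, μ y ∈ T := by
    intro y
    have hy' : (y : G) ∈ ⨆ E : {E : Subgroup G // E ≤ A ∧ E.relIndex A ≤ p}, Y ⊓ P E := hY y.2
    suffices ∃ hyY : (y : G) ∈ Y, μ ⟨(y : G), hyY⟩ ∈ T from this.2
    refine Subgroup.iSup_induction (fun E : {E : Subgroup G // E ≤ A ∧ E.relIndex A ≤ p} => Y ⊓ P E)
      (C := fun g => ∃ hyY : g ∈ Y, μ ⟨g, hyY⟩ ∈ T) hy' ?_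
      ⟨one_mem _, by
        have : (⟨(1 : G), one_mem Y⟩ : ↥Y) = 1 := rfl
        rw [this, map_one]; exact one_mem _⟩ ?_
    · intro E₁ g hg
      refine ⟨hg.1, ?_⟩
      have hin : μ ⟨g, hg.1⟩ ∈ ((Y ⊓ P E₁).subgroupOf Y).map π := by
        refine prod_mem fun e _ => Subgroup.mem_map_of_mem π ?_
        rw [Subgroup.mem_subgroupOf, Subgroup.mem_inf, hψ]
        exact ⟨(Subgroup.mem_normalizer_iff.1 (hAY (hE e.2)) g).1 hg.1,
          (Subgroup.mem_normalizer_iff.1 (hPA _ E₁.2.1 E₁.2.2 (hE e.2)) g).1 hg.2⟩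
      obtain ⟨z, hz, hzμ⟩ := hin
      have hfix : ∀ e : ↥E, π (ψ e z) = π z := by
        intro e
        have h1 : π (ψ e z) = Abelianization.map (ψ e) (π z) := (Abelianization.map_of (ψ e) z).symm
        rw [h1, hzμ]
        show Abelianization.map (ψ e) (∏ f : ↥E, π (ψ f ⟨g, hg.1⟩)) = ∏ f : ↥E, π (ψ f ⟨g, hg.1⟩)
        rw [map_prod]
        refine Fintype.prod_equiv (Equiv.mulLeft e) _ _ fun f => ?_
        rw [Abelianization.map_of]
        congr 1
        apply Subtype.ext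
        simp only [hψ, Equiv.coe_mulLeft, Subgroup.coe_mul]
        group
      have hEN : E ≤ Subgroup.normalizer ((D ⊓ P E₁ : Subgroup G) : Set G) := fun e he => by
        rw [Subgroup.mem_normalizer_iff_map_conj_eq, Subgroup.map_inf _ _ _ (MulAut.conj e).injective,
          Subgroup.mem_normalizer_iff_map_conj_eq.1 (hAD (hE he)),
          Subgroup.mem_normalizer_iff_map_conj_eq.1 (hPA _ E₁.2.1 E₁.2.2 (hE he))]
      obtain ⟨m, hm⟩ := IsPGroup.iff_card.1 (PGroups.elemAb_isPGroup hA)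
      have hEp : (Nat.card ↥E).Coprime (Nat.card ↥(D ⊓ P E₁ : Subgroup G)) :=
        ((hDp.coprime_dvd_left (Subgroup.card_dvd_of_le inf_le_left)).pow_right m).symm.coprime_dvd_left
          (hm ▸ Subgroup.card_dvd_of_le hE)
      obtain ⟨d, hd, hdz⟩ := Coprime.exists_fixed_mul hEN hEp
        (Or.inr (Group.isSolvable_of_isSolvable_injective (Subgroup.inclusion_injective inf_le_left)))
        (k := (z : G)) (fun e he => ⟨hker (ψ ⟨e, he⟩ z * z⁻¹)
            (by rw [map_mul, map_inv, hfix, mul_inv_cancel]),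
          mul_mem ((Subgroup.mem_normalizer_iff.1 (hPA _ E₁.2.1 E₁.2.2 (hE he)) _).1 hz.2)
            (Subgroup.inv_mem _ hz.2)⟩)
      have hdzY : d * (z : G) ∈ Y := mul_mem (hDY hd.1) z.2
      refine ⟨⟨d * z, hdzY⟩, ⟨hdzY, hpair _ E₁.2.1 E₁.2.2 _ E₁.2.1 E₁.2.2 _ hE hEi
        ⟨Subgroup.mem_sup_left (mul_mem hd.2 hz.2), hdz⟩⟩, ?_⟩
      have h0 : π ⟨d, hDY hd.1⟩ = 1 := by
        show (⟨d, hDY hd.1⟩ : ↥Y) ∈ π.ker
        rw [Abelianization.ker_of]
        have := hd.1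
        rw [hD, ← Subgroup.map_subtype_commutator] at this
        obtain ⟨d', hd', he⟩ := this
        rwa [show (⟨d, hDY hd.1⟩ : ↥Y) = d' from Subtype.ext he.symm]
      rw [← hzμ, show (⟨d * z, hdzY⟩ : ↥Y) = ⟨d, hDY hd.1⟩ * z from rfl, map_mul, h0, one_mul]
    · rintro a b ⟨ha, ha'⟩ ⟨hb, hb'⟩
      refine ⟨mul_mem ha hb, ?_⟩
      rw [show (⟨a * b, mul_mem ha hb⟩ : ↥Y) = ⟨a, ha⟩ * ⟨b, hb⟩ from rfl, map_mul]
      exact mul_mem ha' hb'
  rintro x ⟨hxY, hxC⟩
  set x' : ↥Y := ⟨x, hxY⟩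
  have hμx : μ x' = π x' ^ Nat.card ↥E := by
    show (∏ e : ↥E, π (ψ e x')) = _
    rw [Nat.card_eq_fintype_card, ← Finset.card_univ, ← Finset.prod_const]
    refine Finset.prod_congr rfl fun e _ => congrArg π (Subtype.ext ?_)
    rw [hψ, Subgroup.mem_centralizer_iff.1 hxC e e.2, mul_inv_cancel_right]
  obtain ⟨m, hm⟩ := IsPGroup.iff_card.1 (PGroups.elemAb_isPGroup hA)
  obtain ⟨s, hs⟩ := exists_pow_eq_self_of_coprime (x := π x')
    (show (Nat.card ↥E).Coprime (orderOf (π x')) from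
      ((hYp.pow_right m).symm.coprime_dvd_left (hm ▸ Subgroup.card_dvd_of_le hE)).coprime_dvd_right
        ((orderOf_map_dvd π x').trans (orderOf_dvd_natCard x')))
  have hxT : π x' ∈ T := by rw [← hs, ← hμx]; exact pow_mem (hμ x') s
  obtain ⟨u, hu, hux⟩ := hxT
  rw [SetLike.mem_coe, Subgroup.mem_subgroupOf] at hu
  have hw : ((u⁻¹ * x' : ↥Y) : G) ∈ D := hker _ (by rw [map_mul, map_inv, hux, inv_mul_cancel])
  have hwC : ((u⁻¹ * x' : ↥Y) : G) ∈ Subgroup.centralizer (E : Set G) :=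
    mul_mem (inv_mem (hPC E hE hEi hu.2)) hxC
  have hw' := IH _ (hn ▸ hDlt) D hDs hDp hAD hDZ hE hEi rfl ⟨hw, hwC⟩
  simpa using mul_mem hu.2 hw'

/-- The signalizer functor attached to a `k`-balanced group (Goldschmidt). -/
theorem isSignalizerFunctor_delta [Finite G] [hp : Fact p.Prime] {k : ℕ}
    (hbal : IsKBalanced p k G) {A : Subgroup G} (hA : IsElementaryAbelian p A)
    (hAk : p ^ (k + 2) ≤ Nat.card ↥A)
    (hsolv : ∀ a ∈ A, a ≠ 1 → Group.IsSolvable ↥(centralizerPPrimeCore p a)) :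
    IsSignalizerFunctor p A (fun a => ⨆ D : {D : Subgroup G // D ≤ A ∧ Nat.card ↥D = p ^ k},
      signalizerDelta p (D : Subgroup G) ⊓ Subgroup.centralizer {a}) := by
  set θ := fun a => ⨆ D : {D : Subgroup G // D ≤ A ∧ Nat.card ↥D = p ^ k},
      signalizerDelta p (D : Subgroup G) ⊓ Subgroup.centralizer {a} with hθ
  have hcomm : ∀ a ∈ A, ∀ b ∈ A, a * b = b * a := fun a ha b hb => PGroups.elemAb_comm hA ha hb
  have hCA : ∀ a ∈ A, A ≤ Subgroup.centralizer ({a} : Set G) := fun a ha b hb =>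
    Subgroup.mem_centralizer_singleton_iff.2 (hcomm b hb a ha)
  have hΔA : ∀ D : Subgroup G, D ≤ A → A ≤ Subgroup.normalizer (signalizerDelta p D : Set G) := by
    intro D hD g hg
    refine Subgroup.mem_normalizer_iff.2 fun x => ?_
    simp only [mem_signalizerDelta]
    exact forall₃_congr fun d hd _ => Subgroup.mem_normalizer_iff.1
      (centralizer_le_normalizer_centralizerPPrimeCore d (hCA d (hD hd) hg)) x
  -- balance of a single value
  have hkey : ∀ D : Subgroup G, D ≤ A → p ^ k ≤ Nat.card ↥D → ∀ a ∈ A, a ≠ 1 →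
      signalizerDelta p D ⊓ Subgroup.centralizer {a} ≤ θ a ∧
      signalizerDelta p D ⊓ Subgroup.centralizer {a} ≤ centralizerPPrimeCore p a := by
    intro D hD hcard a ha ha1
    obtain ⟨D', hD'D, hD'⟩ : ∃ D' : Subgroup G, D' ≤ D ∧ Nat.card ↥D' = p ^ k := by
      obtain ⟨H, hH⟩ := Sylow.exists_subgroup_card_pow_prime_of_le_card hp.out
        ((PGroups.elemAb_isPGroup hA).to_le hD) hcard
      exact ⟨H.map D.subtype, Subgroup.map_subtype_le _, by
        rw [Subgroup.card_map_of_injective D.subtype_injective, hH]⟩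
    refine ⟨le_trans (inf_le_inf_right _ (signalizerDelta_antitone hD'D))
      (le_iSup (fun D : {D : Subgroup G // D ≤ A ∧ Nat.card ↥D = p ^ k} =>
        signalizerDelta p (D : Subgroup G) ⊓ Subgroup.centralizer {a}) ⟨D', hD'D.trans hD, hD'⟩),
      le_trans (inf_le_inf_right _ (signalizerDelta_antitone hD'D)) (hbal D' ?_ hD' a
        (orderOf_eq_prime (hA.2 a ha) ha1) fun d hd => hcomm d (hD (hD'D hd)) a ha)⟩
    exact PGroups.elemAb_mono hA (hD'D.trans hD)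
  have hθM : ∀ a ∈ A, a ≠ 1 → θ a ≤ centralizerPPrimeCore p a := fun a ha ha1 =>
    iSup_le fun D => (hkey _ D.2.1 D.2.2.ge a ha ha1).2
  have hθp : ∀ a ∈ A, a ≠ 1 → ¬ p ∣ Nat.card ↥(θ a) := fun a ha ha1 h =>
    not_dvd_card_centralizerPPrimeCore a (h.trans (Subgroup.card_dvd_of_le (hθM a ha ha1)))
  have hθA : ∀ a ∈ A, A ≤ Subgroup.normalizer (θ a : Set G) := by
    intro a ha g hg
    rw [Subgroup.mem_normalizer_iff_map_conj_eq]
    refine Subgroup.eq_of_le_of_card_ge ?_ (Subgroup.card_map_of_injective (MulAut.conj g).injective).ge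
    rw [hθ, Subgroup.map_iSup]
    refine iSup_mono fun D => ?_
    rw [Subgroup.map_inf _ _ _ (MulAut.conj g).injective,
      Subgroup.mem_normalizer_iff_map_conj_eq.1 (hΔA _ D.2.1 hg),
      Subgroup.mem_normalizer_iff_map_conj_eq.1 (Subgroup.le_normalizer (hCA a ha hg))]
  refine ⟨fun a ha ha1 => iSup_le fun D => inf_le_right, hθp,
    fun a ha _ g hg x hx => (Subgroup.mem_normalizer_iff.1 (hθA a ha hg) x).1 hx, ?_⟩
  intro a ha ha1 b hb hb1
  -- hyperplanes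
  have hcm : ∀ E : Subgroup G, E ≤ A → Nat.card ↥E * E.relIndex A = Nat.card ↥A := fun E hE => by
    have h := (E.subgroupOf A).card_mul_index
    rwa [Nat.card_congr (Subgroup.subgroupOfEquivOfLe hE).toEquiv] at h
  have hcardE : ∀ E : Subgroup G, E ≤ A → E.relIndex A ≤ p → p ^ k ≤ Nat.card ↥E := by
    intro E hE hEi
    have h1 : Nat.card ↥E * E.relIndex A = Nat.card ↥A := hcm E hE
    have h2 := Nat.mul_le_mul_left (Nat.card ↥E) hEi
    rw [h1] at h2
    refine Nat.le_of_mul_le_mul_right ?_ hp.out.pos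
    calc p ^ k * p ≤ p ^ (k + 2) := by
          rw [← pow_succ]; exact Nat.pow_le_pow_right hp.out.pos (by omega)
      _ ≤ _ := hAk
      _ ≤ _ := h2
  have hcardInf : ∀ E F : Subgroup G, E ≤ A → E.relIndex A ≤ p → F.relIndex A ≤ p →
      p ^ k ≤ Nat.card ↥(E ⊓ F : Subgroup G) := by
    intro E F hE hEi hFi
    have h1 : Nat.card ↥(E ⊓ F : Subgroup G) * (E ⊓ F).relIndex A = Nat.card ↥A :=
      hcm _ (inf_le_left.trans hE)
    have h3 : (E ⊓ F).relIndex A ≤ p * p := (Subgroup.relIndex_inf_le).trans (Nat.mul_le_mul hEi hFi)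
    refine Nat.le_of_mul_le_mul_right ?_ (Nat.mul_pos hp.out.pos hp.out.pos)
    calc p ^ k * (p * p) = p ^ (k + 2) := by rw [pow_add, pow_two]
      _ ≤ _ := hAk
      _ = _ := h1.symm
      _ ≤ _ := Nat.mul_le_mul_left _ h3
  set P := fun E : Subgroup G =>
    signalizerDelta p E ⊓ Subgroup.centralizer (E : Set G) ⊓ Subgroup.centralizer {a} with hP
  have hPA : ∀ E, E ≤ A → E.relIndex A ≤ p → A ≤ Subgroup.normalizer (P E : Set G) := by
    intro E hE _ g hg
    have hgE : g ∈ Subgroup.centralizer (E : Set G) :=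
      Subgroup.mem_centralizer_iff.2 fun e he => hcomm e (hE he) g hg
    rw [Subgroup.mem_normalizer_iff_map_conj_eq, hP,
      Subgroup.map_inf _ _ _ (MulAut.conj g).injective, Subgroup.map_inf _ _ _ (MulAut.conj g).injective,
      Subgroup.mem_normalizer_iff_map_conj_eq.1 (hΔA _ hE hg),
      Subgroup.mem_normalizer_iff_map_conj_eq.1 (Subgroup.le_normalizer hgE),
      Subgroup.mem_normalizer_iff_map_conj_eq.1 (Subgroup.le_normalizer (hCA a ha hg))]
  have hpair : ∀ E₁, E₁ ≤ A → E₁.relIndex A ≤ p → ∀ E₂, E₂ ≤ A → E₂.relIndex A ≤ p →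
      ∀ E, E ≤ A → E.relIndex A ≤ p →
        (P E₁ ⊔ P E₂) ⊓ Subgroup.centralizer (E : Set G) ≤ P E := by
    intro E₁ hE₁ hi₁ E₂ hE₂ hi₂ E hE _ x hx
    obtain ⟨hx12, hxE⟩ := hx
    have h1 : P E₁ ⊔ P E₂ ≤ signalizerDelta p (E₁ ⊓ E₂) ⊓ Subgroup.centralizer {a} :=
      sup_le (le_inf ((inf_le_left.trans inf_le_left).trans (signalizerDelta_antitone inf_le_left))
          inf_le_right)
        (le_inf ((inf_le_left.trans inf_le_left).trans (signalizerDelta_antitone inf_le_right))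
          inf_le_right)
    refine ⟨⟨mem_signalizerDelta.2 fun e he he1 =>
      (hkey _ (inf_le_left.trans hE₁) (hcardInf _ _ hE₁ hi₁ hi₂) e (hE he) he1).2
        ⟨(h1 hx12).1, ?_⟩, hxE⟩, (h1 hx12).2⟩
    exact Subgroup.mem_centralizer_singleton_iff.2 (Subgroup.mem_centralizer_iff.1 hxE e he).symm
  have hθP : θ a ≤ ⨆ E : {E : Subgroup G // E ≤ A ∧ E.relIndex A ≤ p}, θ a ⊓ P E := by
    refine iSup_le fun D => ?_
    set K := signalizerDelta p (D : Subgroup G) ⊓ Subgroup.centralizer {a} with hK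
    have hKθ : K ≤ θ a := (hkey _ D.2.1 D.2.2.ge a ha ha1).1
    have hAK : A ≤ Subgroup.normalizer (K : Set G) := fun g hg => by
      rw [Subgroup.mem_normalizer_iff_map_conj_eq, hK,
        Subgroup.map_inf _ _ _ (MulAut.conj g).injective,
        Subgroup.mem_normalizer_iff_map_conj_eq.1 (hΔA _ D.2.1 hg),
        Subgroup.mem_normalizer_iff_map_conj_eq.1 (Subgroup.le_normalizer (hCA a ha hg))]
    refine le_trans (PLocal.le_iSup_fixOn_hyperplane hA hAK
      (hp.out.coprime_iff_not_dvd.2 fun h =>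
        hθp a ha ha1 (h.trans (Subgroup.card_dvd_of_le hKθ))).symm) (iSup_mono fun E x hx => ?_)
    rw [PLocal.mem_fixOn] at hx
    refine ⟨hKθ hx.1, ⟨mem_signalizerDelta.2 fun e he he1 =>
      (hkey _ D.2.1 D.2.2.ge e (E.2.1 he) he1).2 ⟨hx.1.1, ?_⟩, Subgroup.mem_centralizer_iff.2 hx.2⟩,
      hx.1.2⟩
    exact Subgroup.mem_centralizer_singleton_iff.2 (hx.2 e he).symm
  haveI := hsolv a ha ha1
  have hθs : Group.IsSolvable ↥(θ a) :=
    Group.isSolvable_of_isSolvable_injective (Subgroup.inclusion_injective (hθM a ha ha1))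
  have hθco : (Nat.card ↥(θ a)).Coprime p := (hp.out.coprime_iff_not_dvd.2 (hθp a ha ha1)).symm
  set W := θ a ⊓ Subgroup.centralizer {b} with hW
  have hAW : A ≤ Subgroup.normalizer (W : Set G) := fun g hg => by
    rw [Subgroup.mem_normalizer_iff_map_conj_eq, hW,
      Subgroup.map_inf _ _ _ (MulAut.conj g).injective,
      Subgroup.mem_normalizer_iff_map_conj_eq.1 (hθA a ha hg),
      Subgroup.mem_normalizer_iff_map_conj_eq.1 (Subgroup.le_normalizer (hCA b hb hg))]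
  refine le_trans (PLocal.le_iSup_fixOn_hyperplane hA hAW
    (hθco.coprime_dvd_left (Subgroup.card_dvd_of_le inf_le_left))) (iSup_le fun E x hx => ?_)
  rw [PLocal.mem_fixOn] at hx
  have hxP : x ∈ P E := inf_centralizer_le_of_pairs hA P hPA
    (fun E _ _ => inf_le_left.trans inf_le_right) hpair (θ a) hθs hθco (hθA a ha) hθP E.2.1 E.2.2
    ⟨hx.1.1, Subgroup.mem_centralizer_iff.2 hx.2⟩
  exact (hkey _ E.2.1 (hcardE _ E.2.1 E.2.2) b hb hb1).1 ⟨hxP.1.1, hx.1.2⟩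

end Cfsg.Agent.Lib.Balance
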