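import Cfsg.Agent.Lib.Balance.PLayer

/-!
# Balance from the structure of centralizers

Owner: helper33. Namespace `Cfsg.Agent.Lib.Balance`.
* `balance_of_pLayer_eq_bot`: trivial `p`-layer of `C(b)` gives `O_{p'}(C a) ∩ C(b) ≤ O_{p'}(C b)`;
* `pLayer_eq_bot_of_isSolvable`.
-/

set_option autoImplicit false
set_option linter.style.haveILetI false
open Cfsg

namespace Cfsg.Agent.Lib.Balance

variable {G : Type*} [Group G] {p : ℕ}

/-- A finite solvable group has trivial `p`-layer. -/
theorem pLayer_eq_bot_of_isSolvable [Finite G] [Group.IsSolvable G] : pLayer p G = ⊥ := by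
  refine sSup_eq_bot.2 fun K hK => ?_
  exfalso
  haveI : Group.IsSolvable (G ⧸ pPrimeCore p G) :=
    Group.isSolvable_of_surjective (QuotientGroup.mk'_surjective (pPrimeCore p G))
  exact Components.Component.not_isSolvable hK.2.1 inferInstance

theorem centralizer_normalizes_inf {x : G} {C : Subgroup G} :
    Subgroup.centralizer ({x} : Set G) ⊓ C ≤
      Subgroup.normalizer ((centralizerPPrimeCore p x ⊓ C : Subgroup G) : Set G) := by
  intro g hg
  have h1 := Subgroup.mem_normalizer_iff.1 (centralizer_le_normalizer_centralizerPPrimeCore (p := p) x hg.1)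
  have h2 := Subgroup.mem_normalizer_iff.1 (Subgroup.le_normalizer hg.2 : g ∈ Subgroup.normalizer (C : Set G))
  exact Subgroup.mem_normalizer_iff.2 fun y => by rw [Subgroup.mem_inf, Subgroup.mem_inf, ← h1 y, ← h2 y]

/-- If `C(b)` has trivial `p`-layer, then `O_{p'}(C a) ∩ C(b) ≤ O_{p'}(C b)`. -/
theorem balance_of_pLayer_eq_bot [Finite G] [hp : Fact p.Prime] {a b : G} (ha : orderOf a = p)
    (hab : a * b = b * a) (h : pLayer p ↥(Subgroup.centralizer ({b} : Set G)) = ⊥) :
    centralizerPPrimeCore p a ⊓ Subgroup.centralizer ({b} : Set G) ≤ centralizerPPrimeCore p b := by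
  set C := Subgroup.centralizer ({b} : Set G) with hC
  have haC : a ∈ C := Subgroup.mem_centralizer_singleton_iff.2 hab
  set P := Subgroup.zpowers (⟨a, haC⟩ : ↥C) with hP
  have hPp : IsPGroup p ↥P := IsPGroup.of_card (n := 1) (by
    rw [hP, Nat.card_zpowers, ← Subgroup.orderOf_coe, ha, pow_one])
  rintro y ⟨hya, hyb⟩
  have hW : (centralizerPPrimeCore p a).subgroupOf C ≤ coreIn p (Subgroup.centralizer (P : Set ↥C)) := by
    have hcP : Subgroup.centralizer (P : Set ↥C) = Subgroup.centralizer ({⟨a, haC⟩} : Set ↥C) := by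
      rw [hP, Subgroup.zpowers_eq_closure, Subgroup.centralizer_closure]
    rw [hcP]
    refine le_coreIn ?_ ?_ ?_
    · intro z hz
      exact Subgroup.mem_centralizer_singleton_iff.2
        (Subtype.ext (Subgroup.mem_centralizer_singleton_iff.1 (centralizerPPrimeCore_le a hz)))
    · intro z hz
      have h1 : (z : G) ∈ Subgroup.centralizer ({a} : Set G) :=
        Subgroup.mem_centralizer_singleton_iff.2
          (congrArg Subtype.val (Subgroup.mem_centralizer_singleton_iff.1 hz))
      exact Subgroup.mem_normalizer_iff.2 fun w => Subgroup.mem_normalizer_iff.1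
        (centralizer_le_normalizer_centralizerPPrimeCore a h1) (w : G)
    · refine (coreIn_coprime (p := p) (Subgroup.centralizer ({a} : Set G))).coprime_dvd_left ?_
      rw [← Subgroup.card_map_of_injective (f := C.subtype) C.subtype_injective,
        Subgroup.subgroupOf_map_subtype]
      exact Subgroup.card_dvd_of_le inf_le_left
  have hle : coreIn p (Subgroup.centralizer (P : Set ↥C)) ≤ pPrimeCore p ↥C :=
    (coreIn_le_coreIn (Subgroup.centralizer_le_normalizer _)
      ((Subgroup.normal_subgroupOf_iff_le_normalizer (Subgroup.centralizer_le_normalizer _)).1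
        (Subgroup.normal_subgroupOf_centralizer_normalizer _))).trans (pLayer_eq_bot_local h hPp).2
  exact ⟨⟨y, hyb⟩, hle (hW (show (⟨y, hyb⟩ : ↥C) ∈ (centralizerPPrimeCore p a).subgroupOf C from hya)), rfl⟩

end Cfsg.Agent.Lib.Balance
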