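import Cfsg.Agent.Lib.Fusion.Alperin
import Cfsg.Agent.Lib.ZStar.Elements
import Mathlib.GroupTheory.Transfer
import Mathlib.GroupTheory.SemidirectProduct

/-!
# Perfect groups of automorphisms fixing a Sylow 2-subgroup have odd order

Owner: helper33. Namespace `Cfsg.Agent.Lib.Balance.Fixing`.
For a finite group `G` without nontrivial normal subgroup of odd order, `card_odd_of_perfect` deduces from
the theorem on isolated involutions that a perfect group of automorphisms fixing a Sylow 2-subgroup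
elementwise has odd order. An involution `u` of such a group fixes a set of elements controlling the
fusion in `S` (Alperin), hence is isolated in `G⟨u⟩`.
-/

set_option autoImplicit false
set_option linter.style.haveILetI false

namespace Cfsg.Agent.Lib.Balance.Fixing

open Cfsg.Agent.Lib.Fusion.Alperin
open Cfsg.Agent.Lib.ZStar.Elements (InvolutionThm)

universe u

variable {G : Type u} [Group G] [Finite G]

/-- `g` agrees on `A` with an element fixed by `α`. -/
def Agrees (α : MulAut G) (A : Subgroup G) (g : G) : Prop :=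
  ∃ g' : G, α g' = g' ∧ ∀ a ∈ A, g' * a * g'⁻¹ = g * a * g⁻¹

omit [Finite G] in
/-- A square root of `k` in `⟨k⟩` adjusts `n` to a fixed element. -/
theorem exists_fixed_adjust {α : MulAut G} (hα : α * α = 1) {n k : G} (hn : α n = n * k)
    (hk : Odd (orderOf k)) : ∃ j ∈ Subgroup.zpowers k, α (n * j) = n * j := by
  have h2 : α (α n) = n := by rw [← MulAut.mul_apply, hα]; rfl
  rw [hn, map_mul, hn, mul_assoc] at h2
  have hαk : α k = k⁻¹ := eq_inv_of_mul_eq_one_right (mul_eq_left.1 h2)
  obtain ⟨m, hm⟩ := hk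
  refine ⟨k ^ (m + 1), pow_mem (Subgroup.mem_zpowers k) _, ?_⟩
  have hsq : k ^ (m + 1) * k ^ (m + 1) = k := by
    rw [← pow_add, show m + 1 + (m + 1) = orderOf k + 1 by omega, pow_succ, pow_orderOf_eq_one,
      one_mul]
  rw [map_mul, hn, map_pow, hαk, inv_pow, mul_assoc]
  congr 1
  rw [mul_inv_eq_iff_eq_mul, hsq]

/-- A perfect group of automorphisms fixing `W` pointwise, `W` containing a Sylow 2-subgroup of its
centralizer, moves an element of `N(W)` by elements of odd order centralizing `W`. -/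
theorem delta_odd {R : Subgroup (MulAut G)} (hR : ⁅R, R⁆ = R) {W : Subgroup G}
    (hfix : ∀ r ∈ R, ∀ w ∈ W, r w = w) (hWp : IsPGroup 2 ↥W)
    (hmax : ∀ U : Subgroup G, IsPGroup 2 ↥U → U ≤ Subgroup.centralizer (W : Set G) →
      W ⊓ Subgroup.centralizer (W : Set G) ≤ U → U ≤ W)
    {n : G} (hn : n ∈ Subgroup.normalizer (W : Set G)) {r : MulAut G} (hr : r ∈ R) :
    Odd (orderOf (n⁻¹ * r n)) ∧ n⁻¹ * r n ∈ Subgroup.centralizer (W : Set G) := by
  set C := Subgroup.centralizer (W : Set G) with hC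
  have hδC : ∀ s ∈ R, n⁻¹ * s n ∈ C := by
    intro s hs
    refine Subgroup.mem_centralizer_iff.2 fun w hw => ?_
    have hw' : n * w * n⁻¹ ∈ W := (Subgroup.mem_normalizer_iff.1 hn w).1 hw
    have h := hfix s hs _ hw'
    rw [map_mul, map_mul, map_inv, hfix s hs w hw] at h
    calc w * (n⁻¹ * s n) = n⁻¹ * (n * w * n⁻¹) * s n := by group
      _ = n⁻¹ * (s n * w * (s n)⁻¹) * s n := by rw [h]
      _ = n⁻¹ * s n * w := by group
  refine ⟨?_, hδC r hr⟩
  have hRC : ∀ s ∈ R, ∀ c ∈ C, s c ∈ C := by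
    intro s hs c hc
    refine Subgroup.mem_centralizer_iff.2 fun w hw => ?_
    have h := congrArg s (Subgroup.mem_centralizer_iff.1 hc w hw)
    rwa [map_mul, map_mul, hfix s hs w hw] at h
  -- the central Sylow subgroup of `C`
  let T : Sylow 2 ↥C :=
    { toSubgroup := W.subgroupOf C
      isPGroup' := hWp.comap_of_injective _ C.subtype_injective
      is_maximal' := fun {U} hU hle => by
        refine le_antisymm (fun x hx => ?_) hle
        exact hmax (U.map C.subtype) (hU.map _) (Subgroup.map_subtype_le _)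
          (fun y hy => ⟨⟨y, hy.2⟩, hle hy.1, rfl⟩) (Subgroup.mem_map_of_mem C.subtype hx) }
  have hcen : ∀ t ∈ (T : Subgroup ↥C), ∀ c : ↥C, t * c = c * t := fun t ht c =>
    Subtype.ext (Subgroup.mem_centralizer_iff.1 c.2 t ht)
  have hT : Subgroup.normalizer ((T : Subgroup ↥C) : Set ↥C) ≤ Subgroup.centralizer (T : Subgroup ↥C) :=
    fun c _ => Subgroup.mem_centralizer_iff.2 fun t ht => hcen t ht c
  haveI : IsMulCommutative ↥(T : Subgroup ↥C) :=
    ⟨⟨fun a b => Subtype.ext (hcen a a.2 b)⟩⟩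
  set φ := MonoidHom.transferSylow T hT with hφ
  have hker : ∀ k ∈ φ.ker, Odd (orderOf k) := fun k hk => by
    rw [Nat.odd_iff, ← Nat.two_dvd_ne_zero]
    exact fun h => MonoidHom.not_dvd_card_ker_transferSylow T hT
      (h.trans (Subgroup.orderOf_dvd_natCard _ hk))
  have hodd1 : ∀ k : ↥C, Odd (orderOf k) → φ k = 1 := fun k hk => by
    rw [← orderOf_eq_one_iff]
    obtain ⟨i, hi⟩ := T.2.exists_card_eq
    exact Nat.eq_one_of_dvd_coprimes (Nat.Coprime.pow_left i (Nat.coprime_two_left.mpr hk))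
      (hi ▸ orderOf_dvd_natCard (φ k)) (orderOf_map_dvd φ k)
  have hinv : ∀ s ∈ R, ∀ (c : ↥C) (c' : ↥C), (c' : G) = s c → φ c' = φ c := by
    intro s hs c c' hc'
    -- `φ` is onto, already on `T`
    obtain ⟨t, ht, htc⟩ : ∃ t ∈ (T : Subgroup ↥C), φ t = φ c := by
      obtain ⟨z, hz⟩ := (powCoprime (G := ↥(T : Subgroup ↥C)) (n := (T : Subgroup ↥C).index)
        T.card_coprime_index).surjective (φ c)
      refine ⟨z, z.2, Subtype.ext ?_⟩
      rw [hφ, MonoidHom.transferSylow_eq_pow T hT _ z.2]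
      exact congrArg Subtype.val hz
    have hk : Odd (orderOf (t⁻¹ * c)) := hker _ (by rw [MonoidHom.mem_ker, map_mul, map_inv, htc, inv_mul_cancel])
    let k' : ↥C := ⟨s ((t⁻¹ * c : ↥C) : G), hRC s hs _ (t⁻¹ * c).2⟩
    have hord : orderOf k' = orderOf (t⁻¹ * c) := by
      rw [← Subgroup.orderOf_coe, ← Subgroup.orderOf_coe (t⁻¹ * c)]
      exact MulEquiv.orderOf_eq s _
    have he : c' = t * k' := by
      apply Subtype.ext
      show (c' : G) = (t : G) * s ((t⁻¹ * c : ↥C) : G)
      rw [hc', Subgroup.coe_mul, Subgroup.coe_inv, map_mul, map_inv, hfix s hs (t : G) ht,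
        mul_inv_cancel_left]
    rw [he, map_mul, hodd1 k' (hord ▸ hk), mul_one, htc]
  let ψ : ↥R →* ↥(T : Subgroup ↥C) :=
    MonoidHom.mk' (fun s => φ ⟨n⁻¹ * (s : MulAut G) n, hδC _ s.2⟩) fun s t => by
      rw [← hinv s s.2 ⟨n⁻¹ * (t : MulAut G) n, hδC _ t.2⟩
        ⟨(s : MulAut G) (n⁻¹ * (t : MulAut G) n), hRC _ s.2 _ (hδC _ t.2)⟩ rfl, ← map_mul]
      congr 1
      apply Subtype.ext
      show n⁻¹ * (s : MulAut G) ((t : MulAut G) n) =
        n⁻¹ * (s : MulAut G) n * (s : MulAut G) (n⁻¹ * (t : MulAut G) n)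
      rw [map_mul, map_inv]; group
  have hψ : ∀ s : ↥R, ψ s = 1 := by
    intro s
    have hle : _root_.commutator ↥R ≤ ψ.ker := by
      rw [_root_.commutator_def, Subgroup.commutator_le]
      intro a _ b _
      rw [MonoidHom.mem_ker, map_commutatorElement, commutatorElement_eq_one_iff_mul_comm]
      exact IsMulCommutative.is_comm.comm _ _
    haveI : Group.IsPerfect ↥R := Subgroup.isPerfect_iff.2 hR
    exact hle ((Group.IsPerfect.commutator_eq_top (G := ↥R)) ▸ Subgroup.mem_top s)
  have h := hker ⟨n⁻¹ * r n, hδC r hr⟩ (hψ ⟨r, hr⟩)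
  rwa [← Subgroup.orderOf_coe] at h

variable {S : Sylow 2 G} {R : Subgroup (MulAut G)} {α : MulAut G}

/-- The fixed points of an involution of `R` control the fusion in `S`. -/
theorem agrees_of_base (hR : ⁅R, R⁆ = R) (hfix : ∀ r ∈ R, ∀ s ∈ S, r s = s) (hαR : α ∈ R)
    (hα : α * α = 1) : ∀ (d : ℕ) (B : Subgroup G), Nat.card ↥(S : Subgroup G) ≤ d + Nat.card ↥B →
      IsFusionBase 2 (S : Subgroup G) B → ∀ n ∈ Subgroup.normalizer (B : Set G), Agrees α B n := by
  intro d
  induction d using Nat.strong_induction_on with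
  | _ d IH =>
  intro B hd hB n hn
  obtain ⟨hBS, hfn, -⟩ := hB
  set C := Subgroup.centralizer (B : Set G) with hC
  set N := Subgroup.normalizer (B : Set G) with hN
  set Q := (S : Subgroup G) ⊓ C with hQ
  have hCN : C ≤ N := Subgroup.centralizer_le_normalizer _
  have hQmax : ∀ U : Subgroup G, IsPGroup 2 ↥U → U ≤ C → Q ≤ U → U = Q := by
    intro U hU hUC hQU
    obtain ⟨m, hm, hle⟩ := exists_conj_le_of_maximal (S.2.to_le inf_le_left)
      (inf_le_right (a := (S : Subgroup G))) hfn hU (hUC.trans hCN)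
    have hmC : conjS m U ≤ C := by
      rintro _ ⟨x, hx, rfl⟩
      refine Subgroup.mem_centralizer_iff.2 fun b hb => ?_
      have hb' : m⁻¹ * b * m ∈ B := by
        simpa using (Subgroup.mem_normalizer_iff.1 (inv_mem hm) b).1 hb
      have h := Subgroup.mem_centralizer_iff.1 (hUC hx) _ hb'
      show b * (m * x * m⁻¹) = m * x * m⁻¹ * b
      calc b * (m * x * m⁻¹) = m * (m⁻¹ * b * m * x) * m⁻¹ := by group
        _ = m * (x * (m⁻¹ * b * m)) * m⁻¹ := by rw [h]
        _ = _ := by group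
    refine (Subgroup.eq_of_le_of_card_ge hQU ?_).symm
    rw [← card_conjS m U]
    exact Subgroup.card_le_of_le (le_inf (hle.trans inf_le_left) hmC)
  by_cases hQB : Q ≤ B
  · -- `B` contains a Sylow subgroup of its centralizer
    obtain ⟨hodd, hkC⟩ := delta_odd hR (fun r hr w hw => hfix r hr w (hBS hw)) (S.2.to_le hBS)
      (fun U hU hUC hle => by
        rw [hQmax U hU hUC ((le_inf hQB inf_le_right).trans hle)]; exact hQB) hn hαR
    obtain ⟨j, hj, hjfix⟩ := exists_fixed_adjust hα (n := n) (k := n⁻¹ * α n) (by group) hodd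
    refine ⟨n * j, hjfix, fun a ha => ?_⟩
    have hjC : j ∈ C := (Subgroup.zpowers_le.2 hkC) hj
    calc n * j * a * (n * j)⁻¹ = n * (j * a) * j⁻¹ * n⁻¹ := by group
      _ = n * (a * j) * j⁻¹ * n⁻¹ := by rw [Subgroup.mem_centralizer_iff.1 hjC a ha]
      _ = _ := by group
  · -- pass to `B Q`
    have hQn : IsPGroup 2 ↥(conjS n Q) := (S.2.to_le inf_le_left).map _
    have hnQC : conjS n Q ≤ C := by
      rintro _ ⟨x, hx, rfl⟩
      refine Subgroup.mem_centralizer_iff.2 fun b hb => ?_
      have hb' : n⁻¹ * b * n ∈ B := by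
        simpa using (Subgroup.mem_normalizer_iff.1 (inv_mem hn) b).1 hb
      have h := Subgroup.mem_centralizer_iff.1 hx.2 _ hb'
      show b * (n * x * n⁻¹) = n * x * n⁻¹ * b
      calc b * (n * x * n⁻¹) = n * (n⁻¹ * b * n * x) * n⁻¹ := by group
        _ = n * (x * (n⁻¹ * b * n)) * n⁻¹ := by rw [h]
        _ = _ := by group
    obtain ⟨c, hc, hcQ⟩ := exists_conj_le_of_maximal (S.2.to_le inf_le_left)
      (inf_le_right (a := (S : Subgroup G))) hQmax hQn hnQC
    set A := B ⊔ Q with hA
    have hAS : A ≤ (S : Subgroup G) := sup_le hBS inf_le_left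
    have hcn : conjS (c * n) A ≤ (S : Subgroup G) := by
      rw [hA, conjS, Subgroup.map_sup]
      refine sup_le ?_ ?_
      · have h1 : c * n ∈ N := mul_mem (hCN hc) hn
        exact (conjS_eq_of_mem_normalizer h1).le.trans hBS
      · show conjS (c * n) Q ≤ _
        rw [conjS_mul]; exact hcQ.trans inf_le_left
    have hlt : Nat.card ↥B < Nat.card ↥A := lt_of_not_ge fun h => hQB
      (le_sup_right.trans (Subgroup.eq_of_le_of_card_ge (le_sup_left : B ≤ A) h).ge)
    have hAS' := Subgroup.card_le_of_le hAS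
    have key : ∀ (A' : Subgroup G) (g : G), FusionChain 2 (S : Subgroup G) A' g →
        Nat.card ↥B < Nat.card ↥A' → Agrees α A' g := by
      intro A' g hg
      induction hg with
      | @base A' R' m hR' hAR' hm =>
        intro hlt'
        have hle' := Subgroup.card_le_of_le hAR'
        have hR'S := Subgroup.card_le_of_le hR'.1
        obtain ⟨g', h1, h2⟩ := IH (Nat.card ↥(S : Subgroup G) - Nat.card ↥R') (by omega) R'
          (by omega) hR' m hm
        exact ⟨g', h1, fun a ha => h2 a (hAR' ha)⟩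
      | @comp A' g₁ g₂ _ _ ih₁ ih₂ =>
        intro hlt'
        obtain ⟨x, hx1, hx2⟩ := ih₁ hlt'
        obtain ⟨y, hy1, hy2⟩ := ih₂ (by rwa [card_conjS])
        refine ⟨y * x, by rw [map_mul, hy1, hx1], fun a ha => ?_⟩
        have := hy2 _ (conj_mem_conjS ha)
        rw [← hx2 a ha] at this
        calc y * x * a * (y * x)⁻¹ = y * (x * a * x⁻¹) * y⁻¹ := by group
          _ = g₂ * (x * a * x⁻¹) * g₂⁻¹ := this
          _ = g₂ * (g₁ * a * g₁⁻¹) * g₂⁻¹ := by rw [hx2 a ha]
          _ = _ := by group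
    obtain ⟨g', h1, h2⟩ := key A (c * n) (alperin S A (c * n) hAS hcn) hlt
    refine ⟨g', h1, fun b hb => ?_⟩
    rw [h2 b (Subgroup.mem_sup_left hb)]
    have hnb : n * b * n⁻¹ ∈ B := (Subgroup.mem_normalizer_iff.1 hn b).1 hb
    calc c * n * b * (c * n)⁻¹ = c * (n * b * n⁻¹) * c⁻¹ := by group
      _ = n * b * n⁻¹ := by rw [← Subgroup.mem_centralizer_iff.1 hc _ hnb, mul_inv_cancel_right]

theorem agrees_of_conj_le (hR : ⁅R, R⁆ = R) (hfix : ∀ r ∈ R, ∀ s ∈ S, r s = s) (hαR : α ∈ R)
    (hα : α * α = 1) (A : Subgroup G) (g : G) (hA : A ≤ (S : Subgroup G))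
    (hg : conjS g A ≤ (S : Subgroup G)) : Agrees α A g := by
  have h := alperin S A g hA hg
  clear hA hg
  induction h with
  | @base A R' m hR' hAR' hm =>
    obtain ⟨g', h1, h2⟩ := agrees_of_base hR hfix hαR hα _ R' (Nat.le_add_right _ _) hR' m hm
    exact ⟨g', h1, fun a ha => h2 a (hAR' ha)⟩
  | @comp A g₁ g₂ _ _ ih₁ ih₂ =>
    obtain ⟨x, hx1, hx2⟩ := ih₁
    obtain ⟨y, hy1, hy2⟩ := ih₂
    refine ⟨y * x, by rw [map_mul, hy1, hx1], fun a ha => ?_⟩
    calc y * x * a * (y * x)⁻¹ = y * (x * a * x⁻¹) * y⁻¹ := by group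
      _ = y * (g₁ * a * g₁⁻¹) * y⁻¹ := by rw [hx2 a ha]
      _ = g₂ * (g₁ * a * g₁⁻¹) * g₂⁻¹ := hy2 _ (conj_mem_conjS ha)
      _ = _ := by group

/-- The involution is isolated: no conjugate in `S⟨α⟩` other than itself. -/
theorem eq_of_mul_mem (hR : ⁅R, R⁆ = R) (hfix : ∀ r ∈ R, ∀ s ∈ S, r s = s) (hαR : α ∈ R)
    (hα : α * α = 1) {g : G} (hx : g * (α g)⁻¹ ∈ S) : g * (α g)⁻¹ = 1 := by
  have hfixS : ∀ s ∈ (S : Subgroup G), α s = s := fun s hs => hfix α hαR s hs
  have hinvo : ∀ g : G, g * (α g)⁻¹ ∈ S → (g * (α g)⁻¹) * (g * (α g)⁻¹) = 1 := by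
    intro g hg
    have h := hfixS _ hg
    rw [map_mul, map_inv, ← MulAut.mul_apply, hα, MulAut.one_apply] at h
    calc (g * (α g)⁻¹) * (g * (α g)⁻¹) = (g * (α g)⁻¹) * (α g * g⁻¹) := by rw [h]
      _ = 1 := by group
  set x := g * (α g)⁻¹ with hxdef
  -- a conjugate with maximal centralizer
  obtain ⟨k, hkA, -, hkfn⟩ := exists_fullyNormalized S (Subgroup.zpowers x) (Subgroup.zpowers_le.2 hx)
  obtain ⟨k', hk', hk'x⟩ := agrees_of_conj_le hR hfix hαR hα _ k (Subgroup.zpowers_le.2 hx) hkA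
  have hx1 : k * x * k⁻¹ = k' * g * (α (k' * g))⁻¹ := by
    rw [← hk'x x (Subgroup.mem_zpowers x), hxdef, map_mul, hk']; group
  suffices hy : k * x * k⁻¹ = 1 by simpa using hy
  set g₁ := k' * g with hg₁
  set y := k * x * k⁻¹ with hy
  have hyS : y ∈ S := hkA (conj_mem_conjS (Subgroup.mem_zpowers x))
  have hy2 : y * y = 1 := by rw [hx1]; exact hinvo g₁ (hx1 ▸ hyS)
  have hyconj : conjS k (Subgroup.zpowers x) = Subgroup.zpowers y := by
    rw [conjS, MonoidHom.map_zpowers]; rfl
  rw [hyconj] at hkfn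
  set Cy := Subgroup.centralizer ({y} : Set G) with hCy
  have hNC : Subgroup.normalizer (Subgroup.zpowers y : Set G) = Cy := by
    refine le_antisymm (fun m hm => ?_) ?_
    · have h := (Subgroup.mem_normalizer_iff.1 hm y).1 (Subgroup.mem_zpowers y)
      rw [hCy, Subgroup.mem_centralizer_singleton_iff]
      obtain ⟨i, hi⟩ := Subgroup.mem_zpowers_iff.1 h
      have hy2' : y ^ (2 : ℤ) = 1 := by rw [zpow_two]; exact hy2
      rcases Int.even_or_odd i with ⟨j, rfl⟩ | ⟨j, rfl⟩
      · rw [← two_mul, zpow_mul, hy2', one_zpow] at hi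
        have hy1 : y = 1 := by
          have := congrArg (fun z => m⁻¹ * z * m) hi
          simpa [mul_assoc] using this.symm
        simp [hy1]
      · rw [zpow_add, zpow_mul, hy2', one_zpow, one_mul, zpow_one] at hi
        exact (eq_mul_inv_iff_mul_eq.1 hi).symm
    · rw [hCy, Subgroup.zpowers_eq_closure, ← Subgroup.centralizer_closure]
      exact Subgroup.centralizer_le_normalizer _
  set W := (S : Subgroup G) ⊓ Cy with hW
  have hWmax : ∀ U : Subgroup G, IsPGroup 2 ↥U → U ≤ Cy → W ≤ U → U = W := by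
    intro U hU hUC hWU
    have := hkfn U hU (hNC ▸ hUC) (hNC ▸ hWU)
    rw [hNC] at this
    exact this
  -- the fixed points of `α`
  let F : Subgroup G :=
    { carrier := {h | α h = h}
      one_mem' := map_one α
      mul_mem' := fun {a b} ha hb => by
        show α (a * b) = a * b
        rw [map_mul, show α a = a from ha, show α b = b from hb]
      inv_mem' := fun {a} ha => by
        show α a⁻¹ = a⁻¹
        rw [map_inv, show α a = a from ha] }
  have hSF : (S : Subgroup G) ≤ F := hfixS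
  have hWF : conjS g₁⁻¹ W ≤ F := by
    rintro _ ⟨w, hw, rfl⟩
    show α (g₁⁻¹ * w * g₁⁻¹⁻¹) = g₁⁻¹ * w * g₁⁻¹⁻¹
    have hαg : α g₁ = y⁻¹ * g₁ := by rw [hx1]; group
    have hwy : w * y = y * w := Subgroup.mem_centralizer_singleton_iff.1 hw.2
    rw [map_mul, map_mul, map_inv, map_inv, map_inv, hfixS w hw.1, hαg]
    calc (y⁻¹ * g₁)⁻¹ * w * (y⁻¹ * g₁)⁻¹⁻¹ = g₁⁻¹ * (y * w) * y⁻¹ * g₁ := by group
      _ = g₁⁻¹ * (w * y) * y⁻¹ * g₁ := by rw [hwy]
      _ = _ := by group
  obtain ⟨c, hc, hcW⟩ := exists_conj_le_of_maximal S.2 hSF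
    (fun U hU _ hle => S.3 hU hle) ((S.2.to_le inf_le_left).map _) hWF
  obtain ⟨h, hh, hhW⟩ := agrees_of_conj_le hR hfix hαR hα W (c * g₁⁻¹) inf_le_left (by
    rw [conjS_mul]; exact hcW)
  set e := g₁ * c⁻¹ * h with he
  have hey : e * (α e)⁻¹ = y := by
    have hc' : α c⁻¹ = c⁻¹ := by rw [map_inv, show α c = c from hc]
    rw [he, map_mul, map_mul, hh, hc', hx1]; group
  have heW : e ∈ Subgroup.centralizer (W : Set G) := by
    refine Subgroup.mem_centralizer_iff.2 fun w hw => ?_
    have h1 := hhW w hw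
    calc w * e = g₁ * c⁻¹ * (c * g₁⁻¹ * w * (c * g₁⁻¹)⁻¹) * h := by rw [he]; group
      _ = g₁ * c⁻¹ * (h * w * h⁻¹) * h := by rw [h1]
      _ = e * w := by rw [he]; group
  have hyW : y ∈ W := ⟨hyS, Subgroup.mem_centralizer_singleton_iff.2 rfl⟩
  obtain ⟨hodd, -⟩ := delta_odd (W := W) hR (fun r hr w hw => hfix r hr w hw.1) (S.2.to_le inf_le_left)
    (fun U hU hUC hle u hu => by
      have hWn : IsPGroup 2 ↥(U ⊔ W : Subgroup G) := hU.to_sup_of_normal_right' (S.2.to_le inf_le_left)
        (hUC.trans (Subgroup.centralizer_le_normalizer _))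
      have hUy : U ≤ Cy := hUC.trans (Subgroup.centralizer_le (Set.singleton_subset_iff.2 hyW))
      rw [← hWmax _ hWn (sup_le hUy inf_le_right) le_sup_right]
      exact Subgroup.mem_sup_left hu)
    (Subgroup.centralizer_le_normalizer _ heW) hαR
  have hδ : e⁻¹ * α e = y⁻¹ := by
    have h1 : y * e = e * y := Subgroup.mem_centralizer_iff.1 heW y hyW
    have h2 : α e = y⁻¹ * e := by rw [← hey]; group
    rw [h2]
    calc e⁻¹ * (y⁻¹ * e) = y⁻¹ * (y * e⁻¹ * y⁻¹ * e) := by group
      _ = y⁻¹ * (y * e⁻¹ * y⁻¹ * (e * y) * y⁻¹) := by group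
      _ = _ := by rw [← h1]; group
  rw [hδ, orderOf_inv] at hodd
  have hdvd : orderOf y ∣ 2 := orderOf_dvd_of_pow_eq_one (by rw [pow_two]; exact hy2)
  rcases (Nat.dvd_prime Nat.prime_two).1 hdvd with h1 | h1
  · exact orderOf_eq_one_iff.1 h1
  · rw [h1] at hodd; exact absurd hodd (by decide)

/-- A perfect group of automorphisms fixing a Sylow 2-subgroup elementwise has odd order. -/
theorem card_odd_of_perfect (hZ : InvolutionThm.{u})
    (hO : ∀ N : Subgroup G, N.Normal → Odd (Nat.card N) → N = ⊥) (S : Sylow 2 G)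
    (R : Subgroup (MulAut G)) (hR : ⁅R, R⁆ = R) (hfix : ∀ r ∈ R, ∀ s ∈ S, r s = s) :
    Odd (Nat.card ↥R) := by
  by_contra hev
  rw [Nat.not_odd_iff_even, even_iff_two_dvd] at hev
  haveI : Finite (MulAut G) := Finite.of_injective (fun φ : MulAut G => (φ : G → G)) DFunLike.coe_injective
  obtain ⟨⟨α, hαR⟩, hord⟩ := exists_prime_orderOf_dvd_card' (G := ↥R) 2 hev
  rw [Subgroup.orderOf_mk] at hord
  have hα : α * α = 1 := by rw [← pow_two, ← hord, pow_orderOf_eq_one]
  set A := Subgroup.zpowers α with hA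
  haveI : Finite (SemidirectProduct G A A.subtype) := Finite.of_equiv _ SemidirectProduct.equivProd.symm
  let a : A := ⟨α, Subgroup.mem_zpowers α⟩
  have ha : orderOf a = 2 := by rw [← Subgroup.orderOf_coe]; exact hord
  have hAcard : Nat.card A = 2 := by rw [hA, Nat.card_zpowers, hord]
  let t : (SemidirectProduct G A A.subtype) := SemidirectProduct.inr a
  have ht : orderOf t = 2 :=
    (orderOf_injective (SemidirectProduct.inr : A →* (SemidirectProduct G A A.subtype)) SemidirectProduct.inr_injective a).trans ha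
  -- the Sylow subgroup `S × A`
  have hcomm : ∀ (s : (S : Subgroup G)) (b : A),
      Commute ((SemidirectProduct.inl : G →* (SemidirectProduct G A A.subtype)).comp (S : Subgroup G).subtype s)
        ((SemidirectProduct.inr : A →* (SemidirectProduct G A A.subtype)) b) := by
    intro s b
    have hb : (b : MulAut G) (s : G) = s :=
      hfix b (Subgroup.zpowers_le.2 hαR b.2) s s.2
    refine SemidirectProduct.ext ?_ ?_
    · simp [hb]
    · simp
  let f : ↥(S : Subgroup G) × ↥A →* (SemidirectProduct G A A.subtype) := MonoidHom.noncommCoprod _ _ hcomm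
  have hf : ∀ s b, f (s, b) = SemidirectProduct.inl (s : G) * SemidirectProduct.inr b := fun s b => rfl
  have hfinj : Function.Injective f := by
    intro x y h
    obtain ⟨s, b⟩ := x
    obtain ⟨s', b'⟩ := y
    rw [hf, hf] at h
    have h1 := congrArg SemidirectProduct.left h
    have h2 := congrArg SemidirectProduct.right h
    simp at h1 h2
    exact Prod.ext h1 h2
  have hQcard : Nat.card f.range = 2 ^ (Nat.card (SemidirectProduct G A A.subtype)).factorization 2 := by
    rw [Nat.card_congr (MonoidHom.ofInjective hfinj).toEquiv.symm, Nat.card_prod,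
      SemidirectProduct.card, Nat.factorization_mul Nat.card_pos.ne' Nat.card_pos.ne',
      Finsupp.add_apply, pow_add, S.card_eq_multiplicity, hAcard,
      Nat.prime_two.factorization_self, pow_one]
  let T : Sylow 2 (SemidirectProduct G A A.subtype) := Sylow.ofCard f.range hQcard
  have hTmem : ∀ h : (SemidirectProduct G A A.subtype), h ∈ T ↔ h ∈ f.range := fun h => by
    rw [← SetLike.mem_coe, ← Sylow.coe_ofCard f.range hQcard]; rfl
  have htT : t ∈ T := (hTmem t).2 ⟨(1, a), by rw [hf]; simp [t]⟩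
  have hiso : ∀ h : (SemidirectProduct G A A.subtype), h * t * h⁻¹ ∈ T → h * t * h⁻¹ = t := by
    intro h hh
    have hdec : h = SemidirectProduct.inl h.left * SemidirectProduct.inr h.right :=
      (SemidirectProduct.inl_left_mul_inr_right h).symm
    have hab : h.right * a * h.right⁻¹ = a := by
      obtain ⟨i, hi⟩ := Subgroup.mem_zpowers_iff.1 h.right.2
      apply Subtype.ext
      show (h.right : MulAut G) * α * (h.right : MulAut G)⁻¹ = α
      rw [← hi]
      group
    have hconj : h * t * h⁻¹ = SemidirectProduct.inl (h.left * (α h.left)⁻¹) * t := by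
      refine SemidirectProduct.ext ?_ ?_
      · simp [t, a]
        have h2 : ((h.right : A) : MulAut G) * α * ((h.right : A) : MulAut G)⁻¹ = α :=
          congrArg Subtype.val hab
        exact congrArg (fun φ : MulAut G => φ h.left) h2
      · simp [t, hab]
    rw [hconj] at hh ⊢
    obtain ⟨⟨s, b⟩, hsb⟩ := (hTmem _).1 hh
    rw [hf] at hsb
    have h1 := congrArg SemidirectProduct.left hsb
    simp [t] at h1
    have := eq_of_mul_mem hR hfix hαR hα (g := h.left) (h1 ▸ s.2)
    rw [this, map_one, one_mul]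
  obtain ⟨N, hN, hNodd, hNc⟩ := hZ (SemidirectProduct G A A.subtype) T t ht htT hiso
  have hker : N ≤ (SemidirectProduct.rightHom : (SemidirectProduct G A A.subtype) →* A).ker := by
    intro x hx
    rw [MonoidHom.mem_ker, ← orderOf_eq_one_iff]
    refine Nat.eq_one_of_dvd_coprimes (Nat.coprime_two_left.mpr hNodd)
      (hAcard ▸ orderOf_dvd_natCard _) ((orderOf_map_dvd _ x).trans (Subgroup.orderOf_dvd_natCard N hx))
  rw [← SemidirectProduct.range_inl_eq_ker_rightHom] at hker
  have hN' : Odd (Nat.card ↥(N.comap (SemidirectProduct.inl : G →* (SemidirectProduct G A A.subtype)))) :=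
    Odd.of_dvd_nat hNodd (by
      rw [Nat.card_congr ((N.comap (SemidirectProduct.inl : G →* (SemidirectProduct G A A.subtype))).equivMapOfInjective
        (SemidirectProduct.inl : G →* (SemidirectProduct G A A.subtype))
        (SemidirectProduct.inl_injective (φ := A.subtype))).toEquiv]
      exact Subgroup.card_dvd_of_le (Subgroup.map_comap_le (SemidirectProduct.inl : G →* (SemidirectProduct G A A.subtype)) N))
  have hbot := hO _ (hN.comap _) hN'
  have htriv : ∀ g : G, α g = g := by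
    intro g
    have h := hNc (SemidirectProduct.inl g)
    obtain ⟨z, hz⟩ := hker h
    have hz1 : z ∈ N.comap (SemidirectProduct.inl : G →* (SemidirectProduct G A A.subtype)) := by
      show SemidirectProduct.inl z ∈ N
      rw [hz]; exact h
    rw [hbot, Subgroup.mem_bot] at hz1
    rw [hz1, map_one] at hz
    have h1 := congrArg SemidirectProduct.left hz
    simp [t, a] at h1
    exact mul_inv_eq_one.1 h1.symm
  have : α = 1 := MulEquiv.ext htriv
  rw [this, orderOf_one] at hord
  exact absurd hord (by decide)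

end Cfsg.Agent.Lib.Balance.Fixing
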