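import Cfsg.Agent.Lib.Balance.LBalance
import Cfsg.Agent.Lib.Balance.FixingPerfect

/-!
# `L`-balance for the prime 2 from the theorem on isolated involutions

Owner: helper33. Namespace `Cfsg.Agent.Lib.Balance`.
* `fixingPerfect_two`: a group with trivial odd core satisfies `FixingPerfect 2`;
* `twoLayer_centralizer_le`: `L_{2'}(C_X(T)) ≤ L_{2'}(X)` for 2-subgroups `T`.
Both take the theorem on isolated involutions as hypothesis.
-/

set_option autoImplicit false
open Cfsg

namespace Cfsg.Agent.Lib.Balance

universe u

theorem fixingPerfect_two (hZ : ZStar.Elements.InvolutionThm.{u}) {G : Type u} [Group G] [Finite G]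
    (hO : pPrimeCore 2 G = ⊥) : FixingPerfect 2 G := by
  intro S R hR hfix
  refine Nat.coprime_two_right.2 (Fixing.card_odd_of_perfect hZ (fun N hN hodd => ?_) S R hR hfix)
  exact le_bot_iff.1 (hO ▸ Cores.le_pPrimeCore (Nat.coprime_two_right.2 hodd))

theorem twoLayer_centralizer_le (hZ : ZStar.Elements.InvolutionThm.{u}) {X : Type u} [Group X]
    [Finite X] {T : Subgroup X} (hT : IsPGroup 2 ↥T) :
    (pLayer 2 ↥(Subgroup.centralizer (T : Set X))).map (Subgroup.centralizer (T : Set X)).subtype ≤
      pLayer 2 X :=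
  pLayer_centralizer_le (fixingPerfect_two hZ pPrimeCore_generalizedFitting_quotient) hT

end Cfsg.Agent.Lib.Balance
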