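import Cfsg.Agent.Lib.Balance.Functor
import Cfsg.Agent.Lib.Balance.Permute
import Cfsg.Agent.Lib.Coprime.Generation
import Cfsg.Agent.Lib.PGroups.ElemAb
import Cfsg.Prelude.Def_Balance

/-!
# Equivariant balanced functors on a group with connected rank-two commuting graph

Owner: helper33. Namespace `Cfsg.Agent.Lib.Balance`.
* `HasCompleteness`: the conclusion of the solvable signalizer functor theorem, as a property of `(G, p)`;
* `functor_eq_bot_of_connected`, `fitting_centralizer_of_connected`.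
-/

set_option autoImplicit false
set_option linter.style.haveILetI false
open Cfsg

namespace Cfsg.Agent.Lib.Balance

variable {G : Type*} [Group G] {p : ℕ}

/-- The conclusion of the solvable signalizer functor theorem for `G` and `p`. -/
def HasCompleteness (p : ℕ) (G : Type*) [Group G] : Prop :=
  ∀ (A : Subgroup G), IsElementaryAbelian p A → p ^ 3 ≤ Nat.card ↥A → ∀ θ : G → Subgroup G,
    IsSolvableSignalizerFunctor p A θ →
    ¬ p ∣ Nat.card ↥(⨆ a : {a : G // a ∈ A ∧ a ≠ 1}, θ a) ∧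
      ∀ a ∈ A, a ≠ 1 → (⨆ b : {a : G // a ∈ A ∧ a ≠ 1}, θ b) ⊓ Subgroup.centralizer {a} = θ a

/-- The subgroup generated by the values on `E`. -/
def valueSup (θ : G → Subgroup G) (E : Subgroup G) : Subgroup G :=
  ⨆ a : {a : G // a ∈ E ∧ a ≠ 1}, θ a

theorem not_pRankLE_of_elemAb {E C : Subgroup G} (hE : IsElementaryAbelian p E) (hEC : E ≤ C)
    {k : ℕ} (hcard : p ^ k < Nat.card ↥E) : ¬ PRankLE p k ↥C := by
  intro h
  have h1 := PGroups.elemAb_subgroupOf hE C
  have := h (E.subgroupOf C) h1.1 h1.2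
  rw [Nat.card_congr (Subgroup.subgroupOfEquivOfLe hEC).toEquiv] at this
  omega

/-- An element of order `p` with centralizer of rank at least `k + 1` lies in such a subgroup. -/
theorem exists_elemAb_of_not_pRankLE [Finite G] [hp : Fact p.Prime] {k : ℕ} {E : Subgroup G}
    (hE : IsElementaryAbelian p E) (h : ¬ PRankLE p k ↥(Subgroup.centralizer (E : Set G))) :
    ∃ B : Subgroup G, IsElementaryAbelian p B ∧ E ≤ B ∧ p ^ (k + 1) ≤ Nat.card ↥B := by
  set C := Subgroup.centralizer (E : Set G)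
  unfold PRankLE at h
  push Not at h
  obtain ⟨F, hFc, hF, hcard⟩ := h
  have hF' : IsElementaryAbelian p (F.map C.subtype) := PGroups.elemAb_map C.subtype ⟨hFc, hF⟩
  have hB : IsElementaryAbelian p (E ⊔ F.map C.subtype) := PGroups.elemAb_sup hE hF' (by
    intro a ha b hb
    exact Subgroup.mem_centralizer_iff.1 (Subgroup.map_subtype_le F hb) a ha)
  refine ⟨_, hB, le_sup_left, ?_⟩
  have hlt : p ^ k < Nat.card ↥(E ⊔ F.map C.subtype : Subgroup G) := hcard.trans_le (by
    rw [← Subgroup.card_map_of_injective C.subtype_injective]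
    exact Subgroup.card_le_of_le le_sup_right)
  obtain ⟨m, hm⟩ := IsPGroup.iff_card.1 (PGroups.elemAb_isPGroup hB)
  rw [hm] at hlt ⊢
  exact Nat.pow_le_pow_right hp.out.pos ((Nat.pow_lt_pow_iff_right hp.out.one_lt).1 hlt)

theorem functor_eq_bot_of_connected [Finite G] [hp : Fact p.Prime] (hS : HasCompleteness p G)
    (hO : pPrimeCore p G = ⊥) (hrk : ¬ PRankLE p 2 G) (hconn : IsRankGraphConnected p 2 G)
    (θ : G → Subgroup G)
    (hC : ∀ a : G, (orderOf a = p ∧ ¬ PRankLE p 2 ↥(Subgroup.centralizer ({a} : Set G))) →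
      θ a ≤ Subgroup.centralizer ({a} : Set G) ∧ ¬ p ∣ Nat.card ↥(θ a) ∧ Group.IsSolvable ↥(θ a))
    (heq : ∀ a g : G, (orderOf a = p ∧ ¬ PRankLE p 2 ↥(Subgroup.centralizer ({a} : Set G))) →
      θ (g * a * g⁻¹) = (θ a).map (MulAut.conj g).toMonoidHom)
    (hbal : ∀ a b : G, (orderOf a = p ∧ ¬ PRankLE p 2 ↥(Subgroup.centralizer ({a} : Set G))) →
      (orderOf b = p ∧ ¬ PRankLE p 2 ↥(Subgroup.centralizer ({b} : Set G))) →
      a * b = b * a → θ a ⊓ Subgroup.centralizer {b} ≤ θ b) (a : G)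
    (ha : (orderOf a = p ∧ ¬ PRankLE p 2 ↥(Subgroup.centralizer ({a} : Set G)))) : θ a = ⊥ := by
  have hgood : ∀ B : Subgroup G, IsElementaryAbelian p B → p ^ 3 ≤ Nat.card ↥B → ∀ b ∈ B, b ≠ 1 →
      (orderOf b = p ∧ ¬ PRankLE p 2 ↥(Subgroup.centralizer ({b} : Set G))) := by
    intro B hB h3 b hb hb1
    refine ⟨PGroups.elemAb_orderOf hB hb hb1, not_pRankLE_of_elemAb hB (fun x hx =>
      Subgroup.mem_centralizer_singleton_iff.2 (PGroups.elemAb_comm hB hx hb)) ?_⟩
    exact lt_of_lt_of_le (Nat.pow_lt_pow_right hp.out.one_lt (by norm_num)) h3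
  have hfun : ∀ B : Subgroup G, IsElementaryAbelian p B → p ^ 3 ≤ Nat.card ↥B →
      IsSolvableSignalizerFunctor p B θ := by
    intro B hB h3
    refine ⟨⟨fun b hb hb1 => (hC b (hgood B hB h3 b hb hb1)).1,
      fun b hb hb1 => (hC b (hgood B hB h3 b hb hb1)).2.1, fun b hb hb1 c hc x hx => ?_,
      fun b hb hb1 c hc hc1 => hbal b c (hgood B hB h3 b hb hb1) (hgood B hB h3 c hc hc1)
        (PGroups.elemAb_comm hB hb hc)⟩, fun b hb hb1 => (hC b (hgood B hB h3 b hb hb1)).2.2⟩
    have h := heq b c (hgood B hB h3 b hb hb1)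
    rw [PGroups.elemAb_comm hB hc hb, mul_inv_cancel_right] at h
    rw [h]
    exact ⟨x, hx, rfl⟩
  -- the value on `E` equals the value on an overgroup of rank at least three
  have hkey : ∀ E B : Subgroup G, IsElementaryAbelian p B → p ^ 3 ≤ Nat.card ↥B → E ≤ B →
      p ^ 2 ≤ Nat.card ↥E → valueSup θ E = valueSup θ B ∧ ¬ p ∣ Nat.card ↥(valueSup θ B) := by
    intro E B hB h3 hEB h2
    obtain ⟨hW, hWC⟩ := hS B hB h3 θ (hfun B hB h3)
    refine ⟨le_antisymm (iSup_le fun e =>
      le_iSup (fun a : {a : G // a ∈ B ∧ a ≠ 1} => θ a) ⟨e, hEB e.2.1, e.2.2⟩) ?_, hW⟩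
    have hE := PGroups.elemAb_mono hB hEB
    haveI := hE.1
    have hncyc : ¬ IsCyclic ↥E := by
      intro hcyc
      have := Nat.le_of_dvd hp.out.pos (PGroups.elemAb_card_dvd_of_isCyclic hE)
      have h4 : p < p ^ 2 := by rw [pow_two]; exact lt_mul_of_one_lt_right hp.out.pos hp.out.one_lt
      omega
    have hEW : E ≤ Subgroup.normalizer ((valueSup θ B : Subgroup G) : Set G) := by
      intro g hg
      rw [Subgroup.mem_normalizer_iff_map_conj_eq]
      refine Subgroup.eq_of_le_of_card_ge ?_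
        (Subgroup.card_map_of_injective (MulAut.conj g).injective).ge
      rw [valueSup, Subgroup.map_iSup]
      refine iSup_mono fun b => ?_
      rintro _ ⟨x, hx, rfl⟩
      exact (hfun B hB h3).1.2.2.1 b b.2.1 b.2.2 g (hEB hg) x hx
    obtain ⟨m, hm⟩ := IsPGroup.iff_card.1 (PGroups.elemAb_isPGroup hE)
    have hcop : (Nat.card ↥E).Coprime (Nat.card ↥(valueSup θ B)) := by
      rw [hm]; exact (hp.out.coprime_iff_not_dvd.2 hW).pow_left m
    rw [← Coprime.iSup_centralizer_eq hncyc hEW hcop]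
    refine iSup₂_le fun e he => ?_
    show valueSup θ B ⊓ _ ≤ _
    rw [valueSup, hWC e (hEB he.1) he.2]
    exact le_iSup (fun a : {a : G // a ∈ E ∧ a ≠ 1} => θ a) ⟨e, he.1, he.2⟩
  have hedge : ∀ E E' : Subgroup G, IsRankGraphVertex p 2 E → IsRankGraphVertex p 2 E' →
      (∀ x ∈ E, ∀ y ∈ E', x * y = y * x) → valueSup θ E = valueSup θ E' := by
    intro E E' hE hE' hcomm
    have hs : IsElementaryAbelian p (E ⊔ E') := PGroups.elemAb_sup hE.1 hE'.1 hcomm
    by_cases h3 : p ^ 3 ≤ Nat.card ↥(E ⊔ E' : Subgroup G)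
    · rw [(hkey E _ hs h3 le_sup_left hE.2.1).1, (hkey E' _ hs h3 le_sup_right hE'.2.1).1]
    · obtain ⟨m, hm⟩ := IsPGroup.iff_card.1 (PGroups.elemAb_isPGroup hs)
      have hle : Nat.card ↥(E ⊔ E' : Subgroup G) ≤ p ^ 2 := by
        rw [hm] at h3 ⊢
        refine Nat.pow_le_pow_right hp.out.pos ?_
        by_contra hm2
        exact h3 (Nat.pow_le_pow_right hp.out.pos (by omega))
      have e1 : E = E ⊔ E' := Subgroup.eq_of_le_of_card_ge le_sup_left (hle.trans hE.2.1)
      have e2 : E' = E ⊔ E' := Subgroup.eq_of_le_of_card_ge le_sup_right (hle.trans hE'.2.1)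
      rw [e1.trans e2.symm]
  have hconst : ∀ E E' : Subgroup G, IsRankGraphVertex p 2 E → IsRankGraphVertex p 2 E' →
      valueSup θ E = valueSup θ E' := by
    intro E E' hE hE'
    have h := hconn E E' hE hE'
    clear hE hE'
    induction h with
    | refl => rfl
    | tail _ h ih => exact ih.trans (hedge _ _ h.1 h.2.1 h.2.2)
  have hvertex : ∀ B : Subgroup G, IsElementaryAbelian p B → p ^ 3 ≤ Nat.card ↥B →
      IsRankGraphVertex p 2 B := fun B hB h3 =>
    ⟨hB, le_trans (Nat.pow_le_pow_right hp.out.pos (by norm_num)) h3,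
      not_pRankLE_of_elemAb hB (fun x hx => Subgroup.mem_centralizer_iff.2 fun y hy =>
        PGroups.elemAb_comm hB hy hx) (lt_of_lt_of_le (Nat.pow_lt_pow_right hp.out.one_lt (by norm_num)) h3)⟩
  obtain ⟨B, hB, haB, hB3⟩ := exists_elemAb_of_not_pRankLE
    (PGroups.elemAb_zpowers (p := p) (x := a) (by rw [← ha.1]; exact pow_orderOf_eq_one a))
    (k := 2) (by rw [Subgroup.zpowers_eq_closure, Subgroup.centralizer_closure]; exact ha.2)
  have hW := (hkey B B hB hB3 le_rfl (le_trans (Nat.pow_le_pow_right hp.out.pos (by norm_num)) hB3)).2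
  haveI : (valueSup θ B).Normal := by
    rw [← Subgroup.normalizer_eq_top_iff, eq_top_iff]
    intro g _
    rw [Subgroup.mem_normalizer_iff_map_conj_eq]
    refine Subgroup.eq_of_le_of_card_ge ?_ (Subgroup.card_map_of_injective (MulAut.conj g).injective).ge
    set B' := B.map (MulAut.conj g).toMonoidHom with hB'
    have hB'e : IsElementaryAbelian p B' := PGroups.elemAb_conj g hB
    have hB'3 : p ^ 3 ≤ Nat.card ↥B' := by
      rw [hB', Subgroup.card_map_of_injective (MulAut.conj g).injective]; exact hB3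
    refine le_trans ?_ (hconst B' B (hvertex _ hB'e hB'3) (hvertex _ hB hB3)).le
    rw [valueSup, Subgroup.map_iSup]
    refine iSup_le fun b => ?_
    have h := heq b g (hgood B hB hB3 b b.2.1 b.2.2)
    refine le_trans h.ge (le_iSup (fun a : {a : G // a ∈ B' ∧ a ≠ 1} => θ a)
      ⟨g * b * g⁻¹, ⟨b, b.2.1, rfl⟩, fun h1 => b.2.2 (by simpa using h1)⟩)
  have hbot : valueSup θ B ≤ ⊥ := hO ▸ Cores.le_pPrimeCore_of_not_dvd hW
  exact le_bot_iff.1 (le_trans (le_iSup (fun b : {b : G // b ∈ B ∧ b ≠ 1} => θ b)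
    ⟨a, haB (Subgroup.mem_zpowers a), fun h => hp.out.ne_one (by rw [← ha.1, h, orderOf_one])⟩) hbot)

theorem fitting_centralizer_of_connected [Finite G] [hp : Fact p.Prime] (hS : HasCompleteness p G)
    (hO : pPrimeCore p G = ⊥) (hrk : ¬ PRankLE p 2 G) (hconn : IsRankGraphConnected p 2 G)
    (hL : ∀ a : G, (orderOf a = p ∧ ¬ PRankLE p 2 ↥(Subgroup.centralizer ({a} : Set G))) →
      pLayer p ↥(Subgroup.centralizer ({a} : Set G)) = ⊥ ∧
        Group.IsSolvable ↥(centralizerPPrimeCore p a))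
    (a : G) (ha : (orderOf a = p ∧ ¬ PRankLE p 2 ↥(Subgroup.centralizer ({a} : Set G)))) :
    generalizedFittingSubgroup ↥(Subgroup.centralizer ({a} : Set G)) =
      pCore p ↥(Subgroup.centralizer ({a} : Set G)) := by
  have h0 := functor_eq_bot_of_connected hS hO hrk hconn (fun x => centralizerPPrimeCore p x)
    (fun b hb => ⟨centralizerPPrimeCore_le b, not_dvd_card_centralizerPPrimeCore b, (hL b hb).2⟩)
    (fun b g _ => centralizerPPrimeCore_conj g b)
    (fun b c hb hc hbc => balance_of_pLayer_eq_bot hb.1 hbc (hL c hc).1) a ha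
  set C := Subgroup.centralizer ({a} : Set G)
  have hcore : pPrimeCore p ↥C = ⊥ := by
    rw [centralizerPPrimeCore_eq, coreIn] at h0
    exact (Subgroup.map_eq_bot_iff_of_injective _ C.subtype_injective).1 h0
  refine le_antisymm (sup_le ?_ ?_) ((Cores.pCore_le_fittingSubgroup p).trans le_sup_right)
  · have h1 := generalizedFitting_quotient (hL a ha).1
    have e : ↥C ⧸ pPrimeCore p ↥C ≃* ↥C :=
      (QuotientGroup.quotientMulEquivOfEq hcore).trans QuotientGroup.quotientBot
    rw [← Components.Layer.map_layer e, ← Cores.map_pCore_equiv e]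
    exact Subgroup.map_mono (le_sup_left.trans h1.le)
  · rw [fitting_eq_pCore hcore]

end Cfsg.Agent.Lib.Balance
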