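import Cfsg.Agent.Lib.Balance.Permute
import Cfsg.Agent.Lib.Balance.Locals
import Cfsg.Agent.Lib.PLocal.CoprimeGen
import Cfsg.Agent.Lib.Coprime.Glauberman
import Cfsg.Agent.Lib.PSolvable.HallHigman

/-!
# Coprime action and hyperplanes: two lemmas for the transitivity theorem

Owner: helper33. Namespace `Cfsg.Agent.Lib.Balance`.
* `exists_hyperplane_not_le`: a proper invariant subgroup misses some hyperplane centralizer;
* `exists_common_not_le`: the key lemma of the transitivity theorem;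
* `le_pPrimeCore_of_commutator`: `U ≤ O_{q'}(K)` from the commutators `[U, C_K(B)]`.
-/

set_option autoImplicit false
set_option linter.style.haveILetI false
open Cfsg
open scoped commutatorElement

namespace Cfsg.Agent.Lib.Balance

variable {G : Type*} [Group G] [Finite G] {p : ℕ} [hp : Fact p.Prime]

theorem exists_hyperplane_not_le {A K D : Subgroup G} (hA : IsElementaryAbelian p A)
    (hAK : A ≤ Subgroup.normalizer (K : Set G)) (hK : (Nat.card ↥K).Coprime p) (hKD : ¬ K ≤ D) :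
    ∃ B : Subgroup G, B ≤ A ∧ B.relIndex A ≤ p ∧
      ¬ K ⊓ Subgroup.centralizer (B : Set G) ≤ D := by
  by_contra h
  push Not at h
  refine hKD (le_trans (PLocal.le_iSup_fixOn_hyperplane hA hAK hK) (iSup_le fun B x hx => ?_))
  rw [PLocal.mem_fixOn] at hx
  exact h B B.2.1 B.2.2 ⟨hx.1, Subgroup.mem_centralizer_iff.2 hx.2⟩

theorem lt_normalizer_inf {q : ℕ} [Fact q.Prime] {Q D : Subgroup G} (hQ : IsPGroup q ↥Q)
    (hDQ : D ≤ Q) (hne : D ≠ Q) : ¬ Subgroup.normalizer (D : Set G) ⊓ Q ≤ D := by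
  intro hle
  haveI : Group.IsNilpotent ↥Q := hQ.isNilpotent
  have hlt : D.subgroupOf Q < ⊤ := lt_of_le_of_ne le_top fun h =>
    hne (le_antisymm hDQ (Subgroup.subgroupOf_eq_top.mp h))
  refine absurd ?_ (not_le_of_gt (Group.normalizerCondition_of_isNilpotent (G := ↥Q) _ hlt))
  intro x hx
  refine hle ⟨?_, x.2⟩
  have h3 := Subgroup.le_normalizer_map Q.subtype (Subgroup.mem_map_of_mem Q.subtype hx)
  rwa [Subgroup.map_subgroupOf_eq_of_le hDQ] at h3

/-- The key lemma of the transitivity theorem. -/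
theorem exists_common_not_le {A Q₁ Q₂ : Subgroup G} (hA : IsElementaryAbelian p A)
    (hA3 : p ^ 3 ≤ Nat.card ↥A) {q : ℕ} [hq : Fact q.Prime] (hqp : q ≠ p) (h₁ : IsPGroup q ↥Q₁)
    (h₂ : IsPGroup q ↥Q₂) (hA₁ : A ≤ Subgroup.normalizer (Q₁ : Set G))
    (hA₂ : A ≤ Subgroup.normalizer (Q₂ : Set G)) (hD₁ : Q₁ ⊓ Q₂ ≠ Q₁) (hD₂ : Q₁ ⊓ Q₂ ≠ Q₂) :
    ∃ a ∈ A, a ≠ 1 ∧
      ¬ Subgroup.normalizer ((Q₁ ⊓ Q₂ : Subgroup G) : Set G) ⊓ Q₁ ⊓ Subgroup.centralizer {a}
        ≤ Q₁ ⊓ Q₂ ∧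
      ¬ Subgroup.normalizer ((Q₁ ⊓ Q₂ : Subgroup G) : Set G) ⊓ Q₂ ⊓ Subgroup.centralizer {a}
        ≤ Q₁ ⊓ Q₂ := by
  set D := Q₁ ⊓ Q₂ with hD
  set N := Subgroup.normalizer (D : Set G) with hN
  have hAD : A ≤ N := fun g hg => by
    rw [hN, Subgroup.mem_normalizer_iff_map_conj_eq, hD,
      Subgroup.map_inf _ _ _ (MulAut.conj g).injective,
      Subgroup.mem_normalizer_iff_map_conj_eq.1 (hA₁ hg),
      Subgroup.mem_normalizer_iff_map_conj_eq.1 (hA₂ hg)]
  have key : ∀ Q : Subgroup G, IsPGroup q ↥Q → A ≤ Subgroup.normalizer (Q : Set G) → D ≤ Q →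
      D ≠ Q → ∃ B : Subgroup G, B ≤ A ∧ B.relIndex A ≤ p ∧
        ¬ (N ⊓ Q) ⊓ Subgroup.centralizer (B : Set G) ≤ D := by
    intro Q hQ hAQ hDQ hne
    refine exists_hyperplane_not_le hA (fun g hg => ?_) ?_ (lt_normalizer_inf hQ hDQ hne)
    · rw [Subgroup.mem_normalizer_iff_map_conj_eq, Subgroup.map_inf _ _ _ (MulAut.conj g).injective,
        Subgroup.mem_normalizer_iff_map_conj_eq.1 (hAQ hg),
        Subgroup.mem_normalizer_iff_map_conj_eq.1 (Subgroup.le_normalizer (hAD hg))]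
    · obtain ⟨m, hm⟩ := IsPGroup.iff_card.1 (hQ.to_le (inf_le_right : N ⊓ Q ≤ Q))
      rw [hm]
      exact Nat.Coprime.pow_left m ((Nat.coprime_primes hq.out hp.out).2 hqp)
  obtain ⟨B₁, hB₁, hi₁, hn₁⟩ := key Q₁ h₁ hA₁ inf_le_left hD₁
  obtain ⟨B₂, hB₂, hi₂, hn₂⟩ := key Q₂ h₂ hA₂ inf_le_right hD₂
  have hcard : 1 < Nat.card ↥(B₁ ⊓ B₂ : Subgroup G) := by
    have h := ((B₁ ⊓ B₂).subgroupOf A).card_mul_index
    rw [Nat.card_congr (Subgroup.subgroupOfEquivOfLe (inf_le_left.trans hB₁)).toEquiv] at h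
    have h2 : (B₁ ⊓ B₂).relIndex A ≤ p * p := Subgroup.relIndex_inf_le.trans (Nat.mul_le_mul hi₁ hi₂)
    by_contra hle
    push Not at hle
    have h3 := Nat.mul_le_mul hle h2
    rw [one_mul, show (B₁ ⊓ B₂).relIndex A = ((B₁ ⊓ B₂).subgroupOf A).index from rfl, h] at h3
    have h4 : p * p < p ^ 3 := by
      rw [pow_succ, pow_two]; exact lt_mul_of_one_lt_right (Nat.mul_pos hp.out.pos hp.out.pos) hp.out.one_lt
    omega
  obtain ⟨a, ha, ha1⟩ := (B₁ ⊓ B₂).nontrivial_iff_exists_ne_one.1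
    (Finite.one_lt_card_iff_nontrivial.1 hcard)
  have hC : ∀ B : Subgroup G, a ∈ B →
      Subgroup.centralizer (B : Set G) ≤ Subgroup.centralizer ({a} : Set G) := fun B hB =>
    Subgroup.centralizer_le (Set.singleton_subset_iff.2 hB)
  exact ⟨a, hB₁ ha.1, ha1, fun h => hn₁ (le_trans (inf_le_inf_left _ (hC _ ha.1)) h),
    fun h => hn₂ (le_trans (inf_le_inf_left _ (hC _ ha.2)) h)⟩

/-- `U ≤ O_{q'}(K)` when every `[U, C_K(B)]` has order prime to `q`. -/
theorem le_pPrimeCore_of_commutator {A K U : Subgroup G} (hA : IsElementaryAbelian p A)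
    (hA2 : p ^ 2 ≤ Nat.card ↥A) (hK : ¬ p ∣ Nat.card ↥K) (hKs : Group.IsSolvable ↥K)
    (hAK : A ≤ Subgroup.normalizer (K : Set G)) (q : ℕ) [hq : Fact q.Prime] (hU : U ≤ K)
    (hUq : ¬ q ∣ Nat.card ↥U)
    (hcomm : ∀ B : Subgroup G, B ≤ A → B.relIndex A = p →
      ¬ q ∣ Nat.card ↥⁅U, K ⊓ Subgroup.centralizer (B : Set G)⁆) :
    U ≤ (pPrimeCore q ↥K).map K.subtype := by
  set N := pPrimeCore q ↥K with hN
  let π : ↥K →* ↥K ⧸ N := QuotientGroup.mk' N
  set V := pCore q (↥K ⧸ N) with hV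
  set W := (V.comap π).map K.subtype with hW
  haveI : (V.comap π).Normal := inferInstance
  have hAW : A ≤ Subgroup.normalizer (W : Set G) := by
    intro a ha
    rw [Subgroup.mem_normalizer_iff_map_conj_eq, hW]
    haveI hchar : (pPrimePCore q ↥K).Characteristic := by
      rw [Subgroup.characteristic_iff_le_comap]
      intro φ x hx
      let ψ : ↥K ⧸ N ≃* ↥K ⧸ N := QuotientGroup.congr N N φ (Cores.map_pPrimeCore_equiv φ)
      show π (φ x) ∈ V
      rw [show π (φ x) = ψ (π x) from rfl, hV, ← Cores.map_pCore_equiv ψ]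
      exact Subgroup.mem_map_of_mem ψ.toMonoidHom hx
    have h2 := Subgroup.Characteristic.fixed (H := pPrimePCore q ↥K) inferInstance
    ext x
    simp only [Subgroup.mem_map]
    constructor
    · rintro ⟨_, ⟨y, hy, rfl⟩, rfl⟩
      refine ⟨K.normalizerMonoidHom ⟨a, hAK ha⟩ y, ?_, rfl⟩
      have := h2 (K.normalizerMonoidHom ⟨a, hAK ha⟩)
      rw [SetLike.ext_iff] at this
      exact (this y).2 hy
    · rintro ⟨y, hy, rfl⟩
      refine ⟨((K.normalizerMonoidHom ⟨a, hAK ha⟩).symm y : ↥K),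
        ⟨(K.normalizerMonoidHom ⟨a, hAK ha⟩).symm y, ?_, rfl⟩, ?_⟩
      · have := h2 (K.normalizerMonoidHom ⟨a, hAK ha⟩).symm
        rw [SetLike.ext_iff] at this
        exact (this y).2 hy
      · exact congrArg Subtype.val ((K.normalizerMonoidHom ⟨a, hAK ha⟩).apply_symm_apply y)
  have hWp : (Nat.card ↥W).Coprime p :=
    ((hp.out.coprime_iff_not_dvd.2 hK).coprime_dvd_right
      (Subgroup.card_dvd_of_le (Subgroup.map_subtype_le _))).symm
  -- the image of `U` centralizes `V`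
  have hUV : ∀ u : ↥K, (u : G) ∈ U → π u ∈ Subgroup.centralizer (V : Set (↥K ⧸ N)) := by
    intro u hu
    rw [Subgroup.mem_centralizer_iff]
    intro v hv
    obtain ⟨w, rfl⟩ := QuotientGroup.mk'_surjective N v
    have hle : W ≤ ((Subgroup.centralizer ({π u} : Set _)).comap π).map K.subtype := by
      refine le_trans (PLocal.le_iSup_fixOn_hyperplane hA hAW hWp) (iSup_le fun B x hx => ?_)
      rw [PLocal.mem_fixOn] at hx
      obtain ⟨⟨y, hy, rfl⟩, hxB⟩ := hx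
      refine ⟨y, ?_, rfl⟩
      obtain ⟨B', hB'B, hB'⟩ : ∃ B' : Subgroup G, B' ≤ (B : Subgroup G) ∧ B'.relIndex A = p := by
        have hB := B.2
        have hdvd : (B : Subgroup G).relIndex A ∣ Nat.card ↥A := Subgroup.relIndex_dvd_card _ _
        obtain ⟨m, hm⟩ := IsPGroup.iff_card.1 (PGroups.elemAb_isPGroup hA)
        obtain ⟨j, -, hj⟩ := (Nat.dvd_prime_pow hp.out).1 (hm ▸ hdvd)
        rcases Nat.eq_zero_or_pos j with rfl | hjpos
        · obtain ⟨H, hH⟩ := Sylow.exists_subgroup_card_pow_prime_of_le_card (n := m - 1) hp.out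
            (PGroups.elemAb_isPGroup hA) (hm ▸ Nat.pow_le_pow_right hp.out.pos (Nat.sub_le _ _))
          have hAB : A ≤ (B : Subgroup G) := Subgroup.relIndex_eq_one.1 (by simpa using hj)
          refine ⟨H.map A.subtype, (Subgroup.map_subtype_le _).trans hAB, ?_⟩
          have h := ((H.map A.subtype).subgroupOf A).card_mul_index
          rw [Nat.card_congr (Subgroup.subgroupOfEquivOfLe (Subgroup.map_subtype_le _)).toEquiv,
            Subgroup.card_map_of_injective A.subtype_injective, hH, hm] at h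
          have hm2 : 2 ≤ m := (Nat.pow_le_pow_iff_right hp.out.one_lt).1 (hm ▸ hA2)
          refine Nat.eq_of_mul_eq_mul_left (Nat.pow_pos hp.out.pos : 0 < p ^ (m - 1)) (h.trans ?_)
          rw [← pow_succ]; congr 1; omega
        · refine ⟨B, le_rfl, le_antisymm hB.2 ?_⟩
          rw [hj]; exact Nat.le_self_pow hjpos.ne' p
      show π y ∈ Subgroup.centralizer ({π u} : Set _)
      rw [Subgroup.mem_centralizer_singleton_iff]
      have h1 : ((⁅u, y⁆ : ↥K) : G) ∈ ⁅U, K ⊓ Subgroup.centralizer (B' : Set G)⁆ :=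
        Subgroup.commutator_mem_commutator hu ⟨y.2, Subgroup.mem_centralizer_iff.2 fun b hb =>
          hxB b (hB'B hb)⟩
      have h2 : ¬ q ∣ orderOf (π ⁅u, y⁆) := fun h => hcomm B' (hB'B.trans B.2.1) hB'
        (h.trans ((orderOf_map_dvd π _).trans
          ((orderOf_submonoid (⁅u, y⁆ : ↥K)).symm.dvd.trans (Subgroup.orderOf_dvd_natCard _ h1))))
      have h3 : π ⁅u, y⁆ ∈ V := by
        rw [map_commutatorElement, commutatorElement_def]
        exact mul_mem ((pCore_normal q _).conj_mem _ hy _) (inv_mem hy)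
      obtain ⟨i, hi⟩ := IsPGroup.iff_orderOf.1 (Cores.pCore_isPGroup q) ⟨_, h3⟩
      have h4 : π ⁅u, y⁆ = 1 := by
        rw [← orderOf_eq_one_iff, ← Subgroup.orderOf_mk (π ⁅u, y⁆) h3, hi]
        rcases Nat.eq_zero_or_pos i with rfl | hpos
        · rfl
        · exact absurd (by rw [← Subgroup.orderOf_mk (π ⁅u, y⁆) h3, hi]; exact dvd_pow_self q hpos.ne') h2
      rw [map_commutatorElement, commutatorElement_eq_one_iff_mul_comm] at h4
      exact h4.symm
    obtain ⟨y, hy, he⟩ := hle ⟨w, hv, rfl⟩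
    rw [← (K.subtype_injective he : y = w)]
    exact Subgroup.mem_centralizer_singleton_iff.1 hy
  haveI := hKs
  haveI : Group.IsSolvable (↥K ⧸ N) := Group.isSolvable_of_surjective (QuotientGroup.mk'_surjective N)
  have hVC : Subgroup.centralizer (V : Set (↥K ⧸ N)) ≤ V := by
    rw [hV, ← fitting_eq_pCore (PSolvable.pPrimeCore_quotient_eq_bot N rfl)]
    exact Cores.centralizer_fittingSubgroup_le
  intro u hu
  refine ⟨⟨u, hU hu⟩, ?_, rfl⟩
  rw [SetLike.mem_coe, ← QuotientGroup.eq_one_iff (N := N)]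
  have h3 : π ⟨u, hU hu⟩ ∈ V := hVC (hUV _ hu)
  obtain ⟨i, hi⟩ := IsPGroup.iff_orderOf.1 (Cores.pCore_isPGroup q) ⟨_, h3⟩
  show π ⟨u, hU hu⟩ = 1
  rw [← orderOf_eq_one_iff, ← Subgroup.orderOf_mk (π ⟨u, hU hu⟩) h3, hi]
  rcases Nat.eq_zero_or_pos i with rfl | hpos
  · rfl
  · refine absurd ?_ hUq
    refine (dvd_pow_self q hpos.ne').trans ?_
    rw [← hi, Subgroup.orderOf_mk (π ⟨u, hU hu⟩) h3]
    exact (orderOf_map_dvd π _).trans (by
      rw [← orderOf_submonoid (⟨u, hU hu⟩ : ↥K)]; exact Subgroup.orderOf_dvd_natCard _ hu)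

end Cfsg.Agent.Lib.Balance
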