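import Cfsg.Agent.Lib.Balance.PumpUp
import Cfsg.Agent.Lib.Balance.PLayer
import Cfsg.Agent.Lib.Components.PComponent

/-!
# p-components under quotients by p'-subgroups; p'-subgroups invariant under a component

Owner: helper33. Namespace `Cfsg.Agent.Lib.Balance.Descend`.
* `isPComponent_map_surjective`: the image of a `p`-component modulo a normal `p'`-subgroup;
* `commutator_eq_bot_of_component`: a component centralizes every `p'`-subgroup it normalizes,
  provided its image in `G / O_{p'}(G)` is not trivial.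
-/

set_option autoImplicit false
set_option linter.style.haveILetI false
open Cfsg

namespace Cfsg.Agent.Lib.Balance.Descend

variable {G H : Type*} [Group G] [Group H] [Finite G] {p : ℕ}

omit [Finite G] in
theorem map_pPrimeCore_eq [Finite H] {f : G →* H} (hf : Function.Surjective f)
    (hk : (Nat.card ↥f.ker).Coprime p) : (pPrimeCore p G).map f = pPrimeCore p H := by
  refine le_antisymm (Cores.map_pPrimeCore_le f hf) ?_
  set M := (pPrimeCore p H).comap f with hM
  have h : M ≤ pPrimeCore p G := by
    refine Cores.le_pPrimeCore ?_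
    have h1 := Subgroup.relIndex_mul_relIndex (⊥ : Subgroup G) f.ker M bot_le (f.ker_le_comap _)
    rw [Subgroup.relIndex_bot_left, Subgroup.relIndex_bot_left] at h1
    rw [← h1]
    refine hk.mul_left ?_
    have h3 := Subgroup.relIndex_comap (⊥ : Subgroup H) f M
    rw [MonoidHom.comap_bot, hM, Subgroup.map_comap_eq_self_of_surjective hf,
      Subgroup.relIndex_bot_left, ← hM] at h3
    rw [h3]
    exact Cores.pPrimeCore_coprime p
  calc pPrimeCore p H = M.map f := (Subgroup.map_comap_eq_self_of_surjective hf _).symm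
    _ ≤ (pPrimeCore p G).map f := Subgroup.map_mono h

omit [Finite G] in
theorem isPComponent_map_surjective [Finite H] {f : G →* H} (hf : Function.Surjective f)
    (hk : (Nat.card ↥f.ker).Coprime p) {K : Subgroup G} (hK : IsPComponent p K) :
    IsPComponent p (K.map f) := by
  set πG := QuotientGroup.mk' (pPrimeCore p G)
  set πH := QuotientGroup.mk' (pPrimeCore p H)
  have hker : (πH.comp f).ker = pPrimeCore p G := by
    rw [← MonoidHom.comap_ker, QuotientGroup.ker_mk', ← map_pPrimeCore_eq hf hk,
      Subgroup.comap_map_eq, sup_eq_left]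
    exact Cores.le_pPrimeCore hk
  let e : G ⧸ pPrimeCore p G ≃* H ⧸ pPrimeCore p H :=
    (QuotientGroup.quotientMulEquivOfEq hker).symm.trans
      (QuotientGroup.quotientKerEquivOfSurjective _ ((QuotientGroup.mk'_surjective _).comp hf))
  have hmap : ∀ S : Subgroup G, (S.map f).map πH = (S.map πG).map e.toMonoidHom := by
    intro S
    rw [Subgroup.map_map, Subgroup.map_map]
    rfl
  refine ⟨hK.1.map (f := f) hf, ?_, fun S hS hle he => ?_⟩
  · rw [hmap]
    exact Components.Component.map_equiv e hK.2.1
  · refine le_antisymm hle ?_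
    have h1 : (K ⊓ S.comap f).map f = S := by
      refine le_antisymm ((Subgroup.map_mono inf_le_right).trans (Subgroup.map_comap_le _ _)) fun y hy => ?_
      obtain ⟨k, hk, rfl⟩ := hle hy
      exact ⟨k, ⟨hk, hy⟩, rfl⟩
    have h2 : K ⊓ S.comap f = K := by
      refine hK.2.2 _ (hK.1.inf (hS.comap f)) inf_le_left ?_
      apply Subgroup.map_injective (f := e.toMonoidHom) e.injective
      show ((K ⊓ S.comap f).map πG).map e.toMonoidHom = (K.map πG).map e.toMonoidHom
      rw [← hmap, ← hmap, h1, he]
    rw [← h1, h2]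

/-- The central quotient of a component outside `O_{p'}` has order divisible by `p`. -/
theorem not_coprime_of_component [hp : Fact p.Prime] {K : Subgroup G} (hK : IsComponent K)
    (hKO : ¬ K ≤ pPrimeCore p G) : ¬ (Subgroup.center ↥K).index.Coprime p := by
  intro hc
  refine hKO (Components.PComponent.subnormal_coprime_le hK.1 ?_)
  exact Components.PComponent.perfect_central_coprime hK.2.1.commutator_eq_top hc

/-- A component outside `O_{p'}` centralizes each `p'`-subgroup it normalizes. -/
theorem commutator_eq_bot_of_component [hp : Fact p.Prime] {K E : Subgroup G} (hK : IsComponent K)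
    (hKO : ¬ K ≤ pPrimeCore p G) (hKE : K ≤ Subgroup.normalizer (E : Set G))
    (hE : ¬ p ∣ Nat.card ↥E) : ⁅E, K⁆ = ⊥ := by
  have hEK : E ≤ Subgroup.normalizer (K : Set G) := by
    intro e he
    rw [Subgroup.mem_normalizer_iff_map_conj_eq]
    by_contra hne
    set K' := K.map (MulAut.conj e).toMonoidHom with hK'
    have hK'c : IsComponent K' := Components.Component.conj hK e
    have hcomm := Components.Component.le_centralizer_of_ne hK'c hK hne
    refine not_coprime_of_component hK hKO ?_
    obtain ⟨P⟩ : Nonempty (Sylow p ↥K) := inferInstance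
    suffices hPZ : (P : Subgroup ↥K) ≤ Subgroup.center ↥K by
      have hd : (Subgroup.center ↥K).index ∣ (P : Subgroup ↥K).index := Subgroup.index_dvd_of_le hPZ
      exact ((hp.out.coprime_iff_not_dvd).2 fun h => P.not_dvd_index (h.trans hd)).symm
    intro k hk
    obtain ⟨n, hn⟩ := P.isPGroup' ⟨k, hk⟩
    have hkp : (k : G) ^ p ^ n = 1 := by
      simpa using congrArg (fun z : ↥(P : Subgroup ↥K) => ((z : ↥K) : G)) hn
    have hck : MulAut.conj e (k : G)⁻¹ ∈ K' := ⟨(k : G)⁻¹, inv_mem k.2, rfl⟩
    have hcom : Commute (k : G) (MulAut.conj e (k : G)⁻¹) :=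
      Subgroup.mem_centralizer_iff.1 (hcomm hck) (k : G) k.2
    have hkE : (k : G) * MulAut.conj e (k : G)⁻¹ ∈ E := by
      rw [MulAut.conj_apply, show (k : G) * (e * (k : G)⁻¹ * e⁻¹) = (k : G) * e * (k : G)⁻¹ * e⁻¹ by group]
      exact mul_mem ((Subgroup.mem_normalizer_iff.1 (hKE k.2) e).1 he) (inv_mem he)
    have hkpow : ((k : G) * MulAut.conj e (k : G)⁻¹) ^ p ^ n = 1 := by
      rw [hcom.mul_pow, ← map_pow, inv_pow, hkp, inv_one, map_one, mul_one]
    have h1 : orderOf ((k : G) * MulAut.conj e (k : G)⁻¹) = 1 :=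
      Nat.eq_one_of_dvd_coprimes (((hp.out.coprime_iff_not_dvd).2 hE).pow_left n)
        (orderOf_dvd_of_pow_eq_one hkpow)
        ((Subgroup.orderOf_coe (⟨_, hkE⟩ : ↥E)).symm ▸ orderOf_dvd_natCard _)
    rw [orderOf_eq_one_iff] at h1
    have hkK' : (k : G) ∈ K' := by
      rw [eq_inv_of_mul_eq_one_left h1]
      exact inv_mem hck
    refine Subgroup.mem_center_iff.2 fun z => Subtype.ext ?_
    exact Subgroup.mem_centralizer_iff.1 (hcomm hkK') (z : G) z.2
  have hI : ⁅E, K⁆ ≤ E ⊓ K := by
    refine Subgroup.commutator_le.2 fun a ha b hb => ⟨?_, ?_⟩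
    · rw [commutatorElement_def, show a * b * a⁻¹ * b⁻¹ = a * (b * a⁻¹ * b⁻¹) by group]
      exact mul_mem ha ((Subgroup.mem_normalizer_iff.1 (hKE hb) _).1 (inv_mem ha))
    · rw [commutatorElement_def]
      exact K.mul_mem ((Subgroup.mem_normalizer_iff.1 (hEK ha) b).1 hb) (K.inv_mem hb)
  have hIc : (E ⊓ K).subgroupOf K ≤ Subgroup.center ↥K := by
    have hn : ((E ⊓ K).subgroupOf K).Normal := by
      rw [Subgroup.normal_subgroupOf_iff_le_normalizer inf_le_right]
      intro k hk
      exact Subgroup.inf_normalizer_le_normalizer_inf ⟨hKE hk, Subgroup.le_normalizer hk⟩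
    rcases Components.Quasisimple.normal_le_center_or_eq_top hK.2 hn with h | h
    · exact h
    · refine absurd ?_ (not_coprime_of_component hK hKO)
      have hKE' : K ≤ E := fun x hx =>
        ((Subgroup.eq_top_iff' _).1 h ⟨x, hx⟩).1
      exact (((hp.out.coprime_iff_not_dvd).2 fun hd => hE (hd.trans ((Subgroup.index_dvd_card _).trans
        (Subgroup.card_dvd_of_le hKE')))).symm)
  refine Components.commutator_eq_bot_of_perfect (Components.Component.commutator_self hK)
    (le_bot_iff.1 ((Subgroup.commutator_mono hI le_rfl).trans (le_of_eq ?_)))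
  rw [Subgroup.commutator_eq_bot_iff_le_centralizer]
  intro a ha
  refine Subgroup.mem_centralizer_iff.2 fun z hz => ?_
  exact congrArg Subtype.val (Subgroup.mem_center_iff.1 (hIc (show (⟨a, ha.2⟩ : ↥K) ∈ _ from ha)) ⟨z, hz⟩)

omit [Finite G] in
theorem normalizer_zpowers_eq_centralizer {x : G} (hx : orderOf x = 2) :
    Subgroup.normalizer (Subgroup.zpowers x : Set G) = Subgroup.centralizer ({x} : Set G) := by
  refine le_antisymm (fun g hg => ?_) ?_
  · have h := (Subgroup.mem_normalizer_iff.1 hg x).1 (Subgroup.mem_zpowers x)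
    obtain ⟨n, hn⟩ := Subgroup.mem_zpowers_iff.1 h
    rw [Subgroup.mem_centralizer_singleton_iff]
    have hx2 : x ^ (2 : ℤ) = 1 := by
      rw [zpow_two, ← pow_two, ← hx, pow_orderOf_eq_one]
    rcases Int.even_or_odd n with ⟨m, rfl⟩ | ⟨m, rfl⟩
    · rw [← two_mul, zpow_mul, hx2, one_zpow] at hn
      have : x = 1 := conj_eq_one_iff.1 hn.symm
      rw [this, orderOf_one] at hx
      exact absurd hx (by norm_num)
    · rw [zpow_add, zpow_mul, hx2, one_zpow, one_mul, zpow_one] at hn
      exact eq_mul_inv_iff_mul_eq.1 hn |>.symm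
  · rw [Subgroup.zpowers_eq_closure, ← Subgroup.centralizer_closure, ← Subgroup.zpowers_eq_closure]
    exact Subgroup.centralizer_le_normalizer _

end Cfsg.Agent.Lib.Balance.Descend
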