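import Cfsg.Agent.Lib.Balance.Locals
import Cfsg.Agent.Lib.Coprime.Generation
import Cfsg.Agent.Lib.Coprime.Glauberman
import Cfsg.Agent.Lib.LA5.Basic

/-!
# Factorizations of groups from factorizations of fixed-point subgroups

Owner: helper33. Namespace `Cfsg.Agent.Lib.Balance`. If a noncyclic elementary abelian `p`-group `A`
normalizes the `p'`-group `K` and `C_K(a) = C_X(a)C_Y(a)` for all `a ≠ 1`, then `K = XY`.
-/

set_option autoImplicit false
set_option linter.style.haveILetI false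
open Cfsg
open scoped Pointwise commutatorElement

namespace Cfsg.Agent.Lib.Balance

variable {G : Type*} [Group G] {p : ℕ}

theorem not_isCyclic_of_sq_le [hp : Fact p.Prime] [Finite G] {A : Subgroup G}
    (hA : IsElementaryAbelian p A) (hA2 : p ^ 2 ≤ Nat.card ↥A) : ¬ IsCyclic ↥A := by
  intro hc
  obtain ⟨g, hg⟩ := hc.exists_generator
  have h1 : orderOf g = Nat.card ↥A := orderOf_eq_card_of_forall_mem_zpowers hg
  have h2 : orderOf g ≤ p :=
    Nat.le_of_dvd hp.out.pos (orderOf_dvd_of_pow_eq_one (Subtype.ext (by simpa using hA.2 g g.2)))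
  have h3 : p < p ^ 2 := by
    rw [pow_two]
    exact lt_mul_of_one_lt_left hp.out.pos hp.out.one_lt
  omega

theorem le_normalizer_commutator {A H K : Subgroup G} (hH : A ≤ Subgroup.normalizer (H : Set G))
    (hK : A ≤ Subgroup.normalizer (K : Set G)) : A ≤ Subgroup.normalizer ((⁅H, K⁆ : Subgroup G) : Set G) := by
  intro a ha
  rw [Subgroup.mem_normalizer_iff_map_conj_eq, Subgroup.map_commutator,
    Subgroup.mem_normalizer_iff_map_conj_eq.1 (hH ha), Subgroup.mem_normalizer_iff_map_conj_eq.1 (hK ha)]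

theorem le_normalizer_centralizer_singleton {A : Subgroup G} [IsMulCommutative ↥A] {a : G}
    (ha : a ∈ A) : A ≤ Subgroup.normalizer (Subgroup.centralizer ({a} : Set G) : Set G) :=
  le_trans (fun b hb => Subgroup.mem_centralizer_singleton_iff.2
    (Subgroup.mem_centralizer_iff.1 ((Subgroup.le_centralizer A) hb) a ha).symm) Subgroup.le_normalizer

variable [Finite G]

/-- The factorization for a group of prime power order. -/
theorem subset_mul_of_isPGroup {q : ℕ} [Fact q.Prime] {A Q X Y : Subgroup G} [IsMulCommutative ↥A]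
    (hA : ¬ IsCyclic ↥A) (hQ : IsPGroup q ↥Q) (hAQ : A ≤ Subgroup.normalizer (Q : Set G))
    (hcop : (Nat.card ↥A).Coprime (Nat.card ↥Q)) (hX : X ≤ Q) (hY : Y ≤ Q)
    (hfac : ∀ a ∈ A, a ≠ 1 → ∀ k ∈ Q, k * a = a * k → ∃ x ∈ X, ∃ y ∈ Y, k = x * y) :
    (Q : Set G) ⊆ (X : Set G) * (Y : Set G) := by
  haveI : Group.IsNilpotent ↥Q := hQ.isNilpotent
  have hAL : ∀ n, A ≤ Subgroup.normalizer (Q.lowerCentralSeries n : Set G) := by
    intro n
    induction n with
    | zero => exact hAQ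
    | succ n ih => exact le_normalizer_commutator ih hAQ
  have key : ∀ n, ∀ k ∈ Q, ∃ x ∈ X, ∃ z ∈ Q.lowerCentralSeries n, ∃ y ∈ Y, k = x * z * y := by
    intro n
    induction n with
    | zero => exact fun k hk => ⟨1, one_mem _, k, hk, 1, one_mem _, by group⟩
    | succ n ih =>
      set L := Q.lowerCentralSeries n with hL
      set L' := Q.lowerCentralSeries (n + 1) with hL'
      have hL'n : Q ≤ Subgroup.normalizer (L' : Set G) := Q.self_le_normalizer_lowerCentralSeries (n + 1)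
      have hLQ : L ≤ Q := Q.lowerCentralSeries_le_self n
      set S := {w : G | w ∈ L ∧ ∃ a ∈ A, a ≠ 1 ∧ w * a = a * w} with hS
      have hgen : L ≤ Subgroup.closure S := by
        refine le_trans (le_of_eq (Coprime.iSup_centralizer_eq hA (hAL n)
          (hcop.coprime_dvd_right (Subgroup.card_dvd_of_le hLQ))).symm) (iSup₂_le fun a ha => ?_)
        exact fun w hw => Subgroup.subset_closure
          ⟨hw.1, a, ha.1, ha.2, Subgroup.mem_centralizer_singleton_iff.1 hw.2⟩
      have step : ∀ s ∈ S, ∀ z ∈ L,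
          (∀ x ∈ X, ∀ y ∈ Y, ∃ x' ∈ X, ∃ z' ∈ L', ∃ y' ∈ Y, x * z * y = x' * z' * y') →
          ∀ x ∈ X, ∀ y ∈ Y, ∃ x' ∈ X, ∃ z' ∈ L', ∃ y' ∈ Y, x * (s * z) * y = x' * z' * y' := by
        rintro s ⟨hs, a, ha, ha1, hsa⟩ z hz hPz x hx y hy
        obtain ⟨x1, hx1, y1, hy1, rfl⟩ := hfac a ha ha1 s (hLQ hs) hsa
        obtain ⟨x', hx', z', hz', y', hy', e⟩ := hPz (x * x1) (mul_mem hx hx1) (y1 * y) (mul_mem hy1 hy)
        have hw : ⁅y1⁻¹, z⁻¹⁆ ∈ L' := by
          rw [hL', Subgroup.lowerCentralSeries_succ, Subgroup.commutator_comm]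
          exact Subgroup.commutator_mem_commutator (Q.inv_mem (hY hy1)) (inv_mem hz)
        set w' := y⁻¹ * ⁅y1⁻¹, z⁻¹⁆ * y with hw'
        have hw'L : w' ∈ L' :=
          (Subgroup.mem_normalizer_iff''.1 (hL'n (hY hy)) _).1 hw
        refine ⟨x', hx', z' * (y' * w' * y'⁻¹), mul_mem hz'
          ((Subgroup.mem_normalizer_iff.1 (hL'n (hY hy')) _).1 hw'L), y', hy', ?_⟩
        calc x * (x1 * y1 * z) * y = x * x1 * z * (y1 * y) * w' := by
              rw [hw', commutatorElement_def]; group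
          _ = x' * z' * y' * w' := by rw [e]
          _ = x' * (z' * (y' * w' * y'⁻¹)) * y' := by group
      intro k hk
      obtain ⟨x, hx, z, hz, y, hy, rfl⟩ := ih k hk
      have hP : ∀ z ∈ Subgroup.closure S, z ∈ L ∧
          ∀ x ∈ X, ∀ y ∈ Y, ∃ x' ∈ X, ∃ z' ∈ L', ∃ y' ∈ Y, x * z * y = x' * z' * y' := by
        intro z hz
        induction hz using Subgroup.closure_induction_left with
        | one => exact ⟨one_mem _, fun x hx y hy => ⟨x, hx, 1, one_mem _, y, hy, rfl⟩⟩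
        | mul_left s hs z _ ihz =>
          exact ⟨mul_mem hs.1 ihz.1, step s hs z ihz.1 ihz.2⟩
        | inv_mul_cancel s hs z _ ihz =>
          refine ⟨mul_mem (inv_mem hs.1) ihz.1, step s⁻¹ ⟨inv_mem hs.1, ?_⟩ z ihz.1 ihz.2⟩
          obtain ⟨a, ha, ha1, hsa⟩ := hs.2
          exact ⟨a, ha, ha1, ((show Commute s a from hsa).inv_left).eq⟩
      exact (hP z (hgen hz)).2 x hx y hy
  obtain ⟨n, hn⟩ := (Subgroup.isNilpotent_iff_lowerCentralSeries Q).1 inferInstance
  intro k hk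
  obtain ⟨x, hx, z, hz, y, hy, rfl⟩ := key n k hk
  rw [hn, Subgroup.mem_bot] at hz
  exact ⟨x, hx, y, hy, by rw [hz, mul_one]⟩

/-- The fixed points on an invariant Sylow subgroup form a Sylow subgroup of the fixed points. -/
theorem card_inf_centralizer_sylow {A K : Subgroup G} [IsMulCommutative ↥A]
    (hAK : A ≤ Subgroup.normalizer (K : Set G)) (hcop : (Nat.card ↥A).Coprime (Nat.card ↥K))
    {q : ℕ} [hq : Fact q.Prime] (P : Sylow q ↥K)
    (hP : A ≤ Subgroup.normalizer (((P : Subgroup ↥K).map K.subtype : Subgroup G) : Set G))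
    {a : G} (ha : a ∈ A) :
    Nat.card ↥((P : Subgroup ↥K).map K.subtype ⊓ Subgroup.centralizer ({a} : Set G)) =
      q ^ (Nat.card ↥(K ⊓ Subgroup.centralizer ({a} : Set G))).factorization q := by
  set C := K ⊓ Subgroup.centralizer ({a} : Set G) with hC
  have hsolv : Group.IsSolvable ↥A ∨ Group.IsSolvable ↥K :=
    Or.inl (Coprime.isSolvable_of_isMulCommutative A)
  have hAC : A ≤ Subgroup.normalizer (C : Set G) :=
    Coprime.le_normalizer_inf hAK (le_normalizer_centralizer_singleton ha)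
  have hcopC := hcop.coprime_dvd_right (Subgroup.card_dvd_of_le (inf_le_left : C ≤ K))
  obtain ⟨T, hT⟩ := Coprime.exists_invariant_sylow hAC hcopC
    (Or.inl (Coprime.isSolvable_of_isMulCommutative A)) q
  obtain ⟨P', hTP', hP'⟩ := Coprime.exists_invariant_sylow_ge hAK hcop hsolv q
    ((T : Subgroup ↥C).map C.subtype) ((Subgroup.map_subtype_le _).trans inf_le_left)
    (T.isPGroup'.map _) hT
  obtain ⟨c, ⟨hcK, hcA⟩, hc⟩ := Coprime.exists_conj_invariant_sylow hAK hcop hsolv P' P hP' hP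
  set Pg := (P : Subgroup ↥K).map K.subtype with hPg
  have hle : MulAut.conj c • (T : Subgroup ↥C).map C.subtype ≤ Pg ⊓ Subgroup.centralizer ({a} : Set G) := by
    refine le_inf (hc ▸ Subgroup.pointwise_smul_le_pointwise_smul_iff.2 hTP') ?_
    intro x hx
    rw [Coprime.mem_conj_smul] at hx
    have h1 := Subgroup.mem_centralizer_singleton_iff.1 (Subgroup.map_subtype_le _ hx).2
    have h2 : a * c = c * a := Subgroup.mem_centralizer_iff.1 hcA a ha
    refine Subgroup.mem_centralizer_singleton_iff.2 ?_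
    calc x * a = c * (c⁻¹ * x * c) * (c⁻¹ * (a * c)) * c⁻¹ := by group
      _ = c * ((c⁻¹ * x * c) * a) * c⁻¹ := by rw [h2]; group
      _ = c * (a * (c⁻¹ * x * c)) * c⁻¹ := by rw [h1]
      _ = (c * a) * c⁻¹ * x := by group
      _ = a * x := by rw [← h2]; group
  have h1 := Nat.le_of_dvd Nat.card_pos (Subgroup.card_dvd_of_le hle)
  rw [Coprime.card_conj_smul, Coprime.card_sylow_map T] at h1
  refine le_antisymm ?_ h1
  obtain ⟨j, hj⟩ := IsPGroup.iff_card.1
    ((P.isPGroup'.map K.subtype).to_inf_left : IsPGroup q ↥(Pg ⊓ Subgroup.centralizer ({a} : Set G)))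
  rw [hj]
  refine Nat.pow_le_pow_right hq.out.pos ?_
  have hd : q ^ j ∣ Nat.card ↥C :=
    hj ▸ Subgroup.card_dvd_of_le (le_inf (inf_le_left.trans (Subgroup.map_subtype_le _)) inf_le_right)
  exact (hq.out.pow_dvd_iff_le_factorization Nat.card_pos.ne').1 hd

/-- `K = XY` from the factorizations of the `C_K(a)`. -/
theorem eq_mul_of_centralizer_factorization [hp : Fact p.Prime] {A K X Y : Subgroup G}
    (hA : IsElementaryAbelian p A) (hA2 : p ^ 2 ≤ Nat.card ↥A) (hK : ¬ p ∣ Nat.card ↥K)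
    (hAK : A ≤ Subgroup.normalizer (K : Set G)) (hX : X ≤ K) (hY : Y ≤ K)
    (hAX : A ≤ Subgroup.normalizer (X : Set G)) (hAY : A ≤ Subgroup.normalizer (Y : Set G))
    (hfac : ∀ a ∈ A, a ≠ 1 → ((K ⊓ Subgroup.centralizer {a} : Subgroup G) : Set G) =
      ((X ⊓ Subgroup.centralizer {a} : Subgroup G) : Set G) *
        ((Y ⊓ Subgroup.centralizer {a} : Subgroup G) : Set G)) :
    (K : Set G) = (X : Set G) * (Y : Set G) := by
  haveI := hA.1
  have hAp : IsPGroup p ↥A := fun a => ⟨1, Subtype.ext (by simpa using hA.2 a a.2)⟩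
  obtain ⟨n, hn⟩ := IsPGroup.iff_card.1 hAp
  have hcopK : ∀ U : Subgroup G, U ≤ K → (Nat.card ↥A).Coprime (Nat.card ↥U) := fun U hU =>
    hn ▸ (hp.out.coprime_iff_not_dvd.2 fun h => hK (h.trans (Subgroup.card_dvd_of_le hU))).pow_left n
  have hsolvA : Group.IsSolvable ↥A := Coprime.isSolvable_of_isMulCommutative A
  have hncyc := not_isCyclic_of_sq_le hA hA2
  have hsub : (X : Set G) * (Y : Set G) ⊆ (K : Set G) := by
    rintro _ ⟨x, hx, y, hy, rfl⟩
    exact mul_mem (hX hx) (hY hy)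
  obtain ⟨a0, ha0, ha01⟩ : ∃ a ∈ A, a ≠ (1 : G) := by
    refine A.nontrivial_iff_exists_ne_one.1 (Finite.one_lt_card_iff_nontrivial.1 ?_)
    exact lt_of_lt_of_le (Nat.one_lt_pow two_ne_zero hp.out.one_lt) hA2
  have hcomm : ∀ a ∈ A, ∀ b ∈ A, a * b = b * a := fun a ha b hb =>
    congrArg Subtype.val (hA.1.is_comm.comm (⟨a, ha⟩ : ↥A) ⟨b, hb⟩)
  have hfixA : ∀ k ∈ K, k ∈ Subgroup.centralizer (A : Set G) →
      ∃ x ∈ X ⊓ Subgroup.centralizer (A : Set G), ∃ y ∈ Y ⊓ Subgroup.centralizer (A : Set G),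
        k = x * y := by
    intro k hk hkA
    have hk0 : k ∈ ((K ⊓ Subgroup.centralizer {a0} : Subgroup G) : Set G) :=
      ⟨hk, Subgroup.mem_centralizer_singleton_iff.2 (Subgroup.mem_centralizer_iff.1 hkA a0 ha0).symm⟩
    rw [hfac a0 ha0 ha01] at hk0
    obtain ⟨x, hx, y, hy, rfl⟩ := hk0
    exact Coprime.exists_mul_eq_of_fixed hAX hAY (hcopK _ (inf_le_left.trans hX)) (Or.inl hsolvA)
      hx.1 hy.1 hkA
  have hkey : ∀ q : ℕ, q.Prime → (Nat.card ↥X).factorization q + (Nat.card ↥Y).factorization q =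
      (Nat.card ↥K).factorization q + (Nat.card ↥(X ⊓ Y)).factorization q := by
    intro q hq
    haveI : Fact q.Prime := ⟨hq⟩
    obtain ⟨PX, hPX⟩ := Coprime.exists_invariant_sylow hAX (hcopK X hX) (Or.inl hsolvA) q
    obtain ⟨PY, hPY⟩ := Coprime.exists_invariant_sylow hAY (hcopK Y hY) (Or.inl hsolvA) q
    obtain ⟨Q0, hXQ0, hQ0⟩ := Coprime.exists_invariant_sylow_ge hAK (hcopK K le_rfl) (Or.inl hsolvA) q
      ((PX : Subgroup ↥X).map X.subtype) ((Subgroup.map_subtype_le _).trans hX) (PX.isPGroup'.map _) hPX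
    obtain ⟨Q1, hYQ1, hQ1⟩ := Coprime.exists_invariant_sylow_ge hAK (hcopK K le_rfl) (Or.inl hsolvA) q
      ((PY : Subgroup ↥Y).map Y.subtype) ((Subgroup.map_subtype_le _).trans hY) (PY.isPGroup'.map _) hPY
    obtain ⟨c, ⟨hcK, hcA⟩, hc⟩ :=
      Coprime.exists_conj_invariant_sylow hAK (hcopK K le_rfl) (Or.inl hsolvA) Q1 Q0 hQ1 hQ0
    obtain ⟨x, hx', y, hy', hcxy⟩ := hfixA c hcK hcA
    have hxX : x ∈ X := hx'.1
    have hxA : x ∈ Subgroup.centralizer (A : Set G) := hx'.2
    have hyY : y ∈ Y := hy'.1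
    have hyA : y ∈ Subgroup.centralizer (A : Set G) := hy'.2
    set Q := MulAut.conj x⁻¹ • (Q0 : Subgroup ↥K).map K.subtype with hQdef
    set QX := MulAut.conj x⁻¹ • (PX : Subgroup ↥X).map X.subtype with hQXdef
    set QY := MulAut.conj y • (PY : Subgroup ↥Y).map Y.subtype with hQYdef
    have hQeq : Q = MulAut.conj y • (Q1 : Subgroup ↥K).map K.subtype := by
      rw [hQdef, ← hc, hcxy, ← Coprime.conj_smul_mul, inv_mul_cancel_left]
    have hinv : ∀ {z : G} {U : Subgroup G}, z ∈ Subgroup.centralizer (A : Set G) →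
        A ≤ Subgroup.normalizer (U : Set G) →
        A ≤ Subgroup.normalizer ((MulAut.conj z • U : Subgroup G) : Set G) := by
      intro z U hz hU
      refine Coprime.smul_eq_iff_le_normalizer.1 fun a ha => ?_
      rw [← Coprime.conj_smul_mul, Subgroup.mem_centralizer_iff.1 hz a ha, Coprime.conj_smul_mul,
        Coprime.smul_eq_iff_le_normalizer.2 hU a ha]
    have hQXQ : QX ≤ Q := Subgroup.pointwise_smul_le_pointwise_smul_iff.2 hXQ0
    have hQYQ : QY ≤ Q := hQeq ▸ Subgroup.pointwise_smul_le_pointwise_smul_iff.2 hYQ1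
    have hQK : Q ≤ K := by
      intro z hz
      rw [hQdef, Coprime.mem_conj_smul] at hz
      have hxK := hX hxX
      simpa [mul_assoc] using mul_mem (mul_mem (inv_mem hxK) (Subgroup.map_subtype_le _ hz)) hxK
    have hQXX : QX ≤ X := by
      intro z hz
      rw [hQXdef, Coprime.mem_conj_smul] at hz
      simpa [mul_assoc] using mul_mem (mul_mem (inv_mem hxX) (Subgroup.map_subtype_le _ hz)) hxX
    have hQYY : QY ≤ Y := by
      intro z hz
      rw [hQYdef, Coprime.mem_conj_smul] at hz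
      simpa [mul_assoc] using mul_mem (mul_mem hyY (Subgroup.map_subtype_le _ hz)) (inv_mem hyY)
    have hAQX : A ≤ Subgroup.normalizer (QX : Set G) := hinv (inv_mem hxA) hPX
    have hAQY : A ≤ Subgroup.normalizer (QY : Set G) := hinv hyA hPY
    have hAQ : A ≤ Subgroup.normalizer (Q : Set G) := hinv (inv_mem hxA) hQ0
    have hcQ : Nat.card ↥Q = q ^ (Nat.card ↥K).factorization q := by
      rw [hQdef, Coprime.card_conj_smul, Coprime.card_sylow_map]
    have hcX : Nat.card ↥QX = q ^ (Nat.card ↥X).factorization q := by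
      rw [hQXdef, Coprime.card_conj_smul, Coprime.card_sylow_map]
    have hcY : Nat.card ↥QY = q ^ (Nat.card ↥Y).factorization q := by
      rw [hQYdef, Coprime.card_conj_smul, Coprime.card_sylow_map]
    have hQp : IsPGroup q ↥Q := IsPGroup.of_card hcQ
    obtain ⟨SX, hSX⟩ := Coprime.exists_sylow_of_card hQXX hcX
    obtain ⟨SY, hSY⟩ := Coprime.exists_sylow_of_card hQYY hcY
    obtain ⟨SQ, hSQ⟩ := Coprime.exists_sylow_of_card hQK hcQ
    set D := QX ⊓ QY with hD
    have hAD : A ≤ Subgroup.normalizer (D : Set G) := Coprime.le_normalizer_inf hAQX hAQY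
    obtain ⟨T, hDT, hT⟩ := Coprime.exists_invariant_sylow_ge (Coprime.le_normalizer_inf hAX hAY)
      (hcopK _ (inf_le_left.trans hX)) (Or.inl hsolvA) q D (inf_le_inf hQXX hQYY)
      (hQp.to_le (inf_le_left.trans hQXQ)) hAD
    have hper : ∀ a ∈ A, a ≠ 1 →
        (∀ k ∈ Q, k * a = a * k → ∃ x ∈ QX, ∃ y ∈ QY, k = x * y) ∧
        (T : Subgroup ↥(X ⊓ Y)).map (X ⊓ Y).subtype ⊓ Subgroup.centralizer {a} ≤ D := by
      intro a ha ha1
      set C := Subgroup.centralizer ({a} : Set G) with hCdef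
      have e1 := card_inf_centralizer_sylow hAX (hcopK X hX) SX (by rw [hSX]; exact hAQX) ha
      have e2 := card_inf_centralizer_sylow hAY (hcopK Y hY) SY (by rw [hSY]; exact hAQY) ha
      have e3 := card_inf_centralizer_sylow hAK (hcopK K le_rfl) SQ (by rw [hSQ]; exact hAQ) ha
      have e4 := card_inf_centralizer_sylow (Coprime.le_normalizer_inf hAX hAY)
        (hcopK _ (inf_le_left.trans hX)) T hT ha
      rw [hSX] at e1
      rw [hSY] at e2
      rw [hSQ] at e3
      -- the `q`-part of `|C_K(a)|`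
      have hm := LA5.Basic.card_mul_card_inf (X ⊓ C) (Y ⊓ C)
      rw [← hfac a ha ha1, show (X ⊓ C) ⊓ (Y ⊓ C) = X ⊓ Y ⊓ C by rw [inf_inf_inf_comm, inf_idem]] at hm
      have hv := congrArg (fun m => m.factorization q) hm
      simp only [Nat.factorization_mul Nat.card_pos.ne' Nat.card_pos.ne', Finsupp.add_apply] at hv
      set T' := (T : Subgroup ↥(X ⊓ Y)).map (X ⊓ Y).subtype with hT'
      have hm2 := LA5.Basic.card_mul_card_inf (QX ⊓ C) (QY ⊓ C)
      rw [show (QX ⊓ C) ⊓ (QY ⊓ C) = D ⊓ C by rw [inf_inf_inf_comm, inf_idem], e1, e2, ← pow_add] at hm2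
      have hsub2 : ((QX ⊓ C : Subgroup G) : Set G) * ((QY ⊓ C : Subgroup G) : Set G) ⊆
          ((Q ⊓ C : Subgroup G) : Set G) := by
        rintro _ ⟨u, hu, v, hv', rfl⟩
        exact mul_mem (show u ∈ Q ⊓ C from ⟨hQXQ hu.1, hu.2⟩) (show v ∈ Q ⊓ C from ⟨hQYQ hv'.1, hv'.2⟩)
      have hle1 : Nat.card ↥(((QX ⊓ C : Subgroup G) : Set G) * ((QY ⊓ C : Subgroup G) : Set G)) ≤
          q ^ (Nat.card ↥(K ⊓ C)).factorization q := e3 ▸ Nat.card_mono (Set.toFinite _) hsub2
      have hle2 : Nat.card ↥(D ⊓ C) ≤ q ^ (Nat.card ↥(X ⊓ Y ⊓ C)).factorization q :=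
        e4 ▸ Nat.le_of_dvd Nat.card_pos (Subgroup.card_dvd_of_le (inf_le_inf_right C hDT))
      have hv' : (Nat.card ↥(X ⊓ C)).factorization q + (Nat.card ↥(Y ⊓ C)).factorization q =
          (Nat.card ↥(K ⊓ C)).factorization q + (Nat.card ↥(X ⊓ Y ⊓ C)).factorization q := hv.symm
      rw [hv', pow_add] at hm2
      refine ⟨fun k hk hka => ?_, ?_⟩
      · have heq := Set.eq_of_subset_of_ncard_le hsub2 (by
          rw [← Nat.card_coe_set_eq, ← Nat.card_coe_set_eq]
          refine e3.le.trans ?_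
          refine Nat.le_of_mul_le_mul_right (hm2.symm.le.trans (Nat.mul_le_mul_left _ hle2)) ?_
          exact pow_pos hq.pos _) (Set.toFinite _)
        obtain ⟨u, hu, v, hv'', rfl⟩ := (heq ▸ (show k ∈ ((Q ⊓ C : Subgroup G) : Set G) from
          ⟨hk, Subgroup.mem_centralizer_singleton_iff.2 hka⟩))
        exact ⟨u, hu.1, v, hv''.1, rfl⟩
      · have hge : q ^ (Nat.card ↥(X ⊓ Y ⊓ C)).factorization q ≤ Nat.card ↥(D ⊓ C) :=
          Nat.le_of_mul_le_mul_left (hm2.symm.le.trans (Nat.mul_le_mul_right _ hle1)) (pow_pos hq.pos _)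
        exact (Subgroup.eq_of_le_of_card_ge (inf_le_inf_right C hDT) (e4.le.trans hge)).symm.le.trans
          inf_le_left
    have hTD : (T : Subgroup ↥(X ⊓ Y)).map (X ⊓ Y).subtype = D := by
      refine le_antisymm ?_ hDT
      refine le_trans (le_of_eq (Coprime.iSup_centralizer_eq hncyc hT
        (hcopK _ ((Subgroup.map_subtype_le _).trans (inf_le_left.trans hX)))).symm)
        (iSup₂_le fun a ha => (hper a ha.1 ha.2).2)
    have hQsub := subset_mul_of_isPGroup hncyc hQp hAQ (hcopK Q hQK) hQXQ hQYQ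
      (fun a ha ha1 => (hper a ha ha1).1)
    have hQset : (QX : Set G) * (QY : Set G) = (Q : Set G) := by
      refine Set.Subset.antisymm ?_ hQsub
      rintro _ ⟨u, hu, v, hv, rfl⟩
      exact mul_mem (hQXQ hu) (hQYQ hv)
    have hfin := LA5.Basic.card_mul_card_inf QX QY
    rw [hQset, ← hD, ← hTD, Coprime.card_sylow_map, hcX, hcY, ← pow_add, SetLike.coe_sort_coe, hcQ,
      ← pow_add] at hfin
    exact (Nat.pow_right_injective hq.two_le hfin).symm
  have hXY : Nat.card ↥X * Nat.card ↥Y = Nat.card ↥K * Nat.card ↥(X ⊓ Y) := by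
    refine Nat.eq_of_factorization_eq (Nat.mul_ne_zero Nat.card_pos.ne' Nat.card_pos.ne')
      (Nat.mul_ne_zero Nat.card_pos.ne' Nat.card_pos.ne') fun q => ?_
    rw [Nat.factorization_mul Nat.card_pos.ne' Nat.card_pos.ne',
      Nat.factorization_mul Nat.card_pos.ne' Nat.card_pos.ne', Finsupp.add_apply, Finsupp.add_apply]
    by_cases hq : q.Prime
    · exact hkey q hq
    · simp [Nat.factorization_eq_zero_of_not_prime _ hq]
  refine (Set.eq_of_subset_of_ncard_le hsub ?_ (Set.toFinite _)).symm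
  have h := LA5.Basic.card_mul_card_inf X Y
  rw [hXY] at h
  rw [← Nat.card_coe_set_eq, ← Nat.card_coe_set_eq]
  exact (Nat.eq_of_mul_eq_mul_right Nat.card_pos h).ge

end Cfsg.Agent.Lib.Balance
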