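import Cfsg.Agent.Lib.Balance.Permute

/-!
# From balance of the components to balance of the group

Owner: helper33. Namespace `Cfsg.Agent.Lib.Balance`.
* `autQuot`, `conjHom`: the automorphisms of `L/Z(L)` induced by `N(L)`;
* `map_mem_centralizerPPrimeCore`: images of `O_{p'}(C(a))` in groups induced on a component;
* `isBalancedFor_of_components`, `signalizerDelta_eq_bot_of_components`, `isKBalanced_of_components`.
-/

set_option autoImplicit false
set_option linter.style.haveILetI false
open Cfsg
open scoped commutatorElement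

namespace Cfsg.Agent.Lib.Balance

section Aut

variable {K : Type*} [Group K]

theorem map_center_mulAut (e : MulAut K) :
    (Subgroup.center K).map (e : K →* K) = Subgroup.center K :=
  Subgroup.characteristic_iff_map_eq.1 Subgroup.centerCharacteristic e

/-- An automorphism induces one on the quotient by the centre. -/
def autQuot (K : Type*) [Group K] : MulAut K →* MulAut (K ⧸ Subgroup.center K) where
  toFun e := QuotientGroup.congr _ _ e (map_center_mulAut e)
  map_one' := by
    ext x
    induction x using QuotientGroup.induction_on with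
    | H z => rfl
  map_mul' e f := by
    ext x
    induction x using QuotientGroup.induction_on with
    | H z => rfl

theorem autQuot_apply (e : MulAut K) (z : K) :
    autQuot K e (z : K ⧸ Subgroup.center K) = ((e z : K) : K ⧸ Subgroup.center K) := rfl

end Aut

variable {G : Type*} [Group G] {p : ℕ}

/-- The action of a subgroup `H ≤ N(L)` on `L / Z(L)`. -/
def conjHom (L H : Subgroup G) (h : H ≤ Subgroup.normalizer (L : Set G)) :
    ↥H →* MulAut (↥L ⧸ Subgroup.center ↥L) :=
  (autQuot ↥L).comp (L.normalizerMonoidHom.comp (Subgroup.inclusion h))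

theorem conjHom_apply {L H : Subgroup G} (h : H ≤ Subgroup.normalizer (L : Set G)) (x : ↥H) (l : ↥L) :
    conjHom L H h x (l : ↥L ⧸ Subgroup.center ↥L) =
      ((⟨(x : G) * l * (x : G)⁻¹, (Subgroup.mem_normalizer_iff.1 (h x.2) l).1 l.2⟩ : ↥L) :
        ↥L ⧸ Subgroup.center ↥L) := rfl

theorem range_conj_le_range_conjHom {L H : Subgroup G} (h : H ≤ Subgroup.normalizer (L : Set G))
    (hLH : L ≤ H) :
    (MulAut.conj : (↥L ⧸ Subgroup.center ↥L) →* MulAut _).range ≤ (conjHom L H h).range := by
  rintro _ ⟨q, rfl⟩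
  induction q using QuotientGroup.induction_on with
  | H z =>
    refine ⟨⟨(z : G), hLH z.2⟩, ?_⟩
    ext x
    induction x using QuotientGroup.induction_on with
    | H l => rfl

variable [Finite G] [hp : Fact p.Prime]

/-- The kernel of the action on `L / Z(L)` of a component `L` is its centralizer. -/
theorem conjHom_ker {L H : Subgroup G} (hL : IsComponent L) (h : H ≤ Subgroup.normalizer (L : Set G)) :
    (conjHom L H h).ker = (Subgroup.centralizer (L : Set G)).subgroupOf H := by
  refine le_antisymm ?_ ?_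
  · intro x hx
    have h1 : ∀ l : ↥L, ⁅(x : G), (l : G)⁆ ∈ Subgroup.centralizer (L : Set G) := by
      intro l
      have e := DFunLike.congr_fun (show conjHom L H h x = 1 from hx) (l : ↥L ⧸ Subgroup.center ↥L)
      rw [conjHom_apply, MulAut.one_apply, QuotientGroup.eq] at e
      have hinv := Subgroup.inv_mem _ e
      refine Subgroup.mem_centralizer_iff.2 fun z hz => ?_
      have e2 := congrArg Subtype.val (Subgroup.mem_center_iff.1 hinv ⟨z, hz⟩)
      have e3 : ((((⟨(x : G) * l * (x : G)⁻¹, (Subgroup.mem_normalizer_iff.1 (h x.2) l).1 l.2⟩ : ↥L)⁻¹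
          * l)⁻¹ : ↥L) : G) = (l : G)⁻¹ * ⁅(x : G), (l : G)⁆ * l := by
        simp only [Subgroup.coe_inv, Subgroup.coe_mul, commutatorElement_def]
        group
      simp only [Subgroup.coe_mul] at e2
      rw [e3] at e2
      have hlz := Subgroup.mem_center_iff.1 hinv l
      have e4 := congrArg Subtype.val hlz
      simp only [Subgroup.coe_mul] at e4
      rw [e3] at e4
      have e5 : (l : G)⁻¹ * ⁅(x : G), (l : G)⁆ * l = ⁅(x : G), (l : G)⁆ := by
        have : ⁅(x : G), (l : G)⁆ * l = (l : G)⁻¹ * ⁅(x : G), (l : G)⁆ * l * l := by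
          rw [← e4]; group
        exact (mul_right_cancel this).symm
      rwa [e5] at e2
    have h2 : ⁅⁅Subgroup.zpowers (x : G), L⁆, L⁆ = ⊥ := by
      rw [Subgroup.commutator_eq_bot_iff_le_centralizer, Subgroup.commutator_le]
      intro a ha l hl
      obtain ⟨n, rfl⟩ := Subgroup.mem_zpowers_iff.1 ha
      induction n using Int.induction_on generalizing l with
      | zero => simp
      | succ n ih =>
        have e1 : ⁅(x : G) ^ ((n : ℤ) + 1), l⁆ =
            (x : G) ^ (n : ℤ) * ⁅(x : G), l⁆ * ((x : G) ^ (n : ℤ))⁻¹ * ⁅(x : G) ^ (n : ℤ), l⁆ := by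
          rw [zpow_add_one]; simp only [commutatorElement_def]; group
        rw [e1]
        exact Subgroup.mul_mem _ ((Subgroup.mem_normalizer_iff.1
          (normalizer_le_normalizer_centralizer L (Subgroup.zpow_mem _ (h x.2) _)) _).1 (h1 ⟨l, hl⟩))
          (ih l hl (Subgroup.zpow_mem _ (Subgroup.mem_zpowers _) _))
      | pred n ih =>
        have e1 : ⁅(x : G) ^ (-(n : ℤ) - 1), l⁆ = ((x : G) ^ (-(n : ℤ)) * (x : G)⁻¹) *
            ⁅(x : G), l⁆⁻¹ * ((x : G) ^ (-(n : ℤ)) * (x : G)⁻¹)⁻¹ * ⁅(x : G) ^ (-(n : ℤ)), l⁆ := by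
          rw [zpow_sub_one]; simp only [commutatorElement_def]; group
        rw [e1]
        exact Subgroup.mul_mem _ ((Subgroup.mem_normalizer_iff.1 (normalizer_le_normalizer_centralizer L
          (Subgroup.mul_mem _ (Subgroup.zpow_mem _ (h x.2) _) (Subgroup.inv_mem _ (h x.2)))) _).1
            (Subgroup.inv_mem _ (h1 ⟨l, hl⟩)))
          (ih l hl (Subgroup.zpow_mem _ (Subgroup.mem_zpowers _) _))
    have h3 := Components.commutator_eq_bot_of_perfect (Components.Component.commutator_self hL) h2
    exact Subgroup.commutator_eq_bot_iff_le_centralizer.1 h3 (Subgroup.mem_zpowers _)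
  · intro x hx
    refine DFunLike.ext _ _ fun q => ?_
    induction q using QuotientGroup.induction_on with
    | H l =>
      rw [conjHom_apply, MulAut.one_apply]
      congr 1
      refine Subtype.ext ?_
      have := Subgroup.mem_centralizer_iff.1 (show (x : G) ∈ Subgroup.centralizer (L : Set G) from hx) l l.2
      simp [← this]

/-- A `p'`-element centralizing `O_p` and every component is trivial when `O_{p'} = 1`. -/
theorem eq_one_of_centralizes (hO : pPrimeCore p G = ⊥) {y : G} (hy : (orderOf y).Coprime p)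
    (hQ : y ∈ Subgroup.centralizer (pCore p G : Set G))
    (hL : ∀ L : Subgroup G, IsComponent L → y ∈ Subgroup.centralizer (L : Set G)) : y = 1 := by
  set F := generalizedFittingSubgroup G with hF
  have hyF : y ∈ Subgroup.centralizer (F : Set G) := by
    have h0 : F ≤ Subgroup.centralizer ({y} : Set G) := by
      refine sup_le (sSup_le fun L hLc z hz => ?_) ?_
      · exact Subgroup.mem_centralizer_singleton_iff.2 (Subgroup.mem_centralizer_iff.1 (hL L hLc) z hz)
      · rw [fitting_eq_pCore hO]
        exact fun z hz => Subgroup.mem_centralizer_singleton_iff.2 (Subgroup.mem_centralizer_iff.1 hQ z hz)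
    exact Subgroup.mem_centralizer_iff.2 fun z hz => Subgroup.mem_centralizer_singleton_iff.1 (h0 hz)
  haveI : F.Normal := Components.GenFitting.generalizedFitting_normal
  haveI : (Subgroup.centralizer (F : Set G)).Normal := Subgroup.normal_centralizer
  have h1 : Subgroup.centralizer (F : Set G) ⊓ F ≤ pCore p G := by
    rw [← fitting_eq_pCore hO]
    haveI : IsMulCommutative ↥(Subgroup.centralizer (F : Set G) ⊓ F) :=
      Subgroup.le_centralizer_iff_isMulCommutative.1
        (inf_le_left.trans (Subgroup.centralizer_le inf_le_right))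
    refine Cores.le_fittingSubgroup ?_
    exact Subgroup.isNilpotent_of_lowerCentralSeries_eq_bot (n := 1) (by
      rw [Subgroup.lowerCentralSeries_succ, Subgroup.lowerCentralSeries_zero,
        Subgroup.commutator_self_eq_bot_iff]
      infer_instance)
  obtain ⟨k, hk⟩ := Cores.pCore_isPGroup p ⟨y, h1 ⟨hyF, Components.GenFitting.centralizer_le hyF⟩⟩
  exact orderOf_eq_one_iff.1 (Nat.eq_one_of_dvd_coprimes (hy.pow_right k) dvd_rfl
    (orderOf_dvd_of_pow_eq_one (congrArg Subtype.val hk)))

/-- `O_{p'}(C(a))` maps into `O_{p'}(C(ā))` in a group induced on a component normalized by `a`. -/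
theorem map_mem_centralizerPPrimeCore (hO : pPrimeCore p G = ⊥) {L : Subgroup G} (hL : IsComponent L)
    {a y : G} (ha : orderOf a = p) (hy : y ∈ centralizerPPrimeCore p a) {H : Subgroup G}
    (hLH : L ≤ H) (hHN : H ≤ Subgroup.normalizer (L : Set G))
    (hdec : ∀ h ∈ H, ∃ l ∈ L, ∃ d ∈ Subgroup.centralizer ({a} : Set G), h = l * d)
    {Γ : Type*} [Group Γ] (φ : ↥H →* Γ) (hφ : Function.Surjective φ)
    (hker : φ.ker = (Subgroup.centralizer (L : Set G)).subgroupOf H) (haH : a ∈ H) (hyH : y ∈ H) :
    φ ⟨y, hyH⟩ ∈ centralizerPPrimeCore p (φ ⟨a, haH⟩) := by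
  haveI : Finite Γ := Finite.of_surjective φ hφ
  set W := (centralizerPPrimeCore p a).subgroupOf H with hW
  have hWc : (Nat.card ↥(W.map φ)).Coprime p := by
    refine (Nat.Coprime.coprime_dvd_left ((Subgroup.card_map_dvd _ _).trans ?_) (coreIn_coprime (p := p)
      (Subgroup.centralizer ({a} : Set G))))
    rw [← Subgroup.card_map_of_injective (f := H.subtype) H.subtype_injective]
    exact Subgroup.card_dvd_of_le ((Subgroup.subgroupOf_map_subtype (centralizerPPrimeCore p a) H).le.trans inf_le_left)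
  refine le_coreIn (p := p) ?_ ?_ hWc ⟨_, hy, rfl⟩
  · rintro _ ⟨w, hw, rfl⟩
    refine Subgroup.mem_centralizer_singleton_iff.2 ?_
    have h1 := Subgroup.mem_centralizer_singleton_iff.1 (centralizerPPrimeCore_le a hw)
    rw [← map_mul, ← map_mul]
    exact congrArg φ (Subtype.ext h1)
  · intro g hg
    obtain ⟨h, rfl⟩ := hφ g
    have hcomm : ⁅h, (⟨a, haH⟩ : ↥H)⁆ ∈ φ.ker := by
      rw [MonoidHom.mem_ker, map_commutatorElement, commutatorElement_eq_one_iff_mul_comm]
      exact Subgroup.mem_centralizer_singleton_iff.1 hg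
    rw [hker] at hcomm
    obtain ⟨l, hl, d, hd, hld⟩ := hdec h h.2
    have hd' := Subgroup.mem_centralizer_singleton_iff.1 hd
    have hla : ⁅l, a⁆ ∈ L ⊓ Subgroup.centralizer (L : Set G) := by
      refine ⟨?_, ?_⟩
      · rw [commutatorElement_def, mul_assoc, mul_assoc]
        refine L.mul_mem hl ?_
        rw [← mul_assoc]
        exact (Subgroup.mem_normalizer_iff.1 (hHN haH) l⁻¹).1 (L.inv_mem hl)
      · have e : ⁅(h : G), a⁆ = ⁅l, a⁆ := by
          rw [hld, commutatorElement_def, commutatorElement_def, mul_inv_rev]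
          calc l * d * a * (d⁻¹ * l⁻¹) * a⁻¹ = l * (d * a) * d⁻¹ * l⁻¹ * a⁻¹ := by group
            _ = _ := by rw [hd']; group
        rw [← e]
        exact hcomm
    have hlQ : ∀ u ∈ Subgroup.zpowers a, ⁅l, u⁆ ∈ pCore p G := by
      intro u hu
      have h1 : ⁅l, a⁆ ∈ pCore p G := inf_centralizer_le_pCore hO
        (Components.Layer.component_le_layer hL) (Components.Layer.layer_le_normalizer hL) hla
      have h2 : Subgroup.zpowers a ≤ (Subgroup.centralizer ({QuotientGroup.mk' (pCore p G) l} :
          Set (G ⧸ pCore p G))).comap (QuotientGroup.mk' (pCore p G)) := by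
        rw [Subgroup.zpowers_le, Subgroup.mem_comap, Subgroup.mem_centralizer_singleton_iff, eq_comm,
          ← commutatorElement_eq_one_iff_mul_comm, ← map_commutatorElement]
        exact (QuotientGroup.eq_one_iff _).2 h1
      have h3 := Subgroup.mem_centralizer_singleton_iff.1 (h2 hu)
      rw [eq_comm, ← commutatorElement_eq_one_iff_mul_comm, ← map_commutatorElement] at h3
      exact (QuotientGroup.eq_one_iff _).1 h3
    have hP : IsPGroup p ↥(Subgroup.zpowers a) :=
      IsPGroup.of_card (n := 1) (by rw [Nat.card_zpowers, ha, pow_one])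
    have hln : l ∈ Subgroup.normalizer (centralizerPPrimeCore p a : Set G) := by
      rw [centralizerPPrimeCore_eq_coreIn ha]
      exact mem_normalizer_core hlQ (coreIn_normalizer_eq hP)
    have hhn : (h : G) ∈ Subgroup.normalizer (centralizerPPrimeCore p a : Set G) :=
      hld ▸ Subgroup.mul_mem _ hln (centralizer_le_normalizer_centralizerPPrimeCore a hd)
    exact Subgroup.le_normalizer_map φ ⟨h, Subgroup.mem_normalizer_iff.2 fun x =>
      (Subgroup.mem_normalizer_iff.1 hhn (x : G)), rfl⟩

/-- An element mapping into a normal `p'`-subgroup of a group induced on a component centralizes it. -/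
theorem mem_centralizer_of_map_mem (hO : pPrimeCore p G = ⊥) {L : Subgroup G} (hL : IsComponent L)
    {H : Subgroup G} (hLH : L ≤ H) (hHN : H ≤ Subgroup.normalizer (L : Set G)) {Γ : Type*} [Group Γ]
    (φ : ↥H →* Γ) (hker : φ.ker = (Subgroup.centralizer (L : Set G)).subgroupOf H)
    {O : Subgroup Γ} (hOn : O.Normal) (hOc : (Nat.card ↥O).Coprime p) {y : ↥H} (hy : φ y ∈ O) :
    (y : G) ∈ Subgroup.centralizer (L : Set G) := by
  set Y := (O.comap φ).map H.subtype with hY
  have hYH : Y ≤ H := Subgroup.map_subtype_le _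
  haveI : (O.comap φ).Normal := hOn.comap φ
  have hHY : H ≤ Subgroup.normalizer (Y : Set G) := by
    have h := Subgroup.le_normalizer_map (H := O.comap φ) H.subtype
    rwa [Subgroup.normalizer_eq_top, ← MonoidHom.range_eq_map, Subgroup.range_subtype] at h
  haveI hn : (Y.subgroupOf L).Normal := Subgroup.normal_subgroupOf_of_le_normalizer (hLH.trans hHY)
  rcases Components.Quasisimple.normal_le_center_or_eq_top hL.2 hn with hc | ht
  · have h1 : ⁅⁅Y, L⁆, L⁆ = ⊥ := by
      rw [Subgroup.commutator_eq_bot_iff_le_centralizer]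
      intro z hz
      have hzY : z ∈ Y := Subgroup.le_normalizer_iff_commutator_le_left.1 (hLH.trans hHY) hz
      have hzL : z ∈ L := Subgroup.le_normalizer_iff_commutator_le_right.1 (hYH.trans hHN) hz
      exact Subgroup.mem_centralizer_iff.2 fun w hw => congrArg Subtype.val
        (Subgroup.mem_center_iff.1 (hc (show (⟨z, hzL⟩ : ↥L) ∈ Y.subgroupOf L from hzY)) ⟨w, hw⟩)
    have h2 := Components.commutator_eq_bot_of_perfect (Components.Component.commutator_self hL) h1
    exact Subgroup.commutator_eq_bot_iff_le_centralizer.1 h2 ⟨y, hy, rfl⟩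
  · exfalso
    refine Components.PComponent.component_center_index_not_coprime hO hL ?_
    set ψ := φ.comp (Subgroup.inclusion hLH) with hψ
    have hψker : ψ.ker ≤ Subgroup.center ↥L := by
      intro l hl
      have h1 : Subgroup.inclusion hLH l ∈ (Subgroup.centralizer (L : Set G)).subgroupOf H := hker ▸ hl
      exact Subgroup.mem_center_iff.2 fun z =>
        Subtype.ext (Subgroup.mem_centralizer_iff.1 h1 z z.2)
    refine hOc.coprime_dvd_left ((Subgroup.index_dvd_of_le hψker).trans ?_)
    rw [Subgroup.index_ker]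
    refine Subgroup.card_dvd_of_le ?_
    rintro _ ⟨l, rfl⟩
    obtain ⟨w, hw, he⟩ := (show (l : G) ∈ Y from Subgroup.subgroupOf_eq_top.1 ht l.2)
    show φ (Subgroup.inclusion hLH l) ∈ O
    rw [← show w = Subgroup.inclusion hLH l from Subtype.ext he]
    exact hw

omit [Finite G] hp in
theorem decomp_sup {L D : Subgroup G} (hD : D ≤ Subgroup.normalizer (L : Set G)) {h : G} (hh : h ∈ L ⊔ D) :
    ∃ l ∈ L, ∃ d ∈ D, h = l * d := by
  rw [← SetLike.mem_coe, Subgroup.coe_mul_of_right_le_normalizer_left _ _ hD] at hh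
  obtain ⟨l, hl, d, hd, rfl⟩ := hh
  exact ⟨l, hl, d, hd, rfl⟩

omit hp in
theorem coprime_orderOf_core {a y : G} (hy : y ∈ centralizerPPrimeCore p a) : (orderOf y).Coprime p :=
  (coreIn_coprime _).coprime_dvd_left
    (Subgroup.orderOf_dvd_natCard _ (show y ∈ coreIn p (Subgroup.centralizer ({a} : Set G)) from hy))

/-- A group with `O_{p'} = 1` is balanced when the groups induced on its components are. -/
theorem isBalancedFor_of_components (hO : pPrimeCore p G = ⊥)
    (h : ∀ L : Subgroup G, IsComponent L → ∀ H : Subgroup G, L ≤ H → (L.subgroupOf H).Normal →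
      ∀ [((Subgroup.centralizer (L : Set G)).subgroupOf H).Normal],
        IsBalancedFor p (↥H ⧸ (Subgroup.centralizer (L : Set G)).subgroupOf H)) :
    IsBalancedFor p G := by
  intro x hx y hy
  have hP : IsPGroup p ↥(Subgroup.zpowers x) :=
    IsPGroup.of_card (n := 1) (by rw [Nat.card_zpowers, hx, pow_one])
  have hy' : y ∈ coreIn p (Subgroup.normalizer (Subgroup.zpowers x : Set G)) :=
    centralizerPPrimeCore_eq_coreIn hx ▸ hy
  suffices hy1 : y = 1 by rw [hy1]; exact one_mem _
  refine eq_one_of_centralizes hO (coprime_orderOf_core hy) (coreIn_normalizer_le hP hy').1 fun L hL => ?_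
  by_cases hne : ⁅L, Subgroup.zpowers x⁆ = L
  swap
  · exact centralizerPPrimeCore_le_centralizer hO hx hL hne hy
  have hxN : x ∈ Subgroup.normalizer (L : Set G) :=
    Subgroup.le_normalizer_iff_commutator_le_left.2 hne.le (Subgroup.mem_zpowers x)
  set D := Subgroup.centralizer ({x} : Set G) ⊓ Subgroup.normalizer (L : Set G) with hD
  set H := L ⊔ D with hH
  have hHN : H ≤ Subgroup.normalizer (L : Set G) := sup_le Subgroup.le_normalizer inf_le_right
  have hLn : (L.subgroupOf H).Normal := Subgroup.normal_subgroupOf_of_le_normalizer hHN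
  haveI : ((Subgroup.centralizer (L : Set G)).subgroupOf H).Normal :=
    Subgroup.normal_subgroupOf_of_le_normalizer (hHN.trans (normalizer_le_normalizer_centralizer L))
  have hbal := h L hL H le_sup_left hLn
  have hxD : x ∈ D := ⟨Subgroup.mem_centralizer_singleton_iff.2 rfl, hxN⟩
  have hyD : y ∈ D := ⟨centralizerPPrimeCore_le x hy,
    (mem_componentKernel.1 (core_normalizer_le_componentKernel hO hP hy') L hL |> mem_normalizer_iff_cj.2)⟩
  have hxH : x ∈ H := (le_sup_right : D ≤ H) hxD
  have hyH : y ∈ H := (le_sup_right : D ≤ H) hyD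
  set π := QuotientGroup.mk' ((Subgroup.centralizer (L : Set G)).subgroupOf H) with hπ
  have hker : π.ker = (Subgroup.centralizer (L : Set G)).subgroupOf H := QuotientGroup.ker_mk' _
  have hord : orderOf (π ⟨x, hxH⟩) = p := by
    refine orderOf_eq_prime ?_ ?_
    · rw [← map_pow]
      have : (⟨x, hxH⟩ : ↥H) ^ p = 1 :=
        Subtype.ext (orderOf_dvd_iff_pow_eq_one.1 (dvd_of_eq hx))
      rw [this, map_one]
    · intro h1
      have h2' := (QuotientGroup.eq_one_iff (⟨x, hxH⟩ : ↥H)).1 h1
      have h2 : x ∈ Subgroup.centralizer (L : Set G) := h2'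
      have h3 : ⁅L, Subgroup.zpowers x⁆ = ⊥ := by
        rw [Subgroup.commutator_eq_bot_iff_le_centralizer, Subgroup.le_centralizer_iff,
          Subgroup.zpowers_le]
        exact h2
      exact Components.Component.ne_bot hL (hne.symm.trans h3)
  have hyO := hbal _ hord (map_mem_centralizerPPrimeCore hO hL hx hy le_sup_left hHN
    (fun g hg => by
      obtain ⟨l, hl, d, hd, e⟩ := decomp_sup (inf_le_right : D ≤ _) hg
      exact ⟨l, hl, d, hd.1, e⟩) π (QuotientGroup.mk'_surjective _) hker hxH hyH)
  exact mem_centralizer_of_map_mem hO hL le_sup_left hHN π hker (pPrimeCore_normal p _)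
    (Cores.pPrimeCore_coprime p) hyO

/-- With `O_{p'} = 1` and locally `k`-balanced components every `Δ(A)` is trivial. -/
theorem signalizerDelta_eq_bot_of_components (hO : pPrimeCore p G = ⊥) {k : ℕ} (hk : 1 ≤ k)
    (h : ∀ L : Subgroup G, IsComponent L → IsLocallyKBalanced p k (↥L ⧸ Subgroup.center ↥L))
    {A : Subgroup G} (hA : IsElementaryAbelian p A) (hcard : Nat.card ↥A = p ^ k) :
    signalizerDelta p A = ⊥ := by
  have hord : ∀ a ∈ A, a ≠ 1 → orderOf a = p := fun a ha ha1 => orderOf_eq_prime (hA.2 a ha) ha1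
  have hAp : ∀ a ∈ A, a ≠ 1 → IsPGroup p ↥(Subgroup.zpowers a) := fun a ha ha1 =>
    IsPGroup.of_card (n := 1) (by rw [Nat.card_zpowers, hord a ha ha1, pow_one])
  obtain ⟨a0, ha0, ha01⟩ : ∃ a ∈ A, a ≠ (1 : G) := by
    refine A.nontrivial_iff_exists_ne_one.1 (Finite.one_lt_card_iff_nontrivial.1 ?_)
    rw [hcard]
    exact Nat.one_lt_pow (by omega) hp.out.one_lt
  rw [eq_bot_iff]
  intro y hy
  rw [mem_signalizerDelta] at hy
  rw [Subgroup.mem_bot]
  have hy0 : y ∈ coreIn p (Subgroup.normalizer (Subgroup.zpowers a0 : Set G)) :=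
    centralizerPPrimeCore_eq_coreIn (hord a0 ha0 ha01) ▸ hy a0 ha0 ha01
  refine eq_one_of_centralizes hO (coprime_orderOf_core (hy a0 ha0 ha01))
    (coreIn_normalizer_le (hAp a0 ha0 ha01) hy0).1 fun L hL => ?_
  by_cases hex : ∃ a ∈ A, a ≠ 1 ∧ ⁅L, Subgroup.zpowers a⁆ ≠ L
  · obtain ⟨a, ha, ha1, hne⟩ := hex
    exact centralizerPPrimeCore_le_centralizer hO (hord a ha ha1) hL hne (hy a ha ha1)
  push Not at hex
  have hAN : A ≤ Subgroup.normalizer (L : Set G) := by
    intro a ha
    rcases eq_or_ne a 1 with rfl | ha1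
    · exact one_mem _
    · exact Subgroup.le_normalizer_iff_commutator_le_left.2 (hex a ha ha1).le (Subgroup.mem_zpowers a)
  set D := Subgroup.centralizer (A : Set G) ⊓ Subgroup.normalizer (L : Set G) with hD
  set H := L ⊔ D with hH
  have hHN : H ≤ Subgroup.normalizer (L : Set G) := sup_le Subgroup.le_normalizer inf_le_right
  haveI := hA.1
  have hAD : A ≤ D := le_inf (Subgroup.le_centralizer A) hAN
  have hyD : y ∈ D := by
    refine ⟨Subgroup.mem_centralizer_iff.2 fun a ha => ?_, ?_⟩
    · rcases eq_or_ne a 1 with rfl | ha1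
      · simp
      · exact (Subgroup.mem_centralizer_singleton_iff.1 (centralizerPPrimeCore_le a (hy a ha ha1))).symm
    · exact mem_normalizer_iff_cj.2
        (mem_componentKernel.1 (core_normalizer_le_componentKernel hO (hAp a0 ha0 ha01) hy0) L hL)
  set φ := (conjHom L H hHN).rangeRestrict with hφ
  have hker : φ.ker = (Subgroup.centralizer (L : Set G)).subgroupOf H := by
    rw [hφ, MonoidHom.ker_rangeRestrict, conjHom_ker hL hHN]
  have hAH : A ≤ H := hAD.trans le_sup_right
  set Ab := (A.subgroupOf H).map φ with hAb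
  have hinj : ∀ a : ↥(A.subgroupOf H), φ (a : ↥H) = 1 → a = 1 := by
    rintro ⟨a, ha⟩ h1
    by_contra hne
    have ha1 : (a : G) ≠ 1 := fun e => hne (Subtype.ext (Subtype.ext e))
    have h2 : (a : G) ∈ Subgroup.centralizer (L : Set G) := hker.le h1
    have h3 : ⁅L, Subgroup.zpowers (a : G)⁆ = ⊥ := by
      rw [Subgroup.commutator_eq_bot_iff_le_centralizer, Subgroup.le_centralizer_iff,
        Subgroup.zpowers_le]
      exact h2
    exact Components.Component.ne_bot hL ((hex _ ha ha1).symm.trans h3)
  have hAbE : IsElementaryAbelian p Ab := by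
    refine ⟨⟨⟨?_⟩⟩, ?_⟩
    · rintro ⟨_, u, hu, rfl⟩ ⟨_, v, hv, rfl⟩
      refine Subtype.ext ?_
      show φ u * φ v = φ v * φ u
      rw [← map_mul, ← map_mul]
      have e : (⟨(u : G), hu⟩ : ↥A) * ⟨(v : G), hv⟩ = ⟨(v : G), hv⟩ * ⟨(u : G), hu⟩ :=
        hA.1.is_comm.comm _ _
      exact congrArg φ (Subtype.ext (show (u : G) * v = v * u from congrArg Subtype.val e))
    · rintro _ ⟨u, hu, rfl⟩
      rw [← map_pow, show u ^ p = 1 from Subtype.ext (hA.2 _ hu), map_one]
  have hAbcard : Nat.card ↥Ab = p ^ k := by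
    rw [hAb, ← hcard, ← Nat.card_congr (Subgroup.subgroupOfEquivOfLe hAH).toEquiv]
    refine (Nat.card_congr (Equiv.ofBijective (φ.subgroupMap (A.subgroupOf H))
      ⟨?_, φ.subgroupMap_surjective _⟩)).symm
    exact (injective_iff_map_eq_one _).2 fun a h1 => hinj a (congrArg Subtype.val h1)
  have hdelta : φ ⟨y, (le_sup_right : D ≤ H) hyD⟩ ∈ signalizerDelta p Ab := by
    rw [mem_signalizerDelta]
    rintro _ ⟨u, hu, rfl⟩ hu1
    have hu1' : (u : G) ≠ 1 := fun e => hu1 (by rw [show u = 1 from Subtype.ext e, map_one])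
    exact map_mem_centralizerPPrimeCore hO hL (hord _ hu hu1') (hy _ hu hu1') le_sup_left hHN
      (fun g hg => by
        obtain ⟨l, hl, d, hd, e⟩ := decomp_sup (inf_le_right : D ≤ _) hg
        exact ⟨l, hl, d, Subgroup.mem_centralizer_singleton_iff.2
          (Subgroup.mem_centralizer_iff.1 hd.1 _ hu).symm, e⟩)
      φ (conjHom L H hHN).rangeRestrict_surjective hker u.2 _
  rw [h L hL _ (range_conj_le_range_conjHom hHN le_sup_left) Ab hAbE hAbcard, Subgroup.mem_bot] at hdelta
  exact hker.le hdelta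

/-- Centralizer cores map into centralizer cores modulo a normal `p'`-subgroup. -/
theorem map_centralizerPPrimeCore_le {Γ : Type*} [Group Γ] (f : G →* Γ) (hf : Function.Surjective f)
    (hk : ¬ p ∣ Nat.card ↥f.ker) {a : G} (ha : orderOf a = p) :
    (centralizerPPrimeCore p a).map f ≤ centralizerPPrimeCore p (f a) := by
  haveI : Finite Γ := Finite.of_surjective f hf
  refine le_coreIn (p := p) ?_ ?_ ((coreIn_coprime (p := p) (Subgroup.centralizer ({a} : Set G))).coprime_dvd_left
    (Subgroup.card_map_dvd _ f))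
  · rintro _ ⟨w, hw, rfl⟩
    refine Subgroup.mem_centralizer_singleton_iff.2 ?_
    rw [← map_mul, ← map_mul, Subgroup.mem_centralizer_singleton_iff.1 (centralizerPPrimeCore_le a hw)]
  · intro g hg
    have hP : IsPGroup p ↥(Subgroup.zpowers a) :=
      IsPGroup.of_card (n := 1) (by rw [Nat.card_zpowers, ha, pow_one])
    have hgN : g ∈ Subgroup.normalizer ((Subgroup.zpowers a).map f : Set Γ) := by
      rw [MonoidHom.map_zpowers]
      refine Subgroup.centralizer_le_normalizer _ ?_
      rwa [Subgroup.zpowers_eq_closure, Subgroup.centralizer_closure]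
    rw [← map_normalizer_eq hf hk hP] at hgN
    obtain ⟨n, hn, rfl⟩ := hgN
    have hna : n * a * n⁻¹ * a⁻¹ ∈ Subgroup.zpowers a :=
      Subgroup.mul_mem _ ((Subgroup.mem_normalizer_iff.1 hn a).1 (Subgroup.mem_zpowers a))
        (Subgroup.inv_mem _ (Subgroup.mem_zpowers a))
    have hker : n * a * n⁻¹ * a⁻¹ ∈ f.ker := by
      rw [MonoidHom.mem_ker, map_mul, map_mul, map_mul, map_inv, map_inv,
        Subgroup.mem_centralizer_singleton_iff.1 hg]
      group
    have h1 : n * a * n⁻¹ * a⁻¹ = 1 := by
      rw [← orderOf_eq_one_iff]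
      refine Nat.eq_one_of_dvd_coprimes ((hp.out.coprime_iff_not_dvd.2 hk).symm) ?_ ?_
      · exact Subgroup.orderOf_dvd_natCard _ hker
      · exact (Subgroup.orderOf_dvd_natCard _ hna).trans (by rw [Nat.card_zpowers, ha])
    have hnC : n ∈ Subgroup.centralizer ({a} : Set G) := by
      rw [Subgroup.mem_centralizer_singleton_iff]
      calc n * a = n * a * n⁻¹ * a⁻¹ * (a * n) := by group
        _ = a * n := by rw [h1, one_mul]
    exact Subgroup.le_normalizer_map f ⟨n, centralizer_le_normalizer_centralizerPPrimeCore a hnC, rfl⟩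

/-- Local `k`-balance of the components of centralizers gives `k`-balance. -/
theorem isKBalanced_of_components {k : ℕ} (hk : 1 ≤ k)
    (h : ∀ x : G, orderOf x = p → ∀ K : Subgroup (↥(Subgroup.centralizer ({x} : Set G)) ⧸
      pPrimeCore p ↥(Subgroup.centralizer ({x} : Set G))), IsComponent K →
        IsLocallyKBalanced p k (↥K ⧸ Subgroup.center ↥K)) :
    IsKBalanced p k G := by
  intro A hA hcard b hb hcomm y hy
  have hyD := mem_signalizerDelta.1 hy.1
  have hyb := hy.2
  set C := Subgroup.centralizer ({b} : Set G) with hC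
  have hAC : A ≤ C := fun a ha => Subgroup.mem_centralizer_singleton_iff.2 (hcomm a ha)
  set π := QuotientGroup.mk' (pPrimeCore p ↥C) with hπ
  have hker : ¬ p ∣ Nat.card ↥π.ker := by
    rw [hπ, QuotientGroup.ker_mk']; exact Cores.not_dvd_card_pPrimeCore p
  have hinj : ∀ u : ↥(A.subgroupOf C), π (u : ↥C) = 1 → u = 1 := by
    rintro ⟨u, hu⟩ h1
    have hu' : orderOf u ∣ p := orderOf_dvd_of_pow_eq_one (Subtype.ext (hA.2 _ hu))
    have h2 := Subgroup.orderOf_dvd_natCard _ ((QuotientGroup.eq_one_iff u).1 h1)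
    have h3 : orderOf u = 1 :=
      Nat.eq_one_of_dvd_coprimes (Cores.pPrimeCore_coprime (G := ↥C) p) h2 hu'
    exact Subtype.ext (orderOf_eq_one_iff.1 h3)
  set Ab := (A.subgroupOf C).map π with hAb
  have hAbE : IsElementaryAbelian p Ab := by
    haveI := hA.1
    refine ⟨⟨⟨?_⟩⟩, ?_⟩
    · rintro ⟨_, u, hu, rfl⟩ ⟨_, v, hv, rfl⟩
      refine Subtype.ext ?_
      show π u * π v = π v * π u
      rw [← map_mul, ← map_mul]
      have e : (⟨(u : G), hu⟩ : ↥A) * ⟨(v : G), hv⟩ = ⟨(v : G), hv⟩ * ⟨(u : G), hu⟩ :=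
        hA.1.is_comm.comm _ _
      exact congrArg π (Subtype.ext (show (u : G) * v = v * u from congrArg Subtype.val e))
    · rintro _ ⟨u, hu, rfl⟩
      rw [← map_pow, show u ^ p = 1 from Subtype.ext (hA.2 _ hu), map_one]
  have hAbcard : Nat.card ↥Ab = p ^ k := by
    rw [hAb, ← hcard, ← Nat.card_congr (Subgroup.subgroupOfEquivOfLe hAC).toEquiv]
    refine (Nat.card_congr (Equiv.ofBijective (π.subgroupMap (A.subgroupOf C))
      ⟨?_, π.subgroupMap_surjective _⟩)).symm
    exact (injective_iff_map_eq_one _).2 fun a h1 => hinj a (congrArg Subtype.val h1)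
  have hdelta : π ⟨y, hyb⟩ ∈ signalizerDelta p Ab := by
    rw [mem_signalizerDelta]
    rintro _ ⟨u, hu, rfl⟩ hu1
    have hu1' : (u : G) ≠ 1 := fun e => hu1 (by rw [show u = 1 from Subtype.ext e, map_one])
    have huo : orderOf u = p := by
      rw [← Subgroup.orderOf_coe]; exact orderOf_eq_prime (hA.2 _ hu) hu1'
    refine map_centralizerPPrimeCore_le π (QuotientGroup.mk'_surjective _) hker huo ⟨⟨y, hyb⟩, ?_, rfl⟩
    refine le_coreIn (p := p) (N := (centralizerPPrimeCore p (u : G)).subgroupOf C) ?_ ?_ ?_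
      (hyD _ hu hu1')
    · intro z hz
      exact Subgroup.mem_centralizer_singleton_iff.2
        (Subtype.ext (Subgroup.mem_centralizer_singleton_iff.1 (centralizerPPrimeCore_le _ hz)))
    · intro z hz
      have h1 : (z : G) ∈ Subgroup.centralizer ({(u : G)} : Set G) :=
        Subgroup.mem_centralizer_singleton_iff.2
          (congrArg Subtype.val (Subgroup.mem_centralizer_singleton_iff.1 hz))
      exact Subgroup.mem_normalizer_iff.2 fun w => Subgroup.mem_normalizer_iff.1
        (centralizer_le_normalizer_centralizerPPrimeCore _ h1) (w : G)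
    · refine (coreIn_coprime (p := p) (Subgroup.centralizer ({(u : G)} : Set G))).coprime_dvd_left ?_
      rw [← Subgroup.card_map_of_injective (f := C.subtype) C.subtype_injective,
        Subgroup.subgroupOf_map_subtype]
      exact Subgroup.card_dvd_of_le inf_le_left
  rw [signalizerDelta_eq_bot_of_components (Cores.pPrimeCore_quotient_pPrimeCore p) hk (h b hb) hAbE
    hAbcard, Subgroup.mem_bot] at hdelta
  exact ⟨⟨y, hyb⟩, (QuotientGroup.eq_one_iff _).1 hdelta, rfl⟩

omit [Finite G] hp in
/-- Local balance is local `1`-balance for the prime `2`. -/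
theorem isLocallyKBalanced_of_isLocallyBalanced {K : Type*} [Group K] (h : IsLocallyBalanced K) :
    IsLocallyKBalanced 2 1 K := by
  intro H hH A hA hcard
  haveI : Finite ↥A := Nat.finite_of_card_ne_zero (by rw [hcard]; decide)
  obtain ⟨a, ha, ha1⟩ := A.nontrivial_iff_exists_ne_one.1
    (Finite.one_lt_card_iff_nontrivial.1 (by rw [hcard]; norm_num))
  exact le_bot_iff.1 ((signalizerDelta_le ha ha1).trans
    (h H hH a (orderOf_eq_prime (hA.2 a ha) ha1)).le)

end Cfsg.Agent.Lib.Balance
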