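import Cfsg.Agent.Lib.Components.PComponent
import Mathlib.GroupTheory.OrderOfElement

/-!
# Pumping up inside a group

`Γ` is a finite group, `σ` an element with `σ ^ p = 1` and `A` a perfect subgroup of
`E(Γ) ∩ C(σ)` which behaves like a component of this group.  Then `A` lies in a `σ`-invariant
component, or in the diagonal of an orbit of `p` components.
-/

set_option autoImplicit false
open Cfsg

namespace Cfsg.Agent.Lib.Balance.Pump

open Subgroup
open Cfsg.Agent.Lib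
open scoped commutatorElement

variable {Γ : Type*} [Group Γ] {p : ℕ}

/-- The `i`-th conjugate of `J` under `σ`. -/
def shift (σ : Γ) (J : Subgroup Γ) (i : ℕ) : Subgroup Γ := J.map (MulAut.conj (σ ^ i)).toMonoidHom

theorem mem_shift {σ : Γ} {J : Subgroup Γ} {i : ℕ} {g : Γ} :
    g ∈ shift σ J i ↔ (σ ^ i)⁻¹ * g * σ ^ i ∈ J := by
  rw [shift, Subgroup.mem_map_equiv, MulAut.conj_symm_apply]

theorem conj_mem_shift {σ : Γ} {J : Subgroup Γ} {j : Γ} (hj : j ∈ J) (i : ℕ) :
    σ ^ i * j * (σ ^ i)⁻¹ ∈ shift σ J i := ⟨j, hj, rfl⟩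

theorem shift_zero (σ : Γ) (J : Subgroup Γ) : shift σ J 0 = J := by
  ext g
  simp [mem_shift]

theorem shift_shift (σ : Γ) (J : Subgroup Γ) (i j : ℕ) :
    (shift σ J j).map (MulAut.conj (σ ^ i)).toMonoidHom = shift σ J (i + j) := by
  ext g
  rw [Subgroup.mem_map_equiv, MulAut.conj_symm_apply, mem_shift, mem_shift, pow_add]
  constructor <;> intro h <;> simpa [mul_assoc] using h

theorem shift_mod {σ : Γ} (hσ : σ ^ p = 1) (J : Subgroup Γ) (i : ℕ) :
    shift σ J (i % p) = shift σ J i := by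
  rw [shift, shift, ← pow_eq_pow_mod i hσ]

/-- The product of the first `n` conjugates of `t`. -/
def orbitProd (σ : Γ) : ℕ → Γ → Γ
  | 0, _ => 1
  | n + 1, t => orbitProd σ n t * (σ ^ n * t * (σ ^ n)⁻¹)

/-- The product of the `i`-th powers of the first `n` conjugates of `t`. -/
def orbitPow (σ : Γ) : ℕ → Γ → Γ
  | 0, _ => 1
  | n + 1, t => orbitPow σ n t * (σ ^ n * t * (σ ^ n)⁻¹) ^ n

theorem conj_orbitProd (σ t : Γ) : ∀ n,
    orbitProd σ (n + 1) t = t * (σ * orbitProd σ n t * σ⁻¹)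
  | 0 => by simp [orbitProd]
  | n + 1 => by
    show orbitProd σ (n + 1) t * (σ ^ (n + 1) * t * (σ ^ (n + 1))⁻¹) =
      t * (σ * (orbitProd σ n t * (σ ^ n * t * (σ ^ n)⁻¹)) * σ⁻¹)
    rw [conj_orbitProd σ t n, pow_succ']
    group

theorem conj_shift_elt (σ t : Γ) (n : ℕ) :
    σ * (σ ^ n * t * (σ ^ n)⁻¹) * σ⁻¹ = σ ^ (n + 1) * t * (σ ^ (n + 1))⁻¹ := by
  rw [pow_succ']
  group

theorem orbitProd_commute {σ t g : Γ} : ∀ {n : ℕ},
    (∀ i < n, Commute (σ ^ i * t * (σ ^ i)⁻¹) g) → Commute (orbitProd σ n t) g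
  | 0, _ => Commute.one_left g
  | n + 1, h => (orbitProd_commute fun i hi => h i (by omega)).mul_left (h n n.lt_succ_self)

theorem orbitPow_commute {σ t g : Γ} : ∀ {n : ℕ},
    (∀ i < n, Commute (σ ^ i * t * (σ ^ i)⁻¹) g) → Commute (orbitPow σ n t) g
  | 0, _ => Commute.one_left g
  | n + 1, h => (orbitPow_commute fun i hi => h i (by omega)).mul_left
      ((h n n.lt_succ_self).pow_left n)

theorem orbitProd_mul {σ a b : Γ} : ∀ {n : ℕ},
    (∀ i k, i < k → k < n → Commute (σ ^ i * b * (σ ^ i)⁻¹) (σ ^ k * a * (σ ^ k)⁻¹)) →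
    orbitProd σ n (a * b) = orbitProd σ n a * orbitProd σ n b
  | 0, _ => by simp [orbitProd]
  | n + 1, h => by
    have hc : Commute (orbitProd σ n b) (σ ^ n * a * (σ ^ n)⁻¹) :=
      orbitProd_commute fun i hi => h i n hi n.lt_succ_self
    rw [orbitProd, orbitProd_mul fun i k hik hk => h i k hik (by omega), orbitProd, orbitProd,
      show σ ^ n * (a * b) * (σ ^ n)⁻¹ = (σ ^ n * a * (σ ^ n)⁻¹) * (σ ^ n * b * (σ ^ n)⁻¹) by group]
    calc orbitProd σ n a * orbitProd σ n b * ((σ ^ n * a * (σ ^ n)⁻¹) * (σ ^ n * b * (σ ^ n)⁻¹))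
        = orbitProd σ n a * (orbitProd σ n b * (σ ^ n * a * (σ ^ n)⁻¹)) *
            (σ ^ n * b * (σ ^ n)⁻¹) := by group
      _ = orbitProd σ n a * ((σ ^ n * a * (σ ^ n)⁻¹) * orbitProd σ n b) *
            (σ ^ n * b * (σ ^ n)⁻¹) := by rw [hc.eq]
      _ = _ := by group

theorem orbitProd_conj {σ h : Γ} (hh : h * σ = σ * h) (t : Γ) : ∀ n,
    h * orbitProd σ n t * h⁻¹ = orbitProd σ n (h * t * h⁻¹)
  | 0 => by simp [orbitProd]
  | n + 1 => by
    have hc : h * σ ^ n = σ ^ n * h := (Commute.pow_right (show Commute h σ from hh) n).eq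
    rw [orbitProd, orbitProd, ← orbitProd_conj hh t n]
    calc h * (orbitProd σ n t * (σ ^ n * t * (σ ^ n)⁻¹)) * h⁻¹
        = h * orbitProd σ n t * h⁻¹ * ((h * σ ^ n) * t * (h * σ ^ n)⁻¹) := by group
      _ = h * orbitProd σ n t * h⁻¹ * (σ ^ n * (h * t * h⁻¹) * (σ ^ n)⁻¹) := by rw [hc]; group

theorem conj_orbitPow {σ t : Γ}
    (hc : ∀ i k : ℕ, Commute (σ ^ i * t * (σ ^ i)⁻¹) (σ ^ k * t * (σ ^ k)⁻¹)) : ∀ n,
    σ * orbitPow σ n t * σ⁻¹ * (σ * orbitProd σ n t * σ⁻¹) = orbitPow σ (n + 1) t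
  | 0 => by simp [orbitPow, orbitProd]
  | n + 1 => by
    set c := σ ^ (n + 1) * t * (σ ^ (n + 1))⁻¹ with hcdef
    have hcD : Commute (σ * orbitProd σ n t * σ⁻¹) c := by
      have h1 : Commute (orbitProd σ n t) (σ⁻¹ * c * σ) := by
        have he : σ⁻¹ * c * σ = σ ^ n * t * (σ ^ n)⁻¹ := by
          rw [hcdef, pow_succ']; group
        rw [he]
        exact orbitProd_commute fun i _ => hc i n
      have h2 := h1.map (MulAut.conj σ).toMonoidHom
      simpa [MulAut.conj_apply, mul_assoc] using h2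
    have e1 : σ * orbitPow σ (n + 1) t * σ⁻¹ = σ * orbitPow σ n t * σ⁻¹ * c ^ n := by
      rw [hcdef, ← conj_shift_elt, conj_pow, orbitPow]
      group
    have e2 : σ * orbitProd σ (n + 1) t * σ⁻¹ = σ * orbitProd σ n t * σ⁻¹ * c := by
      rw [hcdef, ← conj_shift_elt, orbitProd]
      group
    have e3 : orbitPow σ (n + 2) t = orbitPow σ (n + 1) t * c ^ (n + 1) := rfl
    rw [e1, e2, e3, ← conj_orbitPow hc n, mul_assoc (σ * orbitPow σ n t * σ⁻¹) (c ^ n),
      ← mul_assoc (c ^ n), ← (hcD.pow_right n).eq, mul_assoc (σ * orbitProd σ n t * σ⁻¹) (c ^ n) c,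
      ← pow_succ, ← mul_assoc]

variable [Finite Γ]

theorem shift_component {σ : Γ} {J : Subgroup Γ} (hJ : IsComponent J) (i : ℕ) :
    IsComponent (shift σ J i) := Components.Component.conj hJ _

/-- If `σ` moves `J`, the conjugates `J, σJ, …` repeat with period exactly `p`. -/
theorem mod_eq_of_shift_eq [hp : Fact p.Prime] {σ : Γ} (hσ : σ ^ p = 1) {J : Subgroup Γ}
    (hne : J.map (MulAut.conj σ).toMonoidHom ≠ J) {i k : ℕ} (h : shift σ J i = shift σ J k) :
    i % p = k % p := by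
  by_contra hik
  wlog hlt : i % p < k % p generalizing i k
  · exact this h.symm (Ne.symm hik) (by omega)
  rw [← shift_mod hσ J i, ← shift_mod hσ J k] at h
  set d := k % p - i % p with hd
  have hd0 : 0 < d := by omega
  have hdp : d < p := lt_of_le_of_lt (Nat.sub_le _ _) (Nat.mod_lt _ hp.out.pos)
  have h1 : shift σ J d = J := by
    apply Subgroup.map_injective (f := (MulAut.conj (σ ^ (i % p))).toMonoidHom) (MulAut.conj _).injective
    rw [shift_shift, show i % p + d = k % p by omega, ← h]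
    rfl
  have hco : d.Coprime (orderOf σ) := (Nat.Coprime.coprime_dvd_right (orderOf_dvd_of_pow_eq_one hσ)
    ((hp.out.coprime_iff_not_dvd.2 (Nat.not_dvd_of_pos_of_lt hd0 hdp)).symm))
  obtain ⟨m, hm⟩ := exists_pow_eq_self_of_coprime hco
  refine hne (Subgroup.mem_normalizer_iff_map_conj_eq.1 ?_)
  rw [← hm]
  exact pow_mem (Subgroup.mem_normalizer_iff_map_conj_eq.2 h1) m

theorem shift_ne [Fact p.Prime] {σ : Γ} (hσ : σ ^ p = 1) {J : Subgroup Γ}
    (hne : J.map (MulAut.conj σ).toMonoidHom ≠ J) {i k : ℕ} (h : i % p ≠ k % p) :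
    shift σ J i ≠ shift σ J k := fun he => h (mod_eq_of_shift_eq hσ hne he)

theorem shift_commute [Fact p.Prime] {σ : Γ} (hσ : σ ^ p = 1) {J : Subgroup Γ} (hJ : IsComponent J)
    (hne : J.map (MulAut.conj σ).toMonoidHom ≠ J) {i k : ℕ} (h : i % p ≠ k % p) {a b : Γ}
    (ha : a ∈ shift σ J i) (hb : b ∈ shift σ J k) : Commute a b :=
  (Subgroup.mem_centralizer_iff.1 (Components.Component.le_centralizer_of_ne (shift_component hJ i)
    (shift_component hJ k) (shift_ne hσ hne h) ha) b hb).symm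

theorem elt_commute [hp : Fact p.Prime] {σ : Γ} (hσ : σ ^ p = 1) {J : Subgroup Γ} (hJ : IsComponent J)
    (hne : J.map (MulAut.conj σ).toMonoidHom ≠ J) {t : Γ} (ht : t ∈ J) (i k : ℕ) :
    Commute (σ ^ i * t * (σ ^ i)⁻¹) (σ ^ k * t * (σ ^ k)⁻¹) := by
  by_cases h : i % p = k % p
  · rw [pow_eq_pow_mod i hσ, pow_eq_pow_mod k hσ, h]
  · exact shift_commute hσ hJ hne h (conj_mem_shift ht i) (conj_mem_shift ht k)

/-- The diagonal homomorphism of an orbit of `p` components. -/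
def diag [hp : Fact p.Prime] {σ : Γ} (hσ : σ ^ p = 1) {J : Subgroup Γ} (hJ : IsComponent J)
    (hne : J.map (MulAut.conj σ).toMonoidHom ≠ J) : ↥J →* Γ :=
  MonoidHom.mk' (fun j => orbitProd σ p (j : Γ)) fun a b => by
    refine orbitProd_mul fun i k hik hk => shift_commute hσ hJ hne ?_ (conj_mem_shift b.2 i)
      (conj_mem_shift a.2 k)
    rw [Nat.mod_eq_of_lt (hik.trans hk), Nat.mod_eq_of_lt hk]
    omega

theorem diag_apply [Fact p.Prime] {σ : Γ} (hσ : σ ^ p = 1) {J : Subgroup Γ} (hJ : IsComponent J)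
    (hne : J.map (MulAut.conj σ).toMonoidHom ≠ J) (j : ↥J) :
    diag hσ hJ hne j = orbitProd σ p (j : Γ) := rfl

/-- The product over a whole orbit, with the first factor split off. -/
theorem orbitProd_split [hp : Fact p.Prime] {σ : Γ} (hσ : σ ^ p = 1) {J : Subgroup Γ} {j : Γ}
    (hj : j ∈ J) : ∀ n, 1 ≤ n → n ≤ p →
    j⁻¹ * orbitProd σ n j ∈ ⨆ i : {i : ℕ // ¬ p ∣ i}, shift σ J i
  | 0, h, _ => absurd h (by omega)
  | 1, _, _ => by simp [orbitProd]
  | n + 2, _, h => by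
    rw [orbitProd, ← mul_assoc]
    refine mul_mem (orbitProd_split hσ hj (n + 1) (by omega) (by omega)) ?_
    exact Subgroup.mem_iSup_of_mem
      (⟨n + 1, Nat.not_dvd_of_pos_of_lt n.succ_pos (by omega)⟩ : {i : ℕ // ¬ p ∣ i})
      (conj_mem_shift hj (n + 1))

theorem rest_le_centralizer [hp : Fact p.Prime] {σ : Γ} (hσ : σ ^ p = 1) {J : Subgroup Γ}
    (hJ : IsComponent J) (hne : J.map (MulAut.conj σ).toMonoidHom ≠ J) :
    (⨆ i : {i : ℕ // ¬ p ∣ i}, shift σ J i) ≤ Subgroup.centralizer (J : Set Γ) := by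
  refine iSup_le fun i => ?_
  have h := Components.Component.le_centralizer_of_ne (shift_component (σ := σ) hJ i) hJ ?_
  · exact h
  intro he
  have := mod_eq_of_shift_eq (p := p) hσ hne (he.trans (shift_zero σ J).symm)
  exact i.2 (Nat.dvd_of_mod_eq_zero (by simpa using this))

/-- The product over a whole orbit is fixed by `σ`. -/
theorem orbitProd_fixed [hp : Fact p.Prime] {σ : Γ} (hσ : σ ^ p = 1) {J : Subgroup Γ}
    (hJ : IsComponent J) (hne : J.map (MulAut.conj σ).toMonoidHom ≠ J) {j : Γ} (hj : j ∈ J) :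
    σ * orbitProd σ p j * σ⁻¹ = orbitProd σ p j := by
  have h1 : orbitProd σ (p + 1) j = orbitProd σ p j * j := by
    rw [orbitProd, hσ]; group
  have h2 : Commute (orbitProd σ p j) j := by
    refine orbitProd_commute fun i _ => ?_
    have := elt_commute hσ hJ hne hj i 0
    simpa using this
  rw [conj_orbitProd, h2.eq] at h1
  exact mul_left_cancel h1

/-- Conjugation of `orbitPow` by `σ` divides it by the diagonal element. -/
theorem orbitPow_spec [hp : Fact p.Prime] {σ : Γ} (hσ : σ ^ p = 1) {J : Subgroup Γ}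
    (hJ : IsComponent J) (hne : J.map (MulAut.conj σ).toMonoidHom ≠ J) {t : Γ} (ht : t ∈ J)
    (htp : t ^ p = 1) :
    (orbitPow σ p t)⁻¹ * σ * orbitPow σ p t = (orbitProd σ p t)⁻¹ * σ ∧
      Commute (orbitPow σ p t) (orbitProd σ p t) := by
  have hc := elt_commute hσ hJ hne ht
  have h1 := conj_orbitPow hc p
  rw [orbitProd_fixed hσ hJ hne ht, orbitPow, conj_pow, htp, mul_one, mul_inv_cancel, mul_one] at h1
  have hcomm : Commute (orbitPow σ p t) (orbitProd σ p t) :=
    orbitPow_commute fun i _ => (orbitProd_commute fun k _ => hc k i).symm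
  refine ⟨?_, hcomm⟩
  set U := orbitPow σ p t
  set D := orbitProd σ p t
  have h2 : σ * U = U * D⁻¹ * σ := by
    have := eq_mul_inv_of_mul_eq h1
    exact mul_inv_eq_iff_eq_mul.1 this
  calc U⁻¹ * σ * U = U⁻¹ * (σ * U) := by group
    _ = U⁻¹ * (U * D⁻¹ * σ) := by rw [h2]
    _ = D⁻¹ * σ := by group

theorem normalizer_le_centralizer_normalizer (F : Subgroup Γ) :
    Subgroup.normalizer (F : Set Γ) ≤
      Subgroup.normalizer (Subgroup.centralizer (F : Set Γ) : Set Γ) := by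
  have key : ∀ e ∈ Subgroup.normalizer (F : Set Γ), ∀ x ∈ Subgroup.centralizer (F : Set Γ),
      e * x * e⁻¹ ∈ Subgroup.centralizer (F : Set Γ) := by
    intro e he x hx
    refine Subgroup.mem_centralizer_iff.2 fun f hf => ?_
    have h' : e⁻¹ * f * e ∈ F := by
      rw [Subgroup.mem_normalizer_iff.1 he]; simpa [mul_assoc] using hf
    have h1 := Subgroup.mem_centralizer_iff.1 hx _ h'
    calc f * (e * x * e⁻¹) = e * ((e⁻¹ * f * e) * x) * e⁻¹ := by group
      _ = e * (x * (e⁻¹ * f * e)) * e⁻¹ := by rw [h1]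
      _ = _ := by group
  intro e he
  rw [Subgroup.mem_normalizer_iff]
  refine fun x => ⟨key e he x, fun hx => ?_⟩
  simpa [mul_assoc] using key _ (inv_mem he) _ hx

theorem layer_le_normalizer_shift {σ : Γ} {J : Subgroup Γ} (hJ : IsComponent J) :
    layer Γ ≤ Subgroup.normalizer ((⨆ i : ℕ, shift σ J i : Subgroup Γ) : Set Γ) := by
  have key : ∀ e ∈ layer Γ, (⨆ i : ℕ, shift σ J i).map (MulAut.conj e).toMonoidHom
      ≤ ⨆ i : ℕ, shift σ J i := by
    intro e he
    rw [Subgroup.map_iSup]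
    refine iSup_le fun i => le_trans (le_of_eq ?_) (le_iSup (fun i : ℕ => shift σ J i) i)
    exact Subgroup.mem_normalizer_iff_map_conj_eq.1
      (Components.Layer.layer_le_normalizer (shift_component hJ i) he)
  intro e he
  rw [Subgroup.mem_normalizer_iff]
  refine fun x => ⟨fun hx => key e he ⟨x, hx, rfl⟩, fun hx => ?_⟩
  have := key _ (inv_mem he) ⟨_, hx, rfl⟩
  simpa [mul_assoc] using this

theorem conj_mem_orbit {σ : Γ} {J : Subgroup Γ} {g : Γ}
    (hg : g ∈ ⨆ i : ℕ, shift σ J i) (k : ℕ) :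
    σ ^ k * g * (σ ^ k)⁻¹ ∈ ⨆ i : ℕ, shift σ J i := by
  have h : (⨆ i : ℕ, shift σ J i).map (MulAut.conj (σ ^ k)).toMonoidHom ≤ ⨆ i : ℕ, shift σ J i := by
    rw [Subgroup.map_iSup]
    refine iSup_le fun i => ?_
    rw [shift_shift]
    exact le_iSup (fun i : ℕ => shift σ J i) _
  exact h ⟨g, hg, rfl⟩

/-- The conclusion in the diagonal case. -/
def IsDiagonal (p : ℕ) (σ : Γ) (A J : Subgroup Γ) : Prop :=
  J.map (MulAut.conj σ).toMonoidHom ≠ J ∧
    (∀ a ∈ A, ∃ j ∈ J, orbitProd σ p j = a) ∧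
    (∀ K : Subgroup Γ, IsComponent K → ⁅A, K⁆ ≠ ⊥ → ∃ i : ℕ, K = shift σ J i) ∧
    ∀ i : ℕ, ⁅A, shift σ J i⁆ ≠ ⊥

/-- **Pumping up.** -/
theorem pump [hp : Fact p.Prime] {σ : Γ} (hσ : σ ^ p = 1) {A : Subgroup Γ} (hperf : ⁅A, A⁆ = A)
    (hA1 : A ≠ ⊥) (hAE : A ≤ layer Γ) (hAσ : ∀ a ∈ A, σ * a = a * σ)
    (hdich : ∀ M : Subgroup Γ, M ≤ layer Γ ⊓ Subgroup.centralizer ({σ} : Set Γ) →
      layer Γ ⊓ Subgroup.centralizer ({σ} : Set Γ) ≤ Subgroup.normalizer (M : Set Γ) →
      A ≤ M ∨ ¬ p ∣ Nat.card ↥⁅M, A⁆)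
    (hquot : ∀ N : Subgroup Γ, A ≤ Subgroup.normalizer (N : Set Γ) → ¬ p ∣ N.relIndex A → A ≤ N) :
    ∃ J : Subgroup Γ, IsComponent J ∧ Nat.card ↥A ≤ Nat.card ↥J ∧
      (A ≤ J ∨ IsDiagonal p σ A J) := by
  classical
  -- a component not centralized by `A`
  obtain ⟨J, hJ, hAJ⟩ : ∃ J : Subgroup Γ, IsComponent J ∧ ⁅A, J⁆ ≠ ⊥ := by
    by_contra hc
    push Not at hc
    have h1 : layer Γ ≤ Subgroup.centralizer (A : Set Γ) := sSup_le fun K hK => by
      rw [← Subgroup.commutator_eq_bot_iff_le_centralizer, Subgroup.commutator_comm]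
      exact hc K hK
    refine hA1 ?_
    rw [← hperf, Subgroup.commutator_eq_bot_iff_le_centralizer]
    exact hAE.trans h1
  set E := layer Γ with hE
  set F := ⨆ i : ℕ, shift σ J i with hF
  set CF := F ⊓ Subgroup.centralizer ({σ} : Set Γ) with hCF
  set CE := E ⊓ Subgroup.centralizer (F : Set Γ) with hCE
  have hshE : ∀ i : ℕ, shift σ J i ≤ E := fun i =>
    Components.Layer.component_le_layer (shift_component hJ i)
  have hFE : F ≤ E := iSup_le hshE
  have hEF : E ≤ Subgroup.normalizer (F : Set Γ) := layer_le_normalizer_shift hJ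
  have hEsplit : E ≤ F ⊔ CE := by
    refine sSup_le fun K hK => ?_
    by_cases h : ∃ i : ℕ, K = shift σ J i
    · obtain ⟨i, rfl⟩ := h
      exact le_sup_of_le_left (le_iSup (fun i : ℕ => shift σ J i) i)
    · refine le_sup_of_le_right (le_inf (Components.Layer.component_le_layer hK) ?_)
      rw [Subgroup.le_centralizer_iff]
      exact iSup_le fun i => Components.Component.le_centralizer_of_ne (shift_component hJ i) hK
        fun he => h ⟨i, he.symm⟩
  have hECF : E ≤ Subgroup.normalizer (Subgroup.centralizer (F : Set Γ) : Set Γ) :=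
    hEF.trans (normalizer_le_centralizer_normalizer F)
  have hECE : E ≤ Subgroup.normalizer (CE : Set Γ) := by
    intro e he
    rw [Subgroup.mem_normalizer_iff]
    intro x
    have h1 := Subgroup.mem_normalizer_iff.1 (hECF he) x
    have h2 := Subgroup.mem_normalizer_iff.1 (Subgroup.le_normalizer he) x
    exact ⟨fun hx => ⟨h2.1 hx.1, h1.1 hx.2⟩, fun hx => ⟨h2.2 hx.1, h1.2 hx.2⟩⟩
  have hCEn : F ≤ Subgroup.normalizer (CE : Set Γ) := hFE.trans hECE
  have hdec : ∀ a ∈ A, ∃ f ∈ F, ∃ c ∈ CE, a = f * c := by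
    intro a ha
    have := hEsplit (hAE ha)
    rw [← SetLike.mem_coe, Subgroup.coe_mul_of_left_le_normalizer_right _ _ hCEn, Set.mem_mul] at this
    obtain ⟨f, hf, c, hc, he⟩ := this
    exact ⟨f, hf, c, hc, he.symm⟩
  -- `A` lies in `C_F(σ) C_E(F)`
  have hA2 : A ≤ CF ⊔ CE := by
    rw [← hperf, Subgroup.commutator_le]
    intro a ha b hb
    obtain ⟨f, hf, c, hc, rfl⟩ := hdec a ha
    obtain ⟨g, hg, d, hd, rfl⟩ := hdec b hb
    have hfd : Commute f d := Subgroup.mem_centralizer_iff.1 hd.2 f hf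
    have hgc : Commute g c := Subgroup.mem_centralizer_iff.1 hc.2 g hg
    have e1 : ⁅f * c, g * d⁆ = ⁅f, g⁆ * ⁅c, d⁆ := by
      have hfc : Commute f c := Subgroup.mem_centralizer_iff.1 hc.2 f hf
      have hgd : Commute g d := Subgroup.mem_centralizer_iff.1 hd.2 g hg
      calc ⁅f * c, g * d⁆ = f * ((c * g) * d * c⁻¹) * f⁻¹ * d⁻¹ * g⁻¹ := by
            rw [commutatorElement_def]; group
        _ = f * ((g * c) * d * c⁻¹) * f⁻¹ * d⁻¹ * g⁻¹ := by rw [hgc.eq]
        _ = f * g * ((c * d * c⁻¹) * f⁻¹) * d⁻¹ * g⁻¹ := by group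
        _ = f * g * (f⁻¹ * (c * d * c⁻¹)) * d⁻¹ * g⁻¹ := by
            rw [(((hfc.mul_right hfd).mul_right hfc.inv_right).symm.inv_right).eq]
        _ = f * g * f⁻¹ * (⁅c, d⁆ * g⁻¹) := by rw [commutatorElement_def]; group
        _ = f * g * f⁻¹ * (g⁻¹ * ⁅c, d⁆) := by
            rw [show ⁅c, d⁆ = c * d * c⁻¹ * d⁻¹ from commutatorElement_def c d,
              ((((hgc.mul_right hgd).mul_right hgc.inv_right).mul_right hgd.inv_right).symm.inv_right).eq]
        _ = _ := by rw [commutatorElement_def f g]; group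
    rw [e1]
    refine Subgroup.mul_mem_sup (Subgroup.mem_inf.2 ⟨?_, ?_⟩) ?_
    · rw [commutatorElement_def]
      exact mul_mem (mul_mem (mul_mem hf hg) (inv_mem hf)) (inv_mem hg)
    · -- the error terms are central in `F`
      have herr : ∀ u ∈ F, ∀ w ∈ CE, u * w ∈ A → ∃ z ∈ F ⊓ Subgroup.centralizer (F : Set Γ),
          σ * u * σ⁻¹ = u * z := by
        intro u hu w hw huw
        refine ⟨u⁻¹ * (σ * u * σ⁻¹), Subgroup.mem_inf.2 ⟨?_, ?_⟩, by group⟩
        · exact mul_mem (inv_mem hu) (by simpa using conj_mem_orbit hu 1)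
        · have h1 : σ * (u * w) * σ⁻¹ = u * w := by rw [hAσ _ huw]; group
          have h2 : u⁻¹ * (σ * u * σ⁻¹) = w * (σ * w * σ⁻¹)⁻¹ := by
            rw [eq_mul_inv_iff_mul_eq]
            calc u⁻¹ * (σ * u * σ⁻¹) * (σ * w * σ⁻¹) = u⁻¹ * (σ * (u * w) * σ⁻¹) := by group
              _ = u⁻¹ * (u * w) := by rw [h1]
              _ = w := by group
          rw [h2]
          refine mul_mem hw.2 (inv_mem (Subgroup.mem_centralizer_iff.2 fun x hx => ?_))
          have hx' : σ⁻¹ * x * σ ∈ F := by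
            have := conj_mem_orbit hx (p - 1)
            have e : σ ^ (p - 1) = σ⁻¹ := by
              refine eq_inv_of_mul_eq_one_left ?_
              rw [← pow_succ, Nat.sub_add_cancel hp.out.pos, hσ]
            rwa [e, inv_inv] at this
          have h3 := Subgroup.mem_centralizer_iff.1 hw.2 _ hx'
          calc x * (σ * w * σ⁻¹) = σ * ((σ⁻¹ * x * σ) * w) * σ⁻¹ := by group
            _ = σ * (w * (σ⁻¹ * x * σ)) * σ⁻¹ := by rw [h3]
            _ = _ := by group
      obtain ⟨z, hz, hzf⟩ := herr f hf c hc ha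
      obtain ⟨z', hz', hzg⟩ := herr g hg d hd hb
      refine Subgroup.mem_centralizer_singleton_iff.2 ?_
      have h4 : σ * ⁅f, g⁆ * σ⁻¹ = ⁅f, g⁆ := by
        have h5 : σ * ⁅f, g⁆ * σ⁻¹ = ⁅σ * f * σ⁻¹, σ * g * σ⁻¹⁆ := by
          rw [commutatorElement_def, commutatorElement_def]; group
        rw [h5, hzf, hzg]
        have k1 : ∀ u ∈ F, Commute u z := fun u hu => Subgroup.mem_centralizer_iff.1 hz.2 u hu
        have k2 : ∀ u ∈ F, Commute u z' := fun u hu => Subgroup.mem_centralizer_iff.1 hz'.2 u hu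
        calc ⁅f * z, g * z'⁆ = f * (z * g) * (z' * z⁻¹) * f⁻¹ * z'⁻¹ * g⁻¹ := by
              rw [commutatorElement_def]; group
          _ = f * (g * z) * (z⁻¹ * z') * f⁻¹ * z'⁻¹ * g⁻¹ := by
              rw [(k1 g hg).eq, ((k2 z hz.1).inv_left).eq]
          _ = f * g * (z' * f⁻¹) * z'⁻¹ * g⁻¹ := by group
          _ = f * g * (f⁻¹ * z') * z'⁻¹ * g⁻¹ := by rw [((k2 f hf).inv_left).eq]
          _ = ⁅f, g⁆ := by rw [commutatorElement_def]; group
      exact (mul_inv_eq_iff_eq_mul.1 h4).symm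
    · rw [commutatorElement_def]
      exact mul_mem (mul_mem (mul_mem hc hd) (inv_mem hc)) (inv_mem hd)
  -- hence `A ≤ C_F(σ)`
  have hCFn : E ⊓ Subgroup.centralizer ({σ} : Set Γ) ≤ Subgroup.normalizer (CF : Set Γ) := by
    intro e he
    rw [Subgroup.mem_normalizer_iff]
    intro x
    have h1 := Subgroup.mem_normalizer_iff.1 (hEF he.1) x
    have h2 := Subgroup.mem_normalizer_iff.1 (Subgroup.le_normalizer he.2) x
    exact ⟨fun hx => ⟨h1.1 hx.1, h2.1 hx.2⟩, fun hx => ⟨h1.2 hx.1, h2.2 hx.2⟩⟩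
  have hAF : A ≤ CF := by
    refine (hdich CF (inf_le_inf_right _ hFE) hCFn).resolve_right fun hW => ?_
    have hAC : A ≤ E ⊓ Subgroup.centralizer ({σ} : Set Γ) :=
      le_inf hAE fun a ha => Subgroup.mem_centralizer_singleton_iff.2 (hAσ a ha).symm
    set W := ⁅CF, A⁆ with hWdef
    have hWE : W ≤ E := Subgroup.commutator_le.2 fun x hx a ha => by
      rw [commutatorElement_def]
      exact mul_mem (mul_mem (mul_mem (hFE hx.1) (hAE ha)) (inv_mem (hFE hx.1))) (inv_mem (hAE ha))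
    have hA3 : A ≤ W ⊔ CE := by
      rw [← hperf, Subgroup.commutator_le]
      intro a ha b hb
      have hb' := hA2 hb
      rw [← SetLike.mem_coe, Subgroup.coe_mul_of_left_le_normalizer_right _ _
        ((inf_le_left : CF ≤ F).trans hCEn), Set.mem_mul] at hb'
      obtain ⟨f, hf, c, hc, rfl⟩ := hb'
      have e : ⁅a, f * c⁆ = ⁅a, f⁆ * (f * ⁅a, c⁆ * f⁻¹) := by
        rw [commutatorElement_def, commutatorElement_def, commutatorElement_def]; group
      rw [e]
      refine Subgroup.mul_mem_sup ?_ ?_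
      · rw [hWdef, Subgroup.commutator_comm]
        exact Subgroup.commutator_mem_commutator ha hf
      · refine (Subgroup.mem_normalizer_iff.1 (hCEn hf.1) _).1 ?_
        rw [commutatorElement_def]
        exact mul_mem ((Subgroup.mem_normalizer_iff.1 (hECE (hAE ha)) c).1 hc) (inv_mem hc)
    have hWCE : W ≤ Subgroup.normalizer (CE : Set Γ) := hWE.trans hECE
    have hle : A ≤ CE := by
      refine hquot CE (hAE.trans hECE) fun hdvd => hW ?_
      haveI : (CE.subgroupOf (W ⊔ CE)).Normal :=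
        Subgroup.normal_subgroupOf_of_le_normalizer (sup_le hWCE Subgroup.le_normalizer)
      have h1 : (CE.subgroupOf (W ⊔ CE)).relIndex (A.subgroupOf (W ⊔ CE)) = CE.relIndex A :=
        Subgroup.relIndex_subgroupOf hA3
      have h2 : (CE.subgroupOf (W ⊔ CE)).relIndex (W.subgroupOf (W ⊔ CE)) = CE.relIndex W :=
        Subgroup.relIndex_subgroupOf le_sup_left
      have h3 : W.subgroupOf (W ⊔ CE) ⊔ CE.subgroupOf (W ⊔ CE) = ⊤ := by
        rw [← Subgroup.subgroupOf_sup le_sup_left le_sup_right, Subgroup.subgroupOf_self]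
      have h4 : (CE.subgroupOf (W ⊔ CE)).index =
          (CE.subgroupOf (W ⊔ CE)).relIndex (W.subgroupOf (W ⊔ CE)) := by
        rw [← Subgroup.relIndex_top_right, ← h3, Subgroup.relIndex_sup_right]
      have h5 := (CE.subgroupOf (W ⊔ CE)).relIndex_dvd_index_of_normal (A.subgroupOf (W ⊔ CE))
      rw [h1, h4, h2] at h5
      exact (hdvd.trans h5).trans (Subgroup.relIndex_dvd_card _ _)
    refine hAJ ?_
    rw [Subgroup.commutator_eq_bot_iff_le_centralizer]
    exact (hle.trans inf_le_right).trans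
      (Subgroup.centralizer_le ((shift_zero σ J).ge.trans (le_iSup (fun i : ℕ => shift σ J i) 0)))
  by_cases hJσ : J.map (MulAut.conj σ).toMonoidHom = J
  · have hFJ : F ≤ J := iSup_le fun i => le_of_eq <| Subgroup.mem_normalizer_iff_map_conj_eq.1
      (pow_mem (Subgroup.mem_normalizer_iff_map_conj_eq.2 hJσ) i)
    have hAJ' : A ≤ J := hAF.trans (inf_le_left.trans hFJ)
    exact ⟨J, hJ, Subgroup.card_le_of_le hAJ', Or.inl hAJ'⟩
  · set R := ⨆ i : {i : ℕ // ¬ p ∣ i}, shift σ J i with hR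
    have hRC : R ≤ Subgroup.centralizer (J : Set Γ) := rest_le_centralizer hσ hJ hJσ
    have hFsplit : F ≤ J ⊔ R := iSup_le fun i => by
      by_cases h : p ∣ i
      · refine le_sup_of_le_left (le_of_eq ?_)
        rw [← shift_mod hσ, Nat.mod_eq_zero_of_dvd h, shift_zero]
      · exact le_sup_of_le_right (le_iSup (fun i : {i : ℕ // ¬ p ∣ i} => shift σ J i) ⟨i, h⟩)
    have hRF : R ≤ F := iSup_le fun i => le_iSup (fun i : ℕ => shift σ J i) i
    set δ := diag hσ hJ hJσ with hδ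
    have hCFδ : CF ≤ δ.range ⊔ (F ⊓ Subgroup.centralizer (F : Set Γ)) := by
      intro f hf
      have hf' := hFsplit hf.1
      rw [← SetLike.mem_coe, Subgroup.coe_mul_of_right_le_normalizer_left _ _
        (hRC.trans (Subgroup.centralizer_le_normalizer _)), Set.mem_mul] at hf'
      obtain ⟨j, hj, f1, hf1, rfl⟩ := hf'
      obtain ⟨r, hr, hDr⟩ : ∃ r ∈ R, orbitProd σ p j = j * r :=
        ⟨j⁻¹ * orbitProd σ p j, orbitProd_split hσ hj p hp.out.one_le le_rfl, by group⟩
      have hjr : ∀ w ∈ R, Commute j w := fun w hw => Subgroup.mem_centralizer_iff.1 (hRC hw) j hj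
      set g := (orbitProd σ p j)⁻¹ * (j * f1) with hg
      have hgR : g = r⁻¹ * f1 := by rw [hg, hDr]; group
      have hgR' : g ∈ R := hgR ▸ mul_mem (inv_mem hr) hf1
      have hfixg : σ * g * σ⁻¹ = g := by
        have h1 := orbitProd_fixed hσ hJ hJσ hj
        have h2 : σ * (j * f1) * σ⁻¹ = j * f1 := by
          rw [← Subgroup.mem_centralizer_singleton_iff.1 hf.2]; group
        calc σ * g * σ⁻¹ = (σ * orbitProd σ p j * σ⁻¹)⁻¹ * (σ * (j * f1) * σ⁻¹) := by rw [hg]; group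
          _ = g := by rw [h1, h2, hg]
      have hfixk : ∀ k : ℕ, σ ^ k * g * (σ ^ k)⁻¹ = g := by
        intro k
        rw [((show Commute σ g from mul_inv_eq_iff_eq_mul.1 hfixg).pow_left k).eq, mul_inv_cancel_right]
      have hgF : g ∈ Subgroup.centralizer (F : Set Γ) := by
        have h1 : F ≤ Subgroup.centralizer ({g} : Set Γ) := iSup_le fun i => by
          intro x hx
          rw [mem_shift] at hx
          have h3 := Subgroup.mem_centralizer_iff.1 (hRC hgR') _ hx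
          have h5 := hfixk i
          rw [Subgroup.mem_centralizer_singleton_iff]
          calc x * g = σ ^ i * ((σ ^ i)⁻¹ * x * σ ^ i) * (σ ^ i)⁻¹ * (σ ^ i * g * (σ ^ i)⁻¹) := by
                rw [h5]; group
            _ = σ ^ i * (((σ ^ i)⁻¹ * x * σ ^ i) * g) * (σ ^ i)⁻¹ := by group
            _ = σ ^ i * (g * ((σ ^ i)⁻¹ * x * σ ^ i)) * (σ ^ i)⁻¹ := by rw [h3]
            _ = σ ^ i * g * (σ ^ i)⁻¹ * x := by group
            _ = g * x := by rw [h5]
        exact Subgroup.mem_centralizer_iff.2 fun x hx =>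
          Subgroup.mem_centralizer_singleton_iff.1 (h1 hx)
      rw [show j * f1 = orbitProd σ p j * g by rw [hg]; group]
      exact Subgroup.mul_mem_sup ⟨⟨j, hj⟩, rfl⟩ ⟨hRF hgR', hgF⟩
    have hδF : δ.range ≤ F := by
      rintro _ ⟨j, rfl⟩
      rw [hδ, diag_apply]
      obtain ⟨r, hr, hDr⟩ : ∃ r ∈ R, orbitProd σ p (j : Γ) = j * r :=
        ⟨(j : Γ)⁻¹ * orbitProd σ p (j : Γ), orbitProd_split hσ j.2 p hp.out.one_le le_rfl, by group⟩
      rw [hDr]
      exact mul_mem ((shift_zero σ J).ge.trans (le_iSup (fun i : ℕ => shift σ J i) 0) j.2) (hRF hr)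
    have hAδ : A ≤ δ.range := by
      rw [← hperf, Subgroup.commutator_le]
      intro a ha b hb
      set Z := F ⊓ Subgroup.centralizer (F : Set Γ) with hZ
      have hn : δ.range ≤ Subgroup.normalizer (Z : Set Γ) := by
        intro u hu
        rw [Subgroup.mem_normalizer_iff]
        intro x
        refine ⟨fun hx => ?_, fun hx => ?_⟩
        · rwa [Subgroup.mem_centralizer_iff.1 hx.2 u (hδF hu), mul_inv_cancel_right]
        · have h1 := Subgroup.mem_centralizer_iff.1 hx.2 u (hδF hu)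
          have h6 : u * x * u⁻¹ = x := by
            calc u * x * u⁻¹ = u⁻¹ * (u * (u * x * u⁻¹)) := by group
              _ = u⁻¹ * ((u * x * u⁻¹) * u) := by rw [h1]
              _ = x := by group
          rwa [h6] at hx
      have ha' := hCFδ (hAF ha)
      have hb' := hCFδ (hAF hb)
      rw [← SetLike.mem_coe, Subgroup.coe_mul_of_left_le_normalizer_right _ _ hn, Set.mem_mul] at ha' hb'
      obtain ⟨u, hu, z, hz, rfl⟩ := ha'
      obtain ⟨w, hw, z', hz', rfl⟩ := hb'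
      have k1 : ∀ v ∈ F, Commute v z := fun v hv => Subgroup.mem_centralizer_iff.1 hz.2 v hv
      have k2 : ∀ v ∈ F, Commute v z' := fun v hv => Subgroup.mem_centralizer_iff.1 hz'.2 v hv
      have e : ⁅u * z, w * z'⁆ = ⁅u, w⁆ := by
        calc ⁅u * z, w * z'⁆ = u * (z * w) * (z' * z⁻¹) * u⁻¹ * z'⁻¹ * w⁻¹ := by
              rw [commutatorElement_def]; group
          _ = u * (w * z) * (z⁻¹ * z') * u⁻¹ * z'⁻¹ * w⁻¹ := by
              rw [(k1 w (hδF hw)).eq, ((k2 z hz.1).inv_left).eq]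
          _ = u * w * (z' * u⁻¹) * z'⁻¹ * w⁻¹ := by group
          _ = u * w * (u⁻¹ * z') * z'⁻¹ * w⁻¹ := by rw [((k2 u (hδF hu)).inv_left).eq]
          _ = ⁅u, w⁆ := by rw [commutatorElement_def]; group
      rw [e, commutatorElement_def]
      exact mul_mem (mul_mem (mul_mem hu hw) (inv_mem hu)) (inv_mem hw)
    refine ⟨J, hJ, (Subgroup.card_le_of_le hAδ).trans
      (Nat.le_of_dvd Nat.card_pos (Subgroup.card_range_dvd δ)), Or.inr ⟨hJσ, fun a ha => ?_, ?_, ?_⟩⟩
    · obtain ⟨j, hj⟩ := hAδ ha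
      exact ⟨j, j.2, hj⟩
    · intro K hK hAK
      by_contra hne
      push Not at hne
      refine hAK ?_
      rw [Subgroup.commutator_eq_bot_iff_le_centralizer]
      refine (hAF.trans inf_le_left).trans ?_
      exact iSup_le fun i => Components.Component.le_centralizer_of_ne (shift_component hJ i) hK
        fun he => hne i he.symm
    · intro i hi
      refine hAJ ?_
      rw [Subgroup.commutator_eq_bot_iff_le_centralizer] at hi ⊢
      intro a ha
      refine Subgroup.mem_centralizer_iff.2 fun j hj => ?_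
      have h1 := Subgroup.mem_centralizer_iff.1 (hi ha) _ (conj_mem_shift hj i)
      have h2 : a * σ ^ i = σ ^ i * a := ((show Commute σ a from hAσ a ha).pow_left i).eq.symm
      calc j * a = (σ ^ i)⁻¹ * (σ ^ i * j * (σ ^ i)⁻¹) * (σ ^ i * a) := by group
        _ = (σ ^ i)⁻¹ * (σ ^ i * j * (σ ^ i)⁻¹) * (a * σ ^ i) := by rw [h2]
        _ = (σ ^ i)⁻¹ * ((σ ^ i * j * (σ ^ i)⁻¹) * a) * σ ^ i := by group
        _ = (σ ^ i)⁻¹ * (a * (σ ^ i * j * (σ ^ i)⁻¹)) * σ ^ i := by rw [h1]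
        _ = (σ ^ i)⁻¹ * (a * σ ^ i) * j * ((σ ^ i)⁻¹ * σ ^ i) := by group
        _ = (σ ^ i)⁻¹ * (σ ^ i * a) * j * ((σ ^ i)⁻¹ * σ ^ i) := by rw [h2]
        _ = a * j := by group

end Cfsg.Agent.Lib.Balance.Pump
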