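import Cfsg.Agent.Lib.Balance.Pump
import Cfsg.Agent.Lib.Balance.SchreierBalance
import Cfsg.Agent.Lib.Balance.LBalance
import Cfsg.Agent.Lib.PTerminal.Basic
import Cfsg.Agent.Lib.Coprime.Glauberman

/-!
# Pumping up pairs `(x, K)`

For a `p`-component `K` of `C(x)` with `|K / O_{p'}(K)|` as large as possible and an element `y` of
order `p` centralizing `K / O_{p'}(K)`, the `p`-layer of `C_K(y)` lies in a single `p`-component of
`C(y)` of the same type, or is diagonal in `p` of them permuted by `x`.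
-/

set_option autoImplicit false
open Cfsg

namespace Cfsg.Agent.Lib.Balance.PumpUp

open Subgroup
open Cfsg.Agent.Lib
open scoped commutatorElement Pointwise

variable {G : Type*} [Group G] {p : ℕ}

/-- `C(y) / O_{p'}(C(y))`. -/
abbrev Bar (p : ℕ) (y : G) : Type _ :=
  ↥(Subgroup.centralizer ({y} : Set G)) ⧸ pPrimeCore p ↥(Subgroup.centralizer ({y} : Set G))

/-- The projection to `C(y) / O_{p'}(C(y))`. -/
abbrev pr (p : ℕ) (y : G) : ↥(Subgroup.centralizer ({y} : Set G)) →* Bar p y :=
  QuotientGroup.mk' _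

/-- The image of a subgroup in `C(y) / O_{p'}(C(y))`. -/
abbrev img (p : ℕ) (y : G) (H : Subgroup G) : Subgroup (Bar p y) :=
  (H.subgroupOf (Subgroup.centralizer ({y} : Set G))).map (pr p y)

/-- The order of `K / O_{p'}(K)`. -/
noncomputable def size (p : ℕ) (K : Subgroup G) : ℕ := Nat.card (↥K ⧸ pPrimeCore p ↥K)

/-- The `p`-layer of `C_K(S)`. -/
abbrev lay (p : ℕ) (K : Subgroup G) (S : Set G) : Subgroup G :=
  pLayerOf p (K ⊓ Subgroup.centralizer S)

/-- The single pump-up case. -/
def IsSingle (p : ℕ) (K : Subgroup G) (y : G) : Prop :=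
  ∃ J : Subgroup G, IsPComponentOf p J (Subgroup.centralizer ({y} : Set G)) ∧ lay p K {y} ≤ J ∧
    Nonempty (↥J ⧸ pPrimeCore p ↥J ≃* ↥K ⧸ pPrimeCore p ↥K)

/-- The diagonal pump-up case. -/
def IsDiag (p : ℕ) (x : G) (K : Subgroup G) (y : G) : Prop :=
  ∃ hx : x ∈ Subgroup.centralizer ({y} : Set G), ∃ J : Subgroup (Bar p y), IsComponent J ∧
    Nat.card ↥J = size p K ∧ Pump.IsDiagonal p (pr p y ⟨x, hx⟩) (img p y (lay p K {y})) J

section General

variable [Finite G]

theorem coprime_card_of_isPGroup [hp : Fact p.Prime] {R N : Subgroup G} (hR : IsPGroup p ↥R)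
    (hN : ¬ p ∣ Nat.card ↥N) : (Nat.card ↥R).Coprime (Nat.card ↥N) := by
  obtain ⟨k, hk⟩ := IsPGroup.iff_card.1 hR
  rw [hk]
  exact (hp.out.coprime_iff_not_dvd.2 hN).pow_left k

theorem mem_eq_one_of_isPGroup [hp : Fact p.Prime] {R N : Subgroup G} (hR : IsPGroup p ↥R)
    (hN : ¬ p ∣ Nat.card ↥N) {g : G} (hgR : g ∈ R) (hgN : g ∈ N) : g = 1 :=
  Subgroup.mem_bot.1 ((Subgroup.inf_eq_bot_of_coprime (coprime_card_of_isPGroup hR hN)) ▸
    (⟨hgR, hgN⟩ : g ∈ R ⊓ N))

theorem not_dvd_relIndex_of_le_sup {A B N : Subgroup G} (hB : B ≤ Subgroup.normalizer (N : Set G))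
    (hle : A ≤ B ⊔ N) (hcard : ¬ p ∣ Nat.card ↥B) : ¬ p ∣ N.relIndex A := by
  intro hdvd
  haveI : (N.subgroupOf (B ⊔ N)).Normal :=
    Subgroup.normal_subgroupOf_of_le_normalizer (sup_le hB Subgroup.le_normalizer)
  have h1 : (N.subgroupOf (B ⊔ N)).relIndex (A.subgroupOf (B ⊔ N)) = N.relIndex A :=
    Subgroup.relIndex_subgroupOf hle
  have h2 : (N.subgroupOf (B ⊔ N)).relIndex (B.subgroupOf (B ⊔ N)) = N.relIndex B :=
    Subgroup.relIndex_subgroupOf le_sup_left
  have h3 : B.subgroupOf (B ⊔ N) ⊔ N.subgroupOf (B ⊔ N) = ⊤ := by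
    rw [← Subgroup.subgroupOf_sup le_sup_left le_sup_right, Subgroup.subgroupOf_self]
  have h4 : (N.subgroupOf (B ⊔ N)).index =
      (N.subgroupOf (B ⊔ N)).relIndex (B.subgroupOf (B ⊔ N)) := by
    rw [← Subgroup.relIndex_top_right, ← h3, Subgroup.relIndex_sup_right]
  have h5 := (N.subgroupOf (B ⊔ N)).relIndex_dvd_index_of_normal (A.subgroupOf (B ⊔ N))
  rw [h1, h4, h2] at h5
  exact hcard ((hdvd.trans h5).trans (Subgroup.relIndex_dvd_card _ _))

theorem pPrimeCore_not_dvd [hp : Fact p.Prime] (H : Subgroup G) : ¬ p ∣ Nat.card ↥(coreIn p H) :=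
  fun h => hp.out.ne_one (Nat.eq_one_of_dvd_coprimes (coreIn_coprime (p := p) H) h dvd_rfl)

/-- A `p`-component of a subnormal subgroup is a `p`-component. -/
theorem isPComponent_map_subtype [Fact p.Prime] {N : Subgroup G} (hN : N.IsSubnormal)
    {W : Subgroup ↥N} (hW : IsPComponent p W) : IsPComponent p (W.map N.subtype) := by
  set π := QuotientGroup.mk' (pPrimeCore p G)
  set πN := QuotientGroup.mk' (pPrimeCore p ↥N)
  have hker : (π.comp N.subtype).ker = pPrimeCore p ↥N := by
    rw [← pPrimeCore_eq_ker_subgroupMap hN]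
    ext n
    rw [MonoidHom.mem_ker, MonoidHom.mem_ker]
    exact ⟨fun h => Subtype.ext h, fun h => congrArg Subtype.val h⟩
  let ψ := QuotientGroup.lift (pPrimeCore p ↥N) (π.comp N.subtype) hker.ge
  have hψ : Function.Injective ψ := by
    rw [← MonoidHom.ker_eq_bot_iff, QuotientGroup.ker_lift, hker]
    exact QuotientGroup.map_mk'_self _
  have hmap : ∀ H : Subgroup ↥N, (H.map N.subtype).map π = (H.map πN).map ψ := by
    intro H
    rw [Subgroup.map_map, Subgroup.map_map]
    rfl
  have hrange : ψ.range = N.map π := by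
    rw [MonoidHom.range_eq_map, ← Subgroup.map_top_of_surjective πN (QuotientGroup.mk'_surjective _),
      ← hmap ⊤, ← MonoidHom.range_eq_map, Subgroup.range_subtype]
  refine ⟨hW.1.trans' hN, ?_, ?_⟩
  · rw [hmap W]
    have h1 := Components.Component.map_equiv (MonoidHom.ofInjective hψ) hW.2.1
    have h2 := Components.Component.map_subtype (H := ψ.range)
      (by rw [hrange]; exact hN.map (f := π) (QuotientGroup.mk'_surjective _)) h1
    rw [Subgroup.map_map] at h2
    exact h2
  · intro H hH hle he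
    have hHN : H ≤ N := hle.trans (Subgroup.map_subtype_le _)
    have h1 : (H.subgroupOf N).map N.subtype = H := Subgroup.map_subgroupOf_eq_of_le hHN
    have h2 : H.subgroupOf N = W := by
      refine hW.2.2 _ hH.subgroupOf ?_ ?_
      · rw [← Subgroup.map_le_map_iff_of_injective N.subtype_injective, h1]; exact hle
      · apply Subgroup.map_injective hψ
        rw [← hmap, ← hmap, h1, he]
    rw [← h1, h2]

theorem isPComponentOf_subgroupOf {W H C : Subgroup G} (h : IsPComponentOf p W H) (hHC : H ≤ C) :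
    IsPComponentOf p (W.subgroupOf C) (H.subgroupOf C) := by
  refine ⟨fun w hw => h.1 hw, ?_⟩
  have h1 := Components.PComponent.map_equiv (Subgroup.subgroupOfEquivOfLe hHC).symm h.2
  have h2 : (W.subgroupOf C).subgroupOf (H.subgroupOf C) =
      (W.subgroupOf H).map (Subgroup.subgroupOfEquivOfLe hHC).symm.toMonoidHom := by
    ext w
    constructor
    · intro hw
      exact ⟨(Subgroup.subgroupOfEquivOfLe hHC) w, hw,
        (Subgroup.subgroupOfEquivOfLe hHC).symm_apply_apply w⟩
    · rintro ⟨u, hu, rfl⟩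
      exact hu
  rw [h2]
  exact h1

theorem isPComponentOf_of_subnormal [Fact p.Prime] {W H C : Subgroup G} (h : IsPComponentOf p W H)
    (hHC : H ≤ C) (hsn : (H.subgroupOf C).IsSubnormal) : IsPComponentOf p W C := by
  refine ⟨h.1.trans hHC, ?_⟩
  have h1 := isPComponent_map_subtype hsn (isPComponentOf_subgroupOf h hHC).2
  rwa [Subgroup.map_subgroupOf_eq_of_le (show W.subgroupOf C ≤ H.subgroupOf C from fun w hw => h.1 hw)] at h1

/-- A `p`-component has no proper normal subgroup of `p'`-index. -/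
theorem le_of_not_dvd_relIndex [hp : Fact p.Prime] {W C N : Subgroup G} (h : IsPComponentOf p W C)
    (hn : W ≤ Subgroup.normalizer (N : Set G)) (hi : ¬ p ∣ N.relIndex W) : W ≤ N := by
  have h1 : (N ⊓ W).subgroupOf C = W.subgroupOf C := by
    refine pComponent_eq_of_index h.2 (fun w hw => hw.2) (fun w hw => ?_) ?_
    · rw [Subgroup.mem_normalizer_iff]
      intro z
      have e1 := Subgroup.mem_normalizer_iff.1 (hn hw) (z : G)
      have e2 := Subgroup.mem_normalizer_iff.1 (Subgroup.le_normalizer (show (w : G) ∈ W from hw)) (z : G)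
      exact ⟨fun hz => ⟨e1.1 hz.1, e2.1 hz.2⟩, fun hz => ⟨e1.2 hz.1, e2.2 hz.2⟩⟩
    · rw [Subgroup.relIndex_subgroupOf h.1, Subgroup.inf_relIndex_right]
      exact ((hp.out.coprime_iff_not_dvd).2 hi).symm
  intro w hw
  exact ((Subgroup.ext_iff.1 h1 ⟨w, h.1 hw⟩).2 hw).1

/-- A `p`-component lies in, or centralizes modulo `O_{p'}`, each subnormal subgroup. -/
theorem le_or_commutator_le [Fact p.Prime] {X : Type*} [Group X] [Finite X] {K M : Subgroup X}
    (hK : IsPComponent p K) (hM : M.IsSubnormal) : K ≤ M ∨ ⁅M, K⁆ ≤ pPrimeCore p X := by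
  set π := QuotientGroup.mk' (pPrimeCore p X)
  rcases Components.Component.le_or_commutator_eq_bot hK.2.1 (N := M.map π)
    (hM.map (f := π) (QuotientGroup.mk'_surjective _)) with h | h
  · left
    refine Components.PComponent.le_of_subnormal hK hM ?_
    rw [Subgroup.map_le_map_iff, QuotientGroup.ker_mk'] at h
    exact h
  · right
    rwa [← map_commutator, Subgroup.map_eq_bot_iff, QuotientGroup.ker_mk'] at h

/-- The order of `K / O_{p'}(K)` is that of its image. -/
theorem card_map_mk {X : Type*} [Group X] [Finite X] {K : Subgroup X} (hK : IsPComponent p K) :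
    Nat.card ↥(K.map (QuotientGroup.mk' (pPrimeCore p X))) = Nat.card (↥K ⧸ pPrimeCore p ↥K) := by
  refine (Nat.card_congr ?_).symm
  exact ((QuotientGroup.quotientMulEquivOfEq (pPrimeCore_eq_ker_subgroupMap hK.1)).symm.trans
    (QuotientGroup.quotientKerEquivOfSurjective _
      (MonoidHom.subgroupMap_surjective (QuotientGroup.mk' (pPrimeCore p X)) K))).toEquiv

theorem nonempty_map_mk_equiv {X : Type*} [Group X] [Finite X] {K : Subgroup X}
    (hK : IsPComponent p K) :
    Nonempty (↥K ⧸ pPrimeCore p ↥K ≃* ↥(K.map (QuotientGroup.mk' (pPrimeCore p X)))) :=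
  ⟨(QuotientGroup.quotientMulEquivOfEq (pPrimeCore_eq_ker_subgroupMap hK.1)).symm.trans
    (QuotientGroup.quotientKerEquivOfSurjective _
      (MonoidHom.subgroupMap_surjective (QuotientGroup.mk' (pPrimeCore p X)) K))⟩

/-- `K / O_{p'}(K)` computed in any subgroup containing `K`. -/
theorem nonempty_subgroupOf_equiv {K C : Subgroup G} (hKC : K ≤ C) :
    Nonempty (↥(K.subgroupOf C) ⧸ pPrimeCore p ↥(K.subgroupOf C) ≃* ↥K ⧸ pPrimeCore p ↥K) :=
  ⟨QuotientGroup.congr _ _ (Subgroup.subgroupOfEquivOfLe hKC)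
    (Cores.map_pPrimeCore_equiv (Subgroup.subgroupOfEquivOfLe hKC))⟩

end General

section Cover

variable [Finite G] [hp : Fact p.Prime] {x : G} {K : Subgroup G}

/-- A `p`-subgroup centralizing `K / O_{p'}(K)` has centralizer covering it. -/
theorem exists_core_mul_mem (hK : IsPComponentOf p K (Subgroup.centralizer ({x} : Set G)))
    {R : Subgroup G} (hR : IsPGroup p ↥R) (hRD : R ≤ centralizerOfPComponent p x K) {k : G} (hk : k ∈ K) :
    ∃ n ∈ coreIn p K, n * k ∈ K ⊓ Subgroup.centralizer (R : Set G) := by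
  have hn : R ≤ Subgroup.normalizer (coreIn p K : Set G) := by
    have hRK : R ≤ Subgroup.normalizer (K : Set G) := by
      intro r hr
      have hm : ∀ s ∈ R, ∀ a ∈ K, s * a * s⁻¹ ∈ K := by
        intro s hs a ha
        have := mul_mem (coreIn_le K (PTerminal.Basic.commutator_mem hK (hRD hs) a ha)) ha
        simpa using this
      rw [Subgroup.mem_normalizer_iff]
      refine fun a => ⟨hm r hr a, fun ha => ?_⟩
      simpa [mul_assoc] using hm _ (inv_mem hr) _ ha
    exact hRK.trans (le_normalizer_map_characteristic' K)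
  obtain ⟨n, hn', hc⟩ := Cfsg.Agent.Lib.Coprime.exists_fixed_mul hn
    (coprime_card_of_isPGroup hR (pPrimeCore_not_dvd K))
    (Or.inl (Cfsg.Agent.Lib.Coprime.isSolvable_of_isPGroup hR))
    (fun a ha => PTerminal.Basic.commutator_mem hK (hRD ha) k hk)
  exact ⟨n, hn', mul_mem (coreIn_le K hn') hk, hc⟩
where
  le_normalizer_map_characteristic' (K : Subgroup G) :
      Subgroup.normalizer (K : Set G) ≤ Subgroup.normalizer (coreIn p K : Set G) :=
    haveI : (pPrimeCore p ↥K).Characteristic := by infer_instance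
    le_normalizer_map_characteristic (pPrimeCore p ↥K)

theorem le_inf_centralizer_sup (hK : IsPComponentOf p K (Subgroup.centralizer ({x} : Set G)))
    {R : Subgroup G} (hR : IsPGroup p ↥R) (hRD : R ≤ centralizerOfPComponent p x K) :
    K ≤ (K ⊓ Subgroup.centralizer (R : Set G)) ⊔ coreIn p K := by
  intro k hk
  obtain ⟨n, hn, h⟩ := exists_core_mul_mem hK hR hRD hk
  rw [show k = n⁻¹ * (n * k) by group]
  exact mul_mem (mem_sup_right (inv_mem hn)) (mem_sup_left h)

/-- An element of order `p` outside `O_{p'}(K)` can be made to centralize `R`. -/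
theorem exists_fixed_order (hK : IsPComponentOf p K (Subgroup.centralizer ({x} : Set G)))
    {R : Subgroup G} (hR : IsPGroup p ↥R) (hRD : R ≤ centralizerOfPComponent p x K)
    {W : Subgroup G} (hWK : W ≤ K) (hOW : coreIn p K ≤ W) {g : G} (hgW : g ∈ W) (hg : orderOf g = p) :
    ∃ v ∈ W, v ∈ Subgroup.centralizer (R : Set G) ∧ orderOf v = p := by
  obtain ⟨n, hn, h⟩ := exists_core_mul_mem hK hR hRD (hWK hgW)
  have hOn : (coreIn p K).subgroupOf K = pPrimeCore p ↥K :=
    Subgroup.comap_map_eq_self_of_injective K.subtype_injective _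
  have hdvd : p ∣ orderOf (n * g) := by
    set q := QuotientGroup.mk' (pPrimeCore p ↥K)
    have h1 : q ⟨n * g, h.1⟩ = q ⟨g, hWK hgW⟩ := by
      have : (⟨n * g, h.1⟩ : ↥K) = ⟨n, coreIn_le K hn⟩ * ⟨g, hWK hgW⟩ := rfl
      rw [this, map_mul, show q ⟨n, coreIn_le K hn⟩ = 1 from
        (QuotientGroup.eq_one_iff _).2 (by rw [← hOn]; exact hn), one_mul]
    have h2 : orderOf (q ⟨g, hWK hgW⟩) = p := by
      refine orderOf_eq_prime ?_ fun h0 => ?_
      · rw [← map_pow]
        have : (⟨g, hWK hgW⟩ : ↥K) ^ p = 1 := Subtype.ext (by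
          simpa [hg] using pow_orderOf_eq_one g)
        rw [this, map_one]
      · have hg' : g ∈ coreIn p K := ⟨_, (QuotientGroup.eq_one_iff _).1 h0, rfl⟩
        exact pPrimeCore_not_dvd (p := p) K (dvd_trans (dvd_of_eq hg.symm) (Subgroup.orderOf_dvd_natCard _ hg'))
    rw [← h1] at h2
    rw [← h2]
    refine dvd_trans (orderOf_map_dvd q _) (dvd_of_eq ?_)
    exact (Subgroup.orderOf_mk _ _)
  refine ⟨(n * g) ^ (orderOf (n * g) / p), pow_mem (mul_mem (hOW hn) hgW) _, pow_mem h.2 _, ?_⟩
  exact orderOf_pow_orderOf_div (orderOf_pos _).ne' hdvd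

/-- The `p`-layer of `C_K(S)` for `S` in the centralizer of `K / O_{p'}(K)`. -/
theorem lay_spec (hK : IsPComponentOf p K (Subgroup.centralizer ({x} : Set G))) {S : Set G}
    (hS : IsPGroup p ↥(Subgroup.closure S)) (hSD : S ⊆ centralizerOfPComponent p x K) :
    IsPComponentOf p (lay p K S) (Subgroup.centralizer ({x} : Set G) ⊓ Subgroup.centralizer S) ∧
      K ≤ lay p K S ⊔ coreIn p K ∧
      Nonempty (↥(lay p K S) ⧸ pPrimeCore p ↥(lay p K S) ≃* ↥K ⧸ pPrimeCore p ↥K) := by
  set C := Subgroup.centralizer ({x} : Set G)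
  have hcov0 : K ≤ (K ⊓ Subgroup.centralizer S) ⊔ coreIn p K := by
    have := le_inf_centralizer_sup hK hS ((Subgroup.closure_le _).2 hSD)
    rwa [Subgroup.centralizer_closure] at this
  set H := K ⊓ Subgroup.centralizer S with hH
  have hq := PTerminal.Basic.isQuasisimple_quotient hK
  obtain ⟨e⟩ := quotient_equiv_of_cover (inf_le_left : H ≤ K) hcov0
  have hqH : IsQuasisimple (↥H ⧸ pPrimeCore p ↥H) := Components.Quasisimple.of_mulEquiv hq e.symm
  have htop : IsComponent (⊤ : Subgroup (↥H ⧸ pPrimeCore p ↥H)) :=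
    ⟨Subgroup.IsSubnormal.top, Components.Quasisimple.of_mulEquiv hqH Subgroup.topEquiv.symm⟩
  obtain ⟨L0, hL0, hL0top⟩ := Components.PComponent.exists_over htop
  have huniq : pLayer p ↥H = L0 := by
    refine le_antisymm (sSup_le fun W hW => le_of_eq ?_) (le_sSup hL0)
    refine Components.PComponent.eq_of_map_eq hW hL0 (hL0top.symm ▸ ?_)
    rcases Components.Component.eq_or_commutator_eq_bot hW.2.1 htop with h | h
    · exact h
    · exfalso
      refine Components.Component.not_le_centralizer_self hW.2.1 (le_trans le_top ?_) |>.elim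
      rw [← Subgroup.commutator_eq_bot_iff_le_centralizer, Subgroup.commutator_comm]
      exact h
  have hcov := PTerminal.Basic.le_pLayerOf_sup_core hq (inf_le_left : H ≤ K) hcov0
  have hHC : H ≤ C ⊓ Subgroup.centralizer S := inf_le_inf_right _ hK.1
  have hL : IsPComponentOf p (lay p K S) H := by
    refine ⟨Subgroup.map_subtype_le _, ?_⟩
    show IsPComponent p ((pLayerOf p H).subgroupOf H)
    rw [pLayerOf, Subgroup.subgroupOf, Subgroup.comap_map_eq_self_of_injective H.subtype_injective,
      huniq]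
    exact hL0
  refine ⟨isPComponentOf_of_subnormal hL hHC ?_, hcov,
    quotient_equiv_of_cover ((Subgroup.map_subtype_le _).trans inf_le_left) hcov⟩
  let ι := Subgroup.inclusion (inf_le_left : C ⊓ Subgroup.centralizer S ≤ C)
  have h1 : H.subgroupOf (C ⊓ Subgroup.centralizer S) = (K.subgroupOf C).comap ι := by
    ext g
    exact ⟨fun hg => hg.1, fun hg => ⟨hg, g.2.2⟩⟩
  rw [h1]
  exact hK.2.1.comap ι
where
  quotient_equiv_of_cover {H K : Subgroup G} (hHK : H ≤ K) (hcov : K ≤ H ⊔ coreIn p K) :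
      Nonempty (↥H ⧸ pPrimeCore p ↥H ≃* ↥K ⧸ pPrimeCore p ↥K) := by
    let φ : ↥H →* ↥K ⧸ pPrimeCore p ↥K :=
      (QuotientGroup.mk' (pPrimeCore p ↥K)).comp (Subgroup.inclusion hHK)
    have hWn : K ≤ Subgroup.normalizer (coreIn p K : Set G) := le_normalizer_coreIn K
    have hφ : Function.Surjective φ := by
      intro z
      obtain ⟨k, rfl⟩ := QuotientGroup.mk'_surjective _ z
      have hk : (k : G) ∈ (H : Set G) * (coreIn p K : Set G) := by
        rw [← Subgroup.coe_mul_of_left_le_normalizer_right _ _ (hHK.trans hWn)]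
        exact hcov k.2
      obtain ⟨a, ha, b, ⟨b', hb', hbe⟩, e⟩ := hk
      refine ⟨⟨a, ha⟩, ?_⟩
      have hk' : k = Subgroup.inclusion hHK ⟨a, ha⟩ * b' :=
        Subtype.ext (by rw [Subgroup.coe_mul]; exact (hbe ▸ e).symm)
      rw [hk', map_mul, show (QuotientGroup.mk' (pPrimeCore p ↥K)) b' = 1 from
        (QuotientGroup.eq_one_iff b').2 hb', mul_one]
      rfl
    have hcore : φ.ker = pPrimeCore p ↥H := by
      refine le_antisymm (Cores.le_pPrimeCore ?_) ?_
      · refine (Cores.pPrimeCore_coprime (G := ↥K) p).coprime_dvd_left ?_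
        rw [← Subgroup.card_map_of_injective (f := Subgroup.inclusion hHK) (Subgroup.inclusion_injective hHK)]
        refine Subgroup.card_dvd_of_le ?_
        rintro _ ⟨w, hw, rfl⟩
        exact (QuotientGroup.eq_one_iff _).1 hw
      · have h1 := Cores.map_pPrimeCore_le (p := p) φ hφ
        rw [Cores.pPrimeCore_quotient_pPrimeCore p, Subgroup.map_le_iff_le_comap,
          MonoidHom.comap_bot] at h1
        exact h1
    exact ⟨(QuotientGroup.quotientMulEquivOfEq hcore).symm.trans
      (QuotientGroup.quotientKerEquivOfSurjective φ hφ)⟩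

/-- The layers shrink as `S` grows. -/
theorem lay_mono (hK : IsPComponentOf p K (Subgroup.centralizer ({x} : Set G))) {S T : Set G}
    (hS : IsPGroup p ↥(Subgroup.closure S)) (hSD : S ⊆ centralizerOfPComponent p x K)
    (hT : IsPGroup p ↥(Subgroup.closure T)) (hTD : T ⊆ centralizerOfPComponent p x K) (hST : S ⊆ T) :
    lay p K T ≤ lay p K S := by
  obtain ⟨hLT, -, -⟩ := lay_spec hK hT hTD
  obtain ⟨-, hcovS, -⟩ := lay_spec hK hS hSD
  set H := K ⊓ Subgroup.centralizer S with hH
  have hnH : H ≤ Subgroup.normalizer (lay p K S : Set G) := by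
    haveI : (pLayer p ↥H).Normal := inferInstance
    intro h hh
    rw [Subgroup.mem_normalizer_iff]
    intro g
    constructor
    · rintro ⟨a, ha, rfl⟩
      exact ⟨⟨h, hh⟩ * a * ⟨h, hh⟩⁻¹, Subgroup.Normal.conj_mem inferInstance a ha _, rfl⟩
    · rintro ⟨a, ha, he⟩
      refine ⟨⟨h, hh⟩⁻¹ * a * ⟨h, hh⟩, ?_, ?_⟩
      · simpa using Subgroup.Normal.conj_mem inferInstance a ha (⟨h, hh⟩⁻¹ : ↥H)
      · simp only [Subgroup.coe_subtype] at he
        simp [he, mul_assoc]
  have hWH : lay p K T ≤ H :=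
    (Subgroup.map_subtype_le _).trans (inf_le_inf_left _ (Subgroup.centralizer_le hST))
  refine le_of_not_dvd_relIndex hLT (hWH.trans hnH)
    (not_dvd_relIndex_of_le_sup (B := H ⊓ coreIn p K) ((inf_le_left).trans hnH) ?_ fun h =>
      pPrimeCore_not_dvd (p := p) K (h.trans (Subgroup.card_dvd_of_le inf_le_right)))
  intro w hw
  have hLn : lay p K S ≤ Subgroup.normalizer (coreIn p K : Set G) :=
    ((Subgroup.map_subtype_le _).trans inf_le_left).trans (le_normalizer_coreIn K)
  have hw' := hcovS ((hWH hw).1)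
  rw [← SetLike.mem_coe, Subgroup.coe_mul_of_left_le_normalizer_right _ _ hLn, Set.mem_mul] at hw'
  obtain ⟨l, hl, o, ho, rfl⟩ := hw'
  refine mul_mem (mem_sup_right hl) (mem_sup_left ⟨?_, ho⟩)
  have : l⁻¹ * (l * o) ∈ H := mul_mem (inv_mem (Subgroup.map_subtype_le _ hl)) (hWH hw)
  simpa using this

end Cover

section Pumped

variable [Finite G] [hp : Fact p.Prime] {x y : G} {K : Subgroup G}

/-- The hypothesis of the Schreier property for all `C(x) / O_{p'}(C(x))`. -/
def SchreierHyp (p : ℕ) (G : Type*) [Group G] : Prop :=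
  ∀ x : G, orderOf x = p →
    ∀ K : Subgroup (↥(Subgroup.centralizer ({x} : Set G)) ⧸ pPrimeCore p ↥(Subgroup.centralizer ({x} : Set G))),
      IsComponent K → Group.IsSolvable (Out (↥K ⧸ Subgroup.center ↥K))

/-- `K` is a pair of largest size. -/
def IsMaxSize (p : ℕ) (K : Subgroup G) : Prop :=
  ∀ (z : G) (J : Subgroup G), orderOf z = p → IsPComponentOf p J (Subgroup.centralizer ({z} : Set G)) →
    size p J ≤ size p K

theorem mem_centralizer_of_mem (hy : y ∈ centralizerOfPComponent p x K) :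
    x ∈ Subgroup.centralizer ({y} : Set G) :=
  Subgroup.mem_centralizer_singleton_iff.2
    (Subgroup.mem_centralizer_singleton_iff.1 ((Subgroup.map_subtype_le _) hy)).symm

theorem isPGroup_closure_singleton (hy : orderOf y = p) :
    IsPGroup p ↥(Subgroup.closure ({y} : Set G)) := by
  rw [← Subgroup.zpowers_eq_closure]
  exact IsPGroup.of_card (n := 1) (by rw [Nat.card_zpowers, hy, pow_one])

/-- The centralizer of an element of `p`-power order in `C(y) / O_{p'}(C(y))`. -/
theorem centralizer_pr {e : G} (he : e ∈ Subgroup.centralizer ({y} : Set G))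
    (hep : IsPGroup p ↥(Subgroup.zpowers e)) :
    Subgroup.centralizer ({pr p y ⟨e, he⟩} : Set (Bar p y)) =
      img p y (Subgroup.centralizer ({e} : Set G)) := by
  set C := Subgroup.centralizer ({y} : Set G)
  apply le_antisymm
  · intro g hg
    obtain ⟨g, rfl⟩ := QuotientGroup.mk'_surjective _ g
    set e' : ↥C := ⟨e, he⟩
    have hA : IsPGroup p ↥(Subgroup.zpowers e') := by
      let φ : ↥(Subgroup.zpowers e') →* ↥(Subgroup.zpowers e) :=
        (C.subtype.comp (Subgroup.zpowers e').subtype).codRestrict _ (by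
          rintro ⟨z, i, rfl⟩
          exact ⟨i, by simp [e']⟩)
      refine hep.of_injective φ ?_
      intro a b h
      exact Subtype.ext (Subtype.ext (by simpa [φ] using congrArg Subtype.val h))
    obtain ⟨n, hn, hc⟩ := Cfsg.Agent.Lib.Coprime.exists_fixed_mul
      (A := Subgroup.zpowers e') (N := pPrimeCore p ↥C) (k := g)
      (by rw [Subgroup.normalizer_eq_top]; exact le_top)
      (coprime_card_of_isPGroup hA (Cores.not_dvd_card_pPrimeCore p))
      (Or.inl (Cfsg.Agent.Lib.Coprime.isSolvable_of_isPGroup hA))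
      (by
        rintro _ ⟨i, rfl⟩
        rw [← QuotientGroup.eq_one_iff]
        change pr p y _ = 1
        have hcomm : Commute (pr p y e') (pr p y g) :=
          (Subgroup.mem_centralizer_singleton_iff.1 hg).symm
        rw [map_mul, map_mul, map_mul, map_inv, map_inv, map_zpow, (hcomm.zpow_left i).eq]
        group)
    refine ⟨n * g, ?_, by rw [map_mul, show pr p y n = 1 from (QuotientGroup.eq_one_iff _).2 hn, one_mul]⟩
    exact Subgroup.mem_centralizer_singleton_iff.2
      (congrArg Subtype.val (Subgroup.mem_centralizer_iff.1 hc e' (Subgroup.mem_zpowers e'))).symm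
  · rintro _ ⟨g, hg, rfl⟩
    refine Subgroup.mem_centralizer_singleton_iff.2 ?_
    rw [← map_mul, ← map_mul]
    exact congrArg _ (Subtype.ext (Subgroup.mem_centralizer_singleton_iff.1 hg))

/-- **Pumping up** under the Schreier property. -/
theorem pumped (hS : SchreierHyp p G) (hx : orderOf x = p)
    (hK : IsPComponentOf p K (Subgroup.centralizer ({x} : Set G))) (hmax : IsMaxSize p K)
    (hy : y ∈ centralizerOfPComponent p x K) (hyo : orderOf y = p) :
    (IsSingle p K y ∨ IsDiag p x K y) ∧ Nat.card ↥(img p y (lay p K {y})) = size p K ∧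
      ∀ g : ↥(Subgroup.centralizer ({y} : Set G)), (g : G) ∈ coreIn p (lay p K {y}) → pr p y g = 1 := by
  classical
  set C := Subgroup.centralizer ({y} : Set G) with hC
  set L := lay p K {y} with hLdef
  obtain ⟨hL, -, ⟨eL⟩⟩ := lay_spec hK (isPGroup_closure_singleton hyo) (Set.singleton_subset_iff.2 hy)
  set C' := Subgroup.centralizer ({x} : Set G) ⊓ C with hC'
  have hC'C : C' ≤ C := inf_le_right
  have hxC : x ∈ C := mem_centralizer_of_mem hy
  set xb := pr p y ⟨x, hxC⟩ with hxb
  have hxp : xb ^ p = 1 := by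
    rw [hxb, ← map_pow, show (⟨x, hxC⟩ : ↥C) ^ p = 1 from Subtype.ext (by
      simp [← hx, pow_orderOf_eq_one]), map_one]
  have hrange : Subgroup.centralizer ({xb} : Set (Bar p y)) = img p y (Subgroup.centralizer ({x} : Set G)) :=
    centralizer_pr hxC (IsPGroup.of_card (n := 1) (by rw [Nat.card_zpowers, hx, pow_one]))
  have himgC' : img p y C' = Subgroup.centralizer ({xb} : Set (Bar p y)) := by
    rw [hrange]
    exact congrArg (Subgroup.map (pr p y)) (Subgroup.ext fun g => ⟨fun h => h.1, fun h => ⟨h, g.2⟩⟩)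
  set A := img p y L with hA
  have hLC : L ≤ C := hL.1.trans hC'C
  have hperfL : ⁅L, L⁆ = L := PTerminal.Basic.commutator_self hL
  have hperf : ⁅A, A⁆ = A := by
    rw [hA, img, ← map_commutator]
    congr 1
    apply Subgroup.map_injective C.subtype_injective
    rw [Components.commutator_subgroupOf_map hLC hLC, hperfL, Subgroup.map_subgroupOf_eq_of_le hLC]
  have hAcard : size p K ≤ Nat.card ↥A := by
    set f := (pr p y).comp (Subgroup.inclusion hLC) with hf
    have hfr : f.range = A := by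
      ext a
      constructor
      · rintro ⟨l, rfl⟩; exact ⟨Subgroup.inclusion hLC l, l.2, rfl⟩
      · rintro ⟨g, hg, rfl⟩; exact ⟨⟨g, hg⟩, rfl⟩
    rw [size, ← Nat.card_congr eL.toEquiv, ← hfr, ← Subgroup.index_ker, ← Subgroup.index_eq_card]
    have hk : f.ker ≤ pPrimeCore p ↥L := by
      refine Cores.le_pPrimeCore ?_
      refine (Cores.pPrimeCore_coprime (G := ↥C) p).coprime_dvd_left ?_
      rw [← Subgroup.card_map_of_injective (f := Subgroup.inclusion hLC) (Subgroup.inclusion_injective hLC)]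
      refine Subgroup.card_dvd_of_le ?_
      rintro _ ⟨w, hw, rfl⟩
      exact (QuotientGroup.eq_one_iff _).1 hw
    exact Nat.le_of_dvd (Nat.pos_of_ne_zero f.ker.index_ne_zero_of_finite) (Subgroup.index_dvd_of_le hk)
  have hsize1 : 1 < size p K := by
    haveI := Components.Quasisimple.nontrivial (PTerminal.Basic.isQuasisimple_quotient hK)
    exact Finite.one_lt_card
  have hA1 : A ≠ ⊥ := fun h => by
    rw [h, Subgroup.card_bot] at hAcard
    omega
  -- L-balance
  set x' : ↥C := ⟨x, hxC⟩
  have hL' : IsPComponentOf p (L.subgroupOf C) (C'.subgroupOf C) := isPComponentOf_subgroupOf hL hC'C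
  have hC'N : C'.subgroupOf C ≤ Subgroup.normalizer (Subgroup.zpowers x' : Set ↥C) := by
    refine le_trans ?_ (Subgroup.centralizer_le_normalizer _)
    intro g hg
    refine Subgroup.mem_centralizer_iff.2 ?_
    rintro _ ⟨i, rfl⟩
    exact ((show Commute x' g from Subtype.ext
      (Subgroup.mem_centralizer_singleton_iff.1 hg.1).symm).zpow_left i).eq
  have hAE : A ≤ layer (Bar p y) := by
    set N := Subgroup.normalizer (Subgroup.zpowers x' : Set ↥C)
    haveI : ((C'.subgroupOf C).subgroupOf N).Normal := by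
      refine ⟨fun c hc n => ?_⟩
      have hn := n.2
      obtain ⟨i, hi⟩ : (n : ↥C)⁻¹ * x' * n ∈ Subgroup.zpowers x' := by
        rw [Subgroup.mem_normalizer_iff.1 hn]
        simp [mul_assoc, Subgroup.mem_zpowers]
      have hc' : Commute x' (c : ↥C) := Subtype.ext
        (Subgroup.mem_centralizer_singleton_iff.1 (show ((c : ↥C) : G) ∈ C' from hc).1).symm
      refine ⟨Subgroup.mem_centralizer_singleton_iff.2 ?_, ((n * c * n⁻¹ : ↥N) : ↥C).2⟩
      have h3 : x' * ((n : ↥C) * c * (n : ↥C)⁻¹) = (n : ↥C) * c * (n : ↥C)⁻¹ * x' := by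
        have h4 : x' ^ i * (c : ↥C) = (c : ↥C) * x' ^ i := (hc'.zpow_left i).eq
        change x' ^ i = _ at hi
        calc x' * ((n : ↥C) * c * (n : ↥C)⁻¹)
            = (n : ↥C) * (((n : ↥C)⁻¹ * x' * n) * c) * (n : ↥C)⁻¹ := by group
          _ = (n : ↥C) * (c * ((n : ↥C)⁻¹ * x' * n)) * (n : ↥C)⁻¹ := by rw [← hi, h4]
          _ = _ := by group
      exact (congrArg Subtype.val h3).symm
    have h1 := isPComponentOf_of_subnormal hL' hC'N (Subgroup.Normal.isSubnormal inferInstance)
    have hRp : IsPGroup p ↥(Subgroup.zpowers x') :=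
      IsPGroup.of_card (n := 1) (by rw [Nat.card_zpowers, Subgroup.orderOf_mk, hx, pow_one])
    have h2 := SchreierBalance.map_pLayer_normalizer_le (G := ↥C) (hS y hyo) hRp
    rw [hA, img, ← Components.PComponent.map_pLayer]
    refine Subgroup.map_mono (le_trans ?_ h2)
    rw [← Subgroup.map_subgroupOf_eq_of_le h1.1]
    exact Subgroup.map_mono (le_sSup h1.2)
  have hAσ : ∀ a ∈ A, xb * a = a * xb := by
    intro a ha
    have h0 : a ∈ Subgroup.centralizer ({xb} : Set (Bar p y)) :=
      himgC' ▸ (Subgroup.map_mono (fun l hl => hL.1 hl) : img p y L ≤ img p y C') ha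
    exact (Subgroup.mem_centralizer_singleton_iff.1 h0).symm
  have hdich : ∀ M : Subgroup (Bar p y), M ≤ layer (Bar p y) ⊓ Subgroup.centralizer ({xb} : Set (Bar p y)) →
      layer (Bar p y) ⊓ Subgroup.centralizer ({xb} : Set (Bar p y)) ≤ Subgroup.normalizer (M : Set (Bar p y)) →
      A ≤ M ∨ ¬ p ∣ Nat.card ↥⁅M, A⁆ := by
    intro M hM hMn
    set f := (pr p y).comp (Subgroup.inclusion hC'C) with hf
    have hfr : ∀ H : Subgroup G, H ≤ C' → (H.subgroupOf C').map f = img p y H := by
      intro H hH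
      ext a
      constructor
      · rintro ⟨h, hh, rfl⟩; exact ⟨Subgroup.inclusion hC'C h, hh, rfl⟩
      · rintro ⟨g, hg, rfl⟩; exact ⟨⟨g, hH hg⟩, hg, rfl⟩
    have hMr : (M.comap f).map f = M := by
      rw [Subgroup.map_comap_eq, inf_eq_right, MonoidHom.range_eq_map,
        ← Subgroup.subgroupOf_self C', hfr C' le_rfl, himgC']
      exact hM.trans inf_le_right
    set E' := (layer (Bar p y)).comap f
    haveI : E'.Normal :=
      haveI := SchreierBalance.layer_normal (G := Bar p y)
      inferInstance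
    have hsn : (M.comap f).IsSubnormal := by
      refine Subgroup.IsSubnormal.step _ E' (fun g hg => (hM hg).1) (Subgroup.Normal.isSubnormal inferInstance) ?_
      refine Subgroup.normal_subgroupOf_of_le_normalizer fun g hg => ?_
      have hgn : f g ∈ Subgroup.normalizer (M : Set (Bar p y)) := by
        refine hMn ⟨hg, ?_⟩
        rw [← himgC', ← hfr C' le_rfl, Subgroup.subgroupOf_self]
        exact Subgroup.mem_map_of_mem f (Subgroup.mem_top g)
      rw [Subgroup.mem_normalizer_iff]
      intro c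
      simp only [Subgroup.mem_comap, map_mul, map_inv]
      exact Subgroup.mem_normalizer_iff.1 hgn (f c)
    rcases le_or_commutator_le hL.2 hsn with h | h
    · left
      rw [hA, ← hfr L hL.1, ← hMr]
      exact Subgroup.map_mono h
    · right
      intro hd
      have h2 : ⁅M, A⁆ ≤ (pPrimeCore p ↥C').map f := by
        rw [hA, ← hfr L hL.1, ← hMr, ← map_commutator]
        exact Subgroup.map_mono h
      exact Cores.not_dvd_card_pPrimeCore (G := ↥C') p
        ((hd.trans (Subgroup.card_dvd_of_le h2)).trans (Subgroup.card_map_dvd _ _))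
  have hquot : ∀ N : Subgroup (Bar p y), A ≤ Subgroup.normalizer (N : Set (Bar p y)) →
      ¬ p ∣ N.relIndex A → A ≤ N := by
    intro N hN hi
    have h1 : L ≤ (N.comap (pr p y)).map C.subtype := by
      refine le_of_not_dvd_relIndex hL (fun l hl => ?_) ?_
      · rw [Subgroup.mem_normalizer_iff]
        have hl' := Subgroup.mem_normalizer_iff.1 (hN ⟨⟨l, hLC hl⟩, hl, rfl⟩)
        intro g
        constructor
        · rintro ⟨a, ha, rfl⟩
          refine ⟨⟨l, hLC hl⟩ * a * ⟨l, hLC hl⟩⁻¹, ?_, rfl⟩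
          rw [SetLike.mem_coe, Subgroup.mem_comap, map_mul, map_mul, map_inv]
          exact (hl' _).1 ha
        · rintro ⟨a, ha, he⟩
          refine ⟨⟨l, hLC hl⟩⁻¹ * a * ⟨l, hLC hl⟩, ?_, ?_⟩
          · rw [SetLike.mem_coe, Subgroup.mem_comap, map_mul, map_mul, map_inv, hl']
            simpa [mul_assoc] using ha
          · simp only [Subgroup.coe_subtype] at he
            simp [he, mul_assoc]
      · rw [← Subgroup.map_subgroupOf_eq_of_le hLC,
          Subgroup.relIndex_map_map_of_injective _ _ C.subtype_injective, Subgroup.relIndex_comap]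
        exact hi
    intro a ha
    obtain ⟨g, hg, rfl⟩ := ha
    obtain ⟨b, hb, he⟩ := h1 hg
    rwa [← show b = g from Subtype.ext he]
  obtain ⟨J, hJ, hle, hcase⟩ := Pump.pump hxp hperf hA1 hAE hAσ hdich hquot
  -- `J` is no larger than `K / O(K)`
  obtain ⟨J', hJ', hJ'J⟩ := Components.PComponent.exists_over hJ
  have hJC : J'.map C.subtype ≤ C := Subgroup.map_subtype_le _
  have hJsub : (J'.map C.subtype).subgroupOf C = J' :=
    Subgroup.comap_map_eq_self_of_injective C.subtype_injective _
  have hJG : IsPComponentOf p (J'.map C.subtype) C := ⟨hJC, by rw [hJsub]; exact hJ'⟩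
  obtain ⟨eJ⟩ := nonempty_subgroupOf_equiv (p := p) hJC
  have hJcard : Nat.card ↥J = size p (J'.map C.subtype) := by
    rw [← hJ'J, card_map_mk hJ']
    have := Nat.card_congr eJ.toEquiv
    rw [hJsub] at this
    exact this
  have hJle : Nat.card ↥J ≤ size p K := hJcard ▸ hmax y _ hyo hJG
  have hAeq : Nat.card ↥A = size p K := le_antisymm (hle.trans hJle) hAcard
  have hJeq : Nat.card ↥J = size p K := le_antisymm hJle (hAeq ▸ hle)
  set f := (pr p y).comp (Subgroup.inclusion hLC) with hf
  have hfr : f.range = A := by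
    ext a
    constructor
    · rintro ⟨l, rfl⟩; exact ⟨Subgroup.inclusion hLC l, l.2, rfl⟩
    · rintro ⟨g, hg, rfl⟩; exact ⟨⟨g, hg⟩, rfl⟩
  have hker : f.ker = pPrimeCore p ↥L := by
    have hk : f.ker ≤ pPrimeCore p ↥L := by
      refine Cores.le_pPrimeCore ?_
      refine (Cores.pPrimeCore_coprime (G := ↥C) p).coprime_dvd_left ?_
      rw [← Subgroup.card_map_of_injective (f := Subgroup.inclusion hLC) (Subgroup.inclusion_injective hLC)]
      refine Subgroup.card_dvd_of_le ?_
      rintro _ ⟨w, hw, rfl⟩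
      exact (QuotientGroup.eq_one_iff _).1 hw
    refine Subgroup.eq_of_le_of_card_ge hk (le_of_eq ?_)
    have h1 := f.ker.card_mul_index
    have h2 := (pPrimeCore p ↥L).card_mul_index
    have h3 : f.ker.index = (pPrimeCore p ↥L).index := by
      rw [Subgroup.index_ker, hfr, hAeq, Subgroup.index_eq_card, Nat.card_congr eL.toEquiv]
      rfl
    rw [← h2, ← h3] at h1
    exact (Nat.eq_of_mul_eq_mul_right (Nat.pos_of_ne_zero f.ker.index_ne_zero_of_finite) h1).symm
  refine ⟨?_, hAeq, fun g hg => ?_⟩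
  · rcases hcase with hAJ | hdiag
    · left
      have hAJeq : A = J := Subgroup.eq_of_le_of_card_ge hAJ (by rw [hAeq, hJeq])
      refine ⟨J'.map C.subtype, hJG, ?_, ?_⟩
      · have hL2 : L ≤ (pPrimeCore p ↥C).map C.subtype ⊔ J'.map C.subtype := by
          intro l hl
          have h1 : pr p y ⟨l, hLC hl⟩ ∈ J := hAJ ⟨⟨l, hLC hl⟩, hl, rfl⟩
          rw [← hJ'J, ← Subgroup.mem_comap, Subgroup.comap_map_eq, QuotientGroup.ker_mk'] at h1
          have h2 := Subgroup.mem_map_of_mem C.subtype h1
          rwa [Subgroup.map_sup, sup_comm] at h2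
        have hn : (pPrimeCore p ↥C).map C.subtype ⊔ J'.map C.subtype ≤
            Subgroup.normalizer (J'.map C.subtype : Set G) := by
          refine sup_le ?_ Subgroup.le_normalizer
          exact (Subgroup.map_mono (Components.PComponent.pPrimeCore_le_normalizer hJ')).trans
            (Subgroup.le_normalizer_map _)
        exact le_of_not_dvd_relIndex hL (hL2.trans hn)
          (not_dvd_relIndex_of_le_sup (le_sup_left.trans hn) hL2 (pPrimeCore_not_dvd C))
      · obtain ⟨e2⟩ := nonempty_map_mk_equiv hJ'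
        have e4 : ↥(J'.map (QuotientGroup.mk' (pPrimeCore p ↥C))) ≃* ↥f.range :=
          MulEquiv.subgroupCongr (by rw [hJ'J, hfr, hAJeq])
        have e5 := (QuotientGroup.quotientKerEquivRange f).symm.trans
          ((QuotientGroup.quotientMulEquivOfEq hker).trans eL)
        obtain ⟨e1⟩ : Nonempty (↥J' ⧸ pPrimeCore p ↥J' ≃*
            ↥(J'.map C.subtype) ⧸ pPrimeCore p ↥(J'.map C.subtype)) := by
          rw [hJsub] at eJ
          exact ⟨eJ⟩
        exact ⟨e1.symm.trans (e2.trans (e4.trans e5))⟩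
    · right
      exact ⟨hxC, J, hJ, hJeq, hdiag⟩
  · have hgL : (g : G) ∈ L := coreIn_le L hg
    obtain ⟨w, hw, he⟩ := hg
    have : w ∈ f.ker := hker ▸ hw
    rw [MonoidHom.mem_ker] at this
    rwa [show g = Subgroup.inclusion hLC w from Subtype.ext he.symm]

end Pumped

end Cfsg.Agent.Lib.Balance.PumpUp
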